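import Mathlib.Algebra.Homology.DerivedCategory.Ext.ExactSequences
import Mathlib.Algebra.Homology.DerivedCategory.Ext.EnoughInjectives
import Mathlib.Algebra.Category.Grp.Abelian
import Mathlib.Algebra.Category.Grp.EpiMono
import Groth.Agent.H92.DimShift

/-!
# `Ext^p(X, E -)` as the right derived functors of `Hom(X, E -)` (helper30)

`E : 𝒜 ⥤ ℬ` exact, `X : ℬ` such that `Ext^q(X, E I) = 0` for `q > 0` and `I` injective in `𝒜`.
Then, objectwise, `Ext^p(X, E M) ≅ R^p F₀ (M)` for any left exact `F₀` naturally (additively)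
isomorphic to `Hom(X, E -)`.
-/

set_option autoImplicit false

namespace Groth.Agent.H30.ExtDer

open CategoryTheory Limits Abelian

universe w v v' u u'

variable {𝒜 : Type u} [Category.{v} 𝒜] [Abelian 𝒜] [HasInjectiveResolutions 𝒜]
  {ℬ : Type u'} [Category.{v'} ℬ] [Abelian ℬ] [HasExt.{w} ℬ]
  (E : 𝒜 ⥤ ℬ) [E.Additive] [PreservesFiniteLimits E] [PreservesFiniteColimits E]
  (X : ℬ) (F₀ : 𝒜 ⥤ AddCommGrpCat.{w}) [F₀.Additive] [PreservesFiniteLimits F₀]
  (τ : ∀ M : 𝒜, F₀.obj M ≃+ (X ⟶ E.obj M))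
  (hτ : ∀ {M M' : 𝒜} (g : M ⟶ M') (x : F₀.obj M), τ M' (F₀.map g x) = τ M x ≫ E.map g)
  (hacy : ∀ (I : 𝒜), Injective I → ∀ (q : ℕ) (e : Ext X (E.obj I) (q + 1)), e = 0)

include hτ hacy in
set_option maxHeartbeats 400000 in
set_option backward.isDefEq.respectTransparency false in
theorem main (p : ℕ) (M : 𝒜) :
    Nonempty (AddCommGrpCat.of (Ext X (E.obj M) p) ≅ (F₀.rightDerived p).obj M) := by
  refine Groth.Agent.H92.DimShift.main F₀
    (fun p M => AddCommGrpCat.of (Ext X (E.obj M) p)) ?_ ?_ ?_ p M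
  · intro M
    exact ⟨(Ext.addEquiv₀.trans (τ M).symm).toAddCommGrpIso⟩
  · intro S hS hI
    have hS' : (S.map E).ShortExact := hS.map_of_exact E
    let π : F₀.obj S.X₃ →+ Ext X (E.obj S.X₁) 1 :=
      (hS'.extClass.postcomp X (zero_add 1)).comp
        ((Ext.addEquiv₀.symm.toAddMonoidHom).comp (τ S.X₃).toAddMonoidHom)
    have hπ : ∀ y, π y = (Ext.mk₀ (τ S.X₃ y)).comp hS'.extClass (zero_add 1) := fun y => rfl
    have hzero : ∀ y₂, π (F₀.map S.g y₂) = 0 := by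
      intro y₂
      rw [hπ, hτ, ← Ext.mk₀_comp_mk₀, Ext.comp_assoc_of_second_deg_zero]
      have h3 : (Ext.mk₀ (E.map S.g)).comp hS'.extClass (zero_add 1) = 0 := hS'.comp_extClass
      rw [h3, Ext.comp_zero]
    let SC : ShortComplex AddCommGrpCat.{w} :=
      ShortComplex.mk (F₀.map S.g) (AddCommGrpCat.ofHom π) (by
        ext y₂
        exact hzero y₂)
    have hex : SC.Exact := by
      rw [ShortComplex.ab_exact_iff]
      intro y hy
      have hy' : (Ext.mk₀ (τ S.X₃ y)).comp hS'.extClass (zero_add 1) = 0 := hy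
      obtain ⟨x₂, hx₂⟩ : ∃ x₂ : Ext X (E.obj S.X₂) 0,
          x₂.comp (Ext.mk₀ (E.map S.g)) (add_zero 0) = Ext.mk₀ (τ S.X₃ y) :=
        Ext.covariant_sequence_exact₃ X hS' _ (zero_add 1) hy'
      have h1 : Ext.mk₀ (Ext.addEquiv₀ x₂ ≫ E.map S.g) = Ext.mk₀ (τ S.X₃ y) := by
        rw [← Ext.mk₀_comp_mk₀, Ext.mk₀_addEquiv₀_apply]
        exact hx₂
      have h2 : Ext.addEquiv₀ x₂ ≫ E.map S.g = τ S.X₃ y := (Ext.mk₀_bijective _ _).1 h1
      refine ⟨(τ S.X₂).symm (Ext.addEquiv₀ x₂), ?_⟩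
      apply (τ S.X₃).injective
      show τ S.X₃ (F₀.map S.g ((τ S.X₂).symm (Ext.addEquiv₀ x₂))) = _
      rw [hτ, AddEquiv.apply_symm_apply, h2]
    have hepi : Epi SC.g := by
      rw [AddCommGrpCat.epi_iff_surjective]
      intro x₁
      obtain ⟨x₃, hx₃⟩ : ∃ x₃ : Ext X (E.obj S.X₃) 0,
          x₃.comp hS'.extClass (zero_add 1) = x₁ :=
        Ext.covariant_sequence_exact₁ X hS' x₁ (hacy S.X₂ hI 0 _) (zero_add 1)
      refine ⟨(τ S.X₃).symm (Ext.addEquiv₀ x₃), ?_⟩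
      show π _ = x₁
      rw [hπ, AddEquiv.apply_symm_apply, Ext.mk₀_addEquiv₀_apply]
      exact hx₃
    exact ⟨(IsColimit.coconePointUniqueUpToIso (colimit.isColimit _) hex.gIsCokernel).symm⟩
  · intro S hS hI p
    have hS' : (S.map E).ShortExact := hS.map_of_exact E
    let δ : Ext X (E.obj S.X₃) (p + 1) →+ Ext X (E.obj S.X₁) (p + 2) :=
      hS'.extClass.postcomp X (rfl : (p + 1) + 1 = p + 2)
    have hδ : ∀ x, δ x = x.comp hS'.extClass (rfl : (p + 1) + 1 = p + 2) := fun x => rfl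
    have hinj : Function.Injective δ := by
      rw [injective_iff_map_eq_zero]
      intro x₃ hx₃
      rw [hδ] at hx₃
      obtain ⟨x₂, hx₂⟩ : ∃ x₂ : Ext X (E.obj S.X₂) (p + 1),
          x₂.comp (Ext.mk₀ (E.map S.g)) (add_zero (p + 1)) = x₃ :=
        Ext.covariant_sequence_exact₃ X hS' x₃ rfl hx₃
      rw [← hx₂, hacy S.X₂ hI p x₂, Ext.zero_comp]
    have hsurj : Function.Surjective δ := by
      intro x₁
      obtain ⟨x₃, hx₃⟩ : ∃ x₃ : Ext X (E.obj S.X₃) (p + 1),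
          x₃.comp hS'.extClass (rfl : (p + 1) + 1 = p + 2) = x₁ :=
        Ext.covariant_sequence_exact₁ X hS' x₁ (hacy S.X₂ hI (p + 1) _)
          (rfl : (p + 1) + 1 = p + 2)
      exact ⟨x₃, hx₃⟩
    exact ⟨(AddEquiv.ofBijective δ ⟨hinj, hsurj⟩).toAddCommGrpIso.symm⟩

end Groth.Agent.H30.ExtDer
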