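import Groth.Agent.H30.ModCech2

/-!
# Injective sheaves of modules are totally acyclic as abelian sheaves, part 2 (helper30)
-/

set_option autoImplicit false

namespace Groth.Agent.H30.ModCech

open CategoryTheory Limits Opposite Simplicial AlgebraicTopology
open Groth.Agent.H30.CechRes Groth.Agent.H67.CechTopos

universe u

variable {C : Type u} [SmallCategory C] {J : GrothendieckTopology C} (R : Sheaf J RingCat.{u})

/-- the free `R`-module Čech complex -/
noncomputable abbrev PR {K' K : Sheaf J (Type u)} (f : K' ⟶ K) :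
    ChainComplex (SheafOfModules.{u} R) ℕ :=
  AlternatingFaceMapComplex.obj ((Arrow.mk f).cechNerve ⋙ FR R)

set_option maxHeartbeats 400000 in
lemma d_comm {K' K : Sheaf J (Type u)} (f : K' ⟶ K) (m : ℕ) :
    ι R ((Arrow.mk f).cechNerve.obj (op ⦋m + 1⦌)) ≫ (UU R).map ((PR R f).d (m + 1) m) =
      (Pc f).d (m + 1) m ≫ ι R ((Arrow.mk f).cechNerve.obj (op ⦋m⦌)) := by
  rw [AlternatingFaceMapComplex.obj_d_eq, AlternatingFaceMapComplex.obj_d_eq, Functor.map_sum,
    Preadditive.comp_sum, Preadditive.sum_comp]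
  refine Finset.sum_congr rfl (fun i _ => ?_)
  rw [Functor.map_zsmul, Preadditive.comp_zsmul, Preadditive.zsmul_comp]
  congr 1
  exact (ι_nat R _).symm

set_option maxHeartbeats 400000 in
theorem he_of_injective (I : SheafOfModules.{u} R) [Injective I] : HE ((UU R).obj I) := by
  intro K' K f _ n φ hφ
  obtain ⟨h, rfl⟩ := (θ R ((Arrow.mk f).cechNerve.obj (op ⦋n + 1⦌)) I).surjective φ
  have h0 : (PR R f).d (n + 2) (n + 1) ≫ h = 0 := by
    apply (θ R ((Arrow.mk f).cechNerve.obj (op ⦋n + 2⦌)) I).injective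
    rw [θ_eq, θ_eq, Functor.map_comp, ← Category.assoc, d_comm, Category.assoc, ← θ_eq, hφ,
      Functor.map_zero, comp_zero]
  have hex : (ShortComplex.mk ((PR R f).d (n + 2) (n + 1)) ((PR R f).d (n + 1) n)
      ((PR R f).d_comp_d _ _ _)).Exact :=
    (HomologicalComplex.exactAt_iff' _ (n + 2) (n + 1) n (ChainComplex.prev ℕ (n + 1))
      (ChainComplex.next_nat_succ n)).1 (exactAt_succ R (Arrow.mk f) n)
  refine ⟨θ R ((Arrow.mk f).cechNerve.obj (op ⦋n⦌)) I (hex.descToInjective h h0), ?_⟩
  rw [θ_eq, ← Category.assoc, ← d_comm, Category.assoc, ← Functor.map_comp,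
    hex.comp_descToInjective, ← θ_eq]

/-- **Injective sheaves of modules are totally acyclic as abelian sheaves.** -/
theorem isTotallyAcyclic_of_injective (I : SheafOfModules.{u} R) [Injective I] :
    CohCx.IsTotallyAcyclic ((SheafOfModules.toSheaf R).obj I) :=
  isTotallyAcyclic_of_he _ (he_of_injective R I)

end Groth.Agent.H30.ModCech
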