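import Groth.Prelude.Def_CxOX
import Groth.Agent.H31.ExtZeroSh

/-!
# Extension by zero of O-modules along an open subscheme is exact (helper30 library)

From helper31's exactness of `ModSite.extZero` and the prelude's comparison `CxOX.extZeroIsoSite`.
-/

set_option autoImplicit false
universe u
open CategoryTheory CategoryTheory.Limits AlgebraicGeometry

namespace Groth.Agent.H30.ExtZeroSch

variable {X : Scheme.{u}} (V : X.Opens)

instance preservesFiniteLimits_extZero : PreservesFiniteLimits (CxOX.extZero V.ι) := by
  have h0 := Groth.Agent.H31.ExtZero.extZero_preservesFiniteLimits X.sheaf V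
  have h1 : PreservesFiniteLimits (Scheme.Modules.overEquiv V).inverse := by
    have : (Scheme.Modules.overEquiv V).inverse.IsEquivalence := inferInstance
    have : PreservesLimitsOfSize.{0, 0} (Scheme.Modules.overEquiv V).inverse := inferInstance
    exact PreservesLimitsOfSize.preservesFiniteLimits _
  have h2 : PreservesFiniteLimits
      ((Scheme.Modules.overEquiv V).inverse ⋙ ModSite.extZero X.sheaf V) :=
    @comp_preservesFiniteLimits _ _ _ _ _ _ _ _ h1 h0
  exact @preservesFiniteLimits_of_natIso _ _ _ _ _ _ (CxOX.extZeroIsoSite V).symm h2

theorem injective_restrict (I : X.Modules) [Injective I] :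
    Injective ((Scheme.Modules.restrictFunctor V.ι).obj I) :=
  Injective.injective_of_adjoint (CxOX.extZeroAdj V.ι) I

end Groth.Agent.H30.ExtZeroSch
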