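import Mathlib
import Groth.Agent.H22.QCohAbelian

/-!
# Five-term lemma for a weak Serre class, and quasi-coherent modules (helper30)

If `A → B → C → D → E` is exact and `A, B, D, E` lie in a class closed under isomorphisms,
kernels, cokernels and extensions, then so does `C`.  Instantiated with quasi-coherent modules on
a scheme (closure properties by helper22/helper8).
-/

set_option autoImplicit false
universe v u
open CategoryTheory CategoryTheory.Limits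

namespace Groth.Agent.H30.QcohFive

section Abstract

variable {𝒜 : Type u} [Category.{v} 𝒜] [Abelian 𝒜] (P : 𝒜 → Prop)

theorem mem_of_exact_five
    (hiso : ∀ {A B : 𝒜}, (A ≅ B) → P A → P B)
    (hker : ∀ {A B : 𝒜} (φ : A ⟶ B), P A → P B → P (kernel φ))
    (hcoker : ∀ {A B : 𝒜} (φ : A ⟶ B), P A → P B → P (cokernel φ))
    (hext : ∀ (T : ShortComplex 𝒜), T.ShortExact → P T.X₁ → P T.X₃ → P T.X₂)
    {A B C D E : 𝒜} (f₁ : A ⟶ B) (f₂ : B ⟶ C) (f₃ : C ⟶ D) (f₄ : D ⟶ E)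
    (w₁ : f₁ ≫ f₂ = 0) (w₂ : f₂ ≫ f₃ = 0) (w₃ : f₃ ≫ f₄ = 0)
    (e₁ : (ShortComplex.mk f₁ f₂ w₁).Exact) (e₂ : (ShortComplex.mk f₂ f₃ w₂).Exact)
    (e₃ : (ShortComplex.mk f₃ f₄ w₃).Exact)
    (hA : P A) (hB : P B) (hD : P D) (hE : P E) : P C := by
  -- `l : B ⟶ ker f₃`, epi, cokernel of `f₁`
  let l : B ⟶ kernel f₃ := kernel.lift f₃ f₂ w₂
  have hl : l ≫ kernel.ι f₃ = f₂ := kernel.lift_ι _ _ _
  have hlepi : Epi l := (ShortComplex.exact_iff_epi_kernel_lift _).1 e₂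
  have w₁' : f₁ ≫ l = 0 := by
    rw [← cancel_mono (kernel.ι f₃), Category.assoc, hl, w₁, zero_comp]
  let S₁ : ShortComplex 𝒜 := ShortComplex.mk f₁ l w₁'
  let φ₁ : S₁ ⟶ ShortComplex.mk f₁ f₂ w₁ :=
    { τ₁ := 𝟙 _
      τ₂ := 𝟙 _
      τ₃ := kernel.ι f₃
      comm₁₂ := by simp [S₁]
      comm₂₃ := by simp [S₁, hl] }
  have hS₁ : S₁.Exact := by
    haveI : Epi φ₁.τ₁ := inferInstanceAs (Epi (𝟙 _))
    haveI : IsIso φ₁.τ₂ := inferInstanceAs (IsIso (𝟙 _))
    haveI : Mono φ₁.τ₃ := inferInstanceAs (Mono (kernel.ι f₃))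
    exact (ShortComplex.exact_iff_of_epi_of_isIso_of_mono φ₁).2 e₁
  haveI : Epi S₁.g := hlepi
  have hK : P (kernel f₃) :=
    hiso (IsColimit.coconePointUniqueUpToIso (cokernelIsCokernel f₁) hS₁.gIsCokernel)
      (hcoker f₁ hA hB)
  -- `m : C ⟶ ker f₄`, epi, with kernel `ker f₃`
  let m : C ⟶ kernel f₄ := kernel.lift f₄ f₃ w₃
  have hm : m ≫ kernel.ι f₄ = f₃ := kernel.lift_ι _ _ _
  have hmepi : Epi m := (ShortComplex.exact_iff_epi_kernel_lift _).1 e₃
  have w₂' : kernel.ι f₃ ≫ m = 0 := by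
    rw [← cancel_mono (kernel.ι f₄), Category.assoc, hm, kernel.condition, zero_comp]
  let T : ShortComplex 𝒜 := ShortComplex.mk (kernel.ι f₃) m w₂'
  let φ₂ : T ⟶ ShortComplex.mk (kernel.ι f₃) f₃ (kernel.condition f₃) :=
    { τ₁ := 𝟙 _
      τ₂ := 𝟙 _
      τ₃ := kernel.ι f₄
      comm₁₂ := by simp [T]
      comm₂₃ := by simp [T, hm] }
  have hT : T.Exact := by
    haveI : Epi φ₂.τ₁ := inferInstanceAs (Epi (𝟙 _))
    haveI : IsIso φ₂.τ₂ := inferInstanceAs (IsIso (𝟙 _))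
    haveI : Mono φ₂.τ₃ := inferInstanceAs (Mono (kernel.ι f₄))
    exact (ShortComplex.exact_iff_of_epi_of_isIso_of_mono φ₂).2
      (ShortComplex.exact_of_f_is_kernel _ (kernelIsKernel f₃))
  have hTs : T.ShortExact :=
    { exact := hT
      mono_f := inferInstanceAs (Mono (kernel.ι f₃))
      epi_g := hmepi }
  exact hext T hTs hK (hker f₄ hD hE)

end Abstract

section QCoh

open AlgebraicGeometry

variable {X : Scheme.{u}}

/-- Five-term lemma for quasi-coherent modules. -/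
theorem isQuasicoherent_of_exact_five {A B C D E : X.Modules}
    (f₁ : A ⟶ B) (f₂ : B ⟶ C) (f₃ : C ⟶ D) (f₄ : D ⟶ E)
    (w₁ : f₁ ≫ f₂ = 0) (w₂ : f₂ ≫ f₃ = 0) (w₃ : f₃ ≫ f₄ = 0)
    (e₁ : (ShortComplex.mk f₁ f₂ w₁).Exact) (e₂ : (ShortComplex.mk f₂ f₃ w₂).Exact)
    (e₃ : (ShortComplex.mk f₃ f₄ w₃).Exact)
    (hA : A.IsQuasicoherent) (hB : B.IsQuasicoherent) (hD : D.IsQuasicoherent)
    (hE : E.IsQuasicoherent) : C.IsQuasicoherent := by
  refine mem_of_exact_five (fun M : X.Modules => M.IsQuasicoherent) ?_ ?_ ?_ ?_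
    f₁ f₂ f₃ f₄ w₁ w₂ w₃ e₁ e₂ e₃ hA hB hD hE
  · intro M N e hM
    haveI := hM
    exact Groth.Agent.H22.QCohLimits.isQuasicoherent_of_iso e
  · intro M N φ hM hN
    haveI := hM
    haveI := hN
    exact Groth.Agent.H22.QCohLimits.isQuasicoherent_kernel φ
  · intro M N φ hM hN
    haveI := hM
    haveI := hN
    exact Groth.Agent.H22.QCohAbelian.isQuasicoherent_cokernel φ
  · intro T hT h1 h3
    haveI := h1
    haveI := h3
    exact Groth.Agent.H22.QCohAbelian.isQuasicoherent_X₂ T hT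

/-- A zero module is quasi-coherent. -/
theorem isQuasicoherent_of_isZero {Z : X.Modules} (hZ : IsZero Z) (B : X.Modules)
    [B.IsQuasicoherent] : Z.IsQuasicoherent := by
  haveI : (kernel (𝟙 B)).IsQuasicoherent := Groth.Agent.H22.QCohLimits.isQuasicoherent_kernel (𝟙 B)
  have hz : IsZero (kernel (𝟙 B)) := by
    rw [IsZero.iff_id_eq_zero, ← cancel_mono (kernel.ι (𝟙 B))]
    have := kernel.condition (𝟙 B)
    rw [Category.comp_id] at this
    rw [this, comp_zero, zero_comp]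
  exact Groth.Agent.H22.QCohLimits.isQuasicoherent_of_iso (hz.iso hZ)

end QCoh

end Groth.Agent.H30.QcohFive
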