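import Groth.Agent.H92.DimShift

/-!
# Right derived functors and exact "forgetful" functors (helper30)

`F : A ⥤ B`, `G : C ⥤ D` left exact, `E : A ⥤ C`, `E' : B ⥤ D` exact with `F ⋙ E' ≅ E ⋙ G`, and
`E` sends injectives to `G`-acyclic objects.  Then `E' (RⁿF M) ≅ RⁿG (E M)`.
-/

set_option autoImplicit false
universe w w' v v' u u' v₁ u₁ v₂ u₂
open CategoryTheory CategoryTheory.Limits
open Groth.Agent.H45.RDP

namespace Groth.Agent.H30.CompDer

section

variable {A : Type u} [Category.{v} A] [Abelian A] [HasDerivedCategory.{w} A] [EnoughInjectives A]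
  {B : Type u'} [Category.{v'} B] [Abelian B] [HasDerivedCategory.{w'} B]
  (F : A ⥤ B) [F.Additive] [PreservesFiniteLimits F]

theorem r1' {S : ShortComplex A} (hS : S.ShortExact) (hz : IsZero ((RnF F 1).obj S.X₂)) :
    Nonempty ((RnF F 1).obj S.X₁ ≅ cokernel (F.map S.g)) := by
  obtain ⟨δ, w₁, w₂, e₁, e₂⟩ := RnF_exists_δ F hS 0 1 (by norm_num)
  have hepi : Epi δ := e₂.epi_f (hz.eq_of_tgt _ _)
  have hepi' : Epi (ShortComplex.mk _ _ w₁).g := hepi
  let c1 : cokernel ((RnF F 0).map S.g) ≅ (RnF F 1).obj S.X₁ :=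
    IsColimit.coconePointUniqueUpToIso (colimit.isColimit _) e₁.gIsCokernel
  let c2 : cokernel ((RnF F 0).map S.g) ≅ cokernel (F.map S.g) :=
    cokernel.mapIso _ _ ((Groth.Agent.H92.DimShift.r0Iso F).app S.X₂)
      ((Groth.Agent.H92.DimShift.r0Iso F).app S.X₃)
      ((Groth.Agent.H92.DimShift.r0Iso F).hom.naturality S.g)
  exact ⟨c1.symm ≪≫ c2⟩

omit [PreservesFiniteLimits F] in
theorem rs' {S : ShortComplex A} (hS : S.ShortExact) (p : ℕ)
    (hz1 : IsZero ((RnF F ((p + 1 : ℕ) : ℤ)).obj S.X₂))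
    (hz2 : IsZero ((RnF F ((p + 2 : ℕ) : ℤ)).obj S.X₂)) :
    Nonempty ((RnF F ((p + 2 : ℕ) : ℤ)).obj S.X₁ ≅ (RnF F ((p + 1 : ℕ) : ℤ)).obj S.X₃) := by
  obtain ⟨δ, w₁, w₂, e₁, e₂⟩ := RnF_exists_δ F hS ((p + 1 : ℕ) : ℤ) ((p + 2 : ℕ) : ℤ)
    (by push_cast; ring)
  have hepi : Epi δ := e₂.epi_f (hz2.eq_of_tgt _ _)
  have hmono : Mono δ := e₁.mono_g (hz1.eq_of_src _ _)
  have : IsIso δ := isIso_of_mono_of_epi δ
  exact ⟨(asIso δ).symm⟩

end

section

variable {A : Type u} [Category.{v} A] [Abelian A] [HasInjectiveResolutions A]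
  {B : Type u'} [Category.{v'} B] [Abelian B]
  {C : Type u₁} [Category.{v₁} C] [Abelian C] [HasInjectiveResolutions C]
  {D : Type u₂} [Category.{v₂} D] [Abelian D]
  (F : A ⥤ B) [F.Additive] [PreservesFiniteLimits F]
  (G : C ⥤ D) [G.Additive] [PreservesFiniteLimits G]
  (E : A ⥤ C) [E.Additive] [PreservesFiniteLimits E] [PreservesFiniteColimits E]
  (E' : B ⥤ D) [E'.Additive] [PreservesFiniteLimits E'] [PreservesFiniteColimits E']
  (e : F ⋙ E' ≅ E ⋙ G)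
  (hacy : ∀ I : A, Injective I → ∀ q : ℕ, IsZero ((G.rightDerived (q + 1)).obj (E.obj I)))

include e hacy in
set_option maxHeartbeats 400000 in
set_option backward.isDefEq.respectTransparency false in
/-- `E' (RⁿF M) ≅ RⁿG (E M)`. -/
theorem main (n : ℕ) (M : A) :
    Nonempty (E'.obj ((F.rightDerived n).obj M) ≅ (G.rightDerived n).obj (E.obj M)) := by
  let _ := HasDerivedCategory.standard A
  let _ := HasDerivedCategory.standard B
  let _ := HasDerivedCategory.standard C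
  let _ := HasDerivedCategory.standard D
  have := Groth.Agent.H5.GSS.enoughInjectives_of_hasInjectiveResolutions A
  have := Groth.Agent.H5.GSS.enoughInjectives_of_hasInjectiveResolutions C
  have hz : ∀ (I : A), Injective I → ∀ q : ℕ,
      IsZero ((RnF G ((q + 1 : ℕ) : ℤ)).obj (E.obj I)) := by
    intro I hI q
    obtain ⟨b⟩ := Groth.Agent.H5.GSS.nonempty_rnf_iso G (E.obj I) (q + 1)
    exact (hacy I hI q).of_iso b
  have h₁ : ∀ (p : ℕ) (X : A), Nonempty (E'.obj ((RnF F (p : ℤ)).obj X) ≅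
      ((F ⋙ E').rightDerived p).obj X) := by
    refine Groth.Agent.H92.DimShift.main (F ⋙ E')
      (fun p X => E'.obj ((RnF F (p : ℤ)).obj X)) ?_ ?_ ?_
    · intro X
      exact ⟨E'.mapIso ((Groth.Agent.H92.DimShift.r0Iso F).app X)⟩
    · intro S hS hI
      haveI := hI
      obtain ⟨c⟩ := Groth.Agent.H92.DimShift.r1 F hS
      exact ⟨E'.mapIso c ≪≫ PreservesCokernel.iso E' (F.map S.g)⟩
    · intro S hS hI p
      haveI := hI
      obtain ⟨c⟩ := Groth.Agent.H92.DimShift.rs F hS p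
      exact ⟨E'.mapIso c⟩
  have h₂ : ∀ (p : ℕ) (X : A), Nonempty ((RnF G (p : ℤ)).obj (E.obj X) ≅
      ((F ⋙ E').rightDerived p).obj X) := by
    refine Groth.Agent.H92.DimShift.main (F ⋙ E')
      (fun p X => (RnF G (p : ℤ)).obj (E.obj X)) ?_ ?_ ?_
    · intro X
      exact ⟨(Groth.Agent.H92.DimShift.r0Iso G).app (E.obj X) ≪≫ (e.app X).symm⟩
    · intro S hS hI
      have hS' : (S.map E).ShortExact := hS.map_of_exact E
      obtain ⟨c⟩ := r1' G hS' (hz S.X₂ hI 0)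
      have c' : (RnF G 1).obj (E.obj S.X₁) ≅ cokernel (G.map (E.map S.g)) := c
      exact ⟨c' ≪≫ cokernel.mapIso (G.map (E.map S.g)) (E'.map (F.map S.g))
        (e.symm.app S.X₂) (e.symm.app S.X₃) (e.inv.naturality S.g)⟩
    · intro S hS hI p
      have hS' : (S.map E).ShortExact := hS.map_of_exact E
      obtain ⟨c⟩ := rs' G hS' p (hz S.X₂ hI p) (hz S.X₂ hI (p + 1))
      exact ⟨c⟩
  obtain ⟨i₁⟩ := h₁ n M
  obtain ⟨i₂⟩ := h₂ n M
  obtain ⟨b₁⟩ := Groth.Agent.H5.GSS.nonempty_rnf_iso F M n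
  obtain ⟨b₂⟩ := Groth.Agent.H5.GSS.nonempty_rnf_iso G (E.obj M) n
  exact ⟨E'.mapIso b₁.symm ≪≫ i₁ ≪≫ i₂.symm ≪≫ b₂⟩

end

end Groth.Agent.H30.CompDer
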