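import Groth.Agent.H30.RelMV
import Groth.Agent.H30.QcohFive
import Groth.Agent.H30.CompDer
import Groth.Agent.H30.ExtZeroSch
import Groth.Agent.S0485
import Groth.Agent.S0015
import Groth.Agent.S0028
import Groth.Agent.S11319
import Groth.Agent.H8.QCohPush
import Groth.Agent.H8.QCohLocal

/-!
# Higher direct images of quasi-coherent modules are quasi-coherent (helper30)
-/

set_option autoImplicit false
universe u
open CategoryTheory CategoryTheory.Limits AlgebraicGeometry TopologicalSpace Opposite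

namespace Groth.Agent.H30.RpushQcoh

open Scheme.Modules Groth.Agent.H30.RelMV

/-- O-modules on a scheme have enough injectives. -/
instance enoughInjectives (Y : Scheme.{u}) : EnoughInjectives Y.Modules :=
  Groth.Agent.S0485.result _ Y.ringCatSheaf

instance preservesFiniteLimits_pushforward {X Y : Scheme.{u}} (g : X ⟶ Y) :
    PreservesFiniteLimits (pushforward g) := by
  have : PreservesLimitsOfSize.{0, 0} (pushforward g) :=
    (pullbackPushforwardAdjunction g).rightAdjoint_preservesLimits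
  exact PreservesLimitsOfSize.preservesFiniteLimits _

/-- `toAb` reflects zero objects. -/
theorem isZero_of_isZero_toAb {Z : Scheme.{u}} (N : Z.Modules) (h : IsZero (Coh.toAb N)) :
    IsZero N := by
  rw [IsZero.iff_id_eq_zero]
  apply (SheafOfModules.toSheaf.{u} Z.ringCatSheaf).map_injective
  have h1 : (SheafOfModules.toSheaf.{u} Z.ringCatSheaf).map (𝟙 N) = 𝟙 _ :=
    CategoryTheory.Functor.map_id _ _
  have h2 : (SheafOfModules.toSheaf.{u} Z.ringCatSheaf).map (0 : N ⟶ N) = 0 :=
    CategoryTheory.Functor.map_zero _ _ _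
  exact h1.trans (((IsZero.iff_id_eq_zero _).mp h).trans h2.symm)

/-- Base case: higher direct images of a quasi-coherent module along an affine morphism. -/
theorem isQCoh_Rpush_of_isAffineHom {Y S : Scheme.{u}} (g : Y ⟶ S) [IsAffineHom g]
    (N : Y.Modules) [N.IsQuasicoherent] (p : ℕ) :
    ((Coh.Rpush g p).obj N).IsQuasicoherent := by
  haveI : ((pushforward g).obj N).IsQuasicoherent := Groth.Agent.H8.isQuasicoherent_pushforward g N
  cases p with
  | zero =>
    exact Groth.Agent.H22.QCohLimits.isQuasicoherent_of_iso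
      (((pushforward g).rightDerivedZeroIsoSelf).app N).symm
  | succ q =>
    obtain ⟨e⟩ := Groth.Agent.S11319.result g N (q + 1)
    have hz : IsZero ((Coh.Rpush g (q + 1)).obj N) :=
      isZero_of_isZero_toAb _ ((Groth.Agent.S0028.result g N (q + 1) (Nat.succ_pos q)).of_iso e)
    exact Groth.Agent.H30.QcohFive.isQuasicoherent_of_isZero hz ((pushforward g).obj N)


variable {X S : Scheme.{u}} (f : X ⟶ S)

instance preservesFiniteLimits_G (U : X.Opens) : PreservesFiniteLimits (G f U) := by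
  unfold G
  infer_instance

/-- `Rᵖ(G f U) M ≅ Rᵖ(f|_U)_* (M|_U)`. -/
theorem nonempty_rightDerived_G_iso (U : X.Opens) (M : X.Modules) (p : ℕ) :
    Nonempty (((G f U).rightDerived p).obj M ≅
      (Coh.Rpush (U.ι ≫ f) p).obj ((restrictFunctor U.ι).obj M)) := by
  let e : G f U ⋙ 𝟭 S.Modules ≅ restrictFunctor U.ι ⋙ pushforward (U.ι ≫ f) :=
    Functor.rightUnitor _ ≪≫ Functor.isoWhiskerLeft (restrictFunctor U.ι) (pushforwardComp U.ι f)
  exact Groth.Agent.H30.CompDer.main (G f U) (pushforward (U.ι ≫ f)) (restrictFunctor U.ι)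
    (𝟭 S.Modules) e (fun I hI q => by
      haveI := hI
      haveI := Groth.Agent.H30.ExtZeroSch.injective_restrict U I
      exact Functor.isZero_rightDerived_obj_injective_succ _ _ _) p M

/-- Affine opens: `Rᵖ(G f U) M` is quasi-coherent when `S` is affine. -/
theorem isQCoh_rightDerived_G_of_isAffineOpen [IsAffine S] (U : X.Opens) (hU : IsAffineOpen U)
    (M : X.Modules) [M.IsQuasicoherent] (p : ℕ) :
    (((G f U).rightDerived p).obj M).IsQuasicoherent := by
  obtain ⟨e⟩ := nonempty_rightDerived_G_iso f U M p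
  haveI : IsAffine U.toScheme := hU
  haveI := isQCoh_Rpush_of_isAffineHom (U.ι ≫ f) ((restrictFunctor U.ι).obj M) p
  exact Groth.Agent.H22.QCohLimits.isQuasicoherent_of_iso e.symm


lemma exact_of_mk₂ {𝒜 : Type*} [Category 𝒜] [Abelian 𝒜] {A B C : 𝒜} {a : A ⟶ B} {b : B ⟶ C}
    (h : (ComposableArrows.mk₂ a b).Exact) :
    ∃ w : a ≫ b = 0, (ShortComplex.mk a b w).Exact :=
  ⟨h.toIsComplex.zero 0, h.exact 0⟩

open ZeroObject in
/-- Mayer–Vietoris step. -/
theorem isQCoh_rightDerived_G_sup (U V : X.Opens) (M : X.Modules)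
    (hU : ∀ p, (((G f U).rightDerived p).obj M).IsQuasicoherent)
    (hV : ∀ p, (((G f V).rightDerived p).obj M).IsQuasicoherent)
    (hUV : ∀ p, (((G f (U ⊓ V)).rightDerived p).obj M).IsQuasicoherent) (p : ℕ) :
    (((G f (U ⊔ V)).rightDerived p).obj M).IsQuasicoherent := by
  obtain ⟨δ, hmono, hex⟩ := Groth.Agent.H42.MVDerived.exists_les
    (ρ f (le_sup_left : U ≤ U ⊔ V)) (ρ f (le_sup_right : V ≤ U ⊔ V))
    (ρ f (inf_le_left : U ⊓ V ≤ U)) (ρ f (inf_le_right : U ⊓ V ≤ V))
    (w_eq f U V) (exactOnInjectives f U V) M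
  have hmid : ∀ n, (((G f U).rightDerived n).obj M ⊞ ((G f V).rightDerived n).obj M).IsQuasicoherent := by
    intro n
    haveI := hU n
    haveI := hV n
    exact Groth.Agent.H22.QCohLimits.isQuasicoherent_biprod _ _
  cases p with
  | zero =>
    obtain ⟨w, e⟩ := exact_of_mk₂ (hex 0).1
    haveI := hmid 0
    have hz : IsZero (0 : S.Modules) := isZero_zero _
    have hzq : (0 : S.Modules).IsQuasicoherent :=
      Groth.Agent.H30.QcohFive.isQuasicoherent_of_isZero hz
        (((G f U).rightDerived 0).obj M ⊞ ((G f V).rightDerived 0).obj M)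
    refine Groth.Agent.H30.QcohFive.isQuasicoherent_of_exact_five
      (0 : (0 : S.Modules) ⟶ (0 : S.Modules)) (0 : (0 : S.Modules) ⟶ _) _ _ zero_comp zero_comp w
      ?_ ?_ e hzq hzq (hmid 0) (hUV 0)
    · exact ShortComplex.exact_of_isZero_X₂ _ hz
    · exact (ShortComplex.exact_iff_mono _ rfl).2 hmono
  | succ n =>
    obtain ⟨w₁, e₁⟩ := exact_of_mk₂ (hex n).2.1
    obtain ⟨w₂, e₂⟩ := exact_of_mk₂ (hex n).2.2
    obtain ⟨w₃, e₃⟩ := exact_of_mk₂ (hex (n + 1)).1
    exact Groth.Agent.H30.QcohFive.isQuasicoherent_of_exact_five _ _ _ _ w₁ w₂ w₃ e₁ e₂ e₃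
      (hmid n) (hUV n) (hmid (n + 1)) (hUV (n + 1))


lemma isIso_unit_app_app (U : X.Opens) (M : X.Modules) (A : X.Opens) (hA : A ≤ U) :
    IsIso (((restrictAdjunction U.ι).unit.app M).app A) := by
  rw [restrictAdjunction_unit_app_app]
  have hle : A ≤ U.ι ''ᵁ (U.ι ⁻¹ᵁ A) := by
    intro x hx
    exact ⟨⟨x, hA hx⟩, hx, rfl⟩
  have h1 : IsIso (homOfLE (U.ι.image_preimage_le A)) :=
    ⟨⟨homOfLE hle, Subsingleton.elim _ _, Subsingleton.elim _ _⟩⟩
  have h2 : IsIso (homOfLE (U.ι.image_preimage_le A)).op := inferInstance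
  exact Functor.map_isIso M.presheaf (homOfLE (U.ι.image_preimage_le A)).op

/-- `f_* ⟶ G f ⊤`. -/
noncomputable def pushToGTop : pushforward f ⟶ G f ⊤ :=
  (Functor.whiskerRight (restrictAdjunction (⊤ : X.Opens).ι).unit (pushforward f) :
    𝟭 _ ⋙ pushforward f ⟶ G f ⊤)

instance isIso_pushToGTop : IsIso (pushToGTop f) := by
  apply (config := { allowSynthFailures := true }) NatIso.isIso_of_isIso_app
  intro M
  rw [Scheme.Modules.Hom.isIso_iff_isIso_app]
  intro W
  exact isIso_unit_app_app ⊤ M (f ⁻¹ᵁ W) le_top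

/-- `f_* ≅ G f ⊤`. -/
noncomputable def pushIsoGTop : pushforward f ≅ G f ⊤ := asIso (pushToGTop f)

/-- Higher direct images of quasi-coherent modules along a quasi-compact quasi-separated morphism
to an affine scheme are quasi-coherent. -/
theorem isQCoh_Rpush_of_isAffine [IsAffine S] [QuasiCompact f] [QuasiSeparated f]
    (M : X.Modules) [M.IsQuasicoherent] (p : ℕ) :
    ((Coh.Rpush f p).obj M).IsQuasicoherent := by
  haveI : CompactSpace X := QuasiCompact.compactSpace_of_compactSpace f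
  haveI : QuasiSeparatedSpace X := quasiSeparatedSpace_of_quasiSeparated f
  have key : ∀ p, (((G f ⊤).rightDerived p).obj M).IsQuasicoherent :=
    Groth.Agent.S0015.result X
      (fun U => ∀ p, (((G f U).rightDerived p).obj M).IsQuasicoherent)
      (fun U hU p => isQCoh_rightDerived_G_of_isAffineOpen f U hU M p)
      (fun U V _ _ hU hV hUV p => isQCoh_rightDerived_G_sup f U V M hU hV hUV p)
      ⊤ isCompact_univ
  let e : pushforward f ⋙ 𝟭 S.Modules ≅ 𝟭 X.Modules ⋙ G f ⊤ :=
    Functor.rightUnitor _ ≪≫ pushIsoGTop f ≪≫ (Functor.leftUnitor _).symm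
  obtain ⟨i⟩ := Groth.Agent.H30.CompDer.main (pushforward f) (G f ⊤) (𝟭 X.Modules)
    (𝟭 S.Modules) e (fun I hI q => by
      haveI := hI
      exact Functor.isZero_rightDerived_obj_injective_succ _ _ _) p M
  haveI : (((G f ⊤).rightDerived p).obj ((𝟭 X.Modules).obj M)).IsQuasicoherent := key p
  exact Groth.Agent.H22.QCohLimits.isQuasicoherent_of_iso i.symm


section BaseLocal

variable {V : S.Opens} (hV : IsAffineOpen V)

/-- The restriction of `f` over the affine open `V`, with target `Spec Γ(S, V)`. -/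
noncomputable def fV : (f ⁻¹ᵁ V).toScheme ⟶ Spec Γ(S, V) := (f ∣_ V) ≫ hV.isoSpec.hom

lemma fV_fromSpec : (f ⁻¹ᵁ V).ι ≫ f = fV f hV ≫ hV.fromSpec := by
  rw [fV, Category.assoc, ← hV.isoSpec_inv_ι, Iso.hom_inv_id_assoc, morphismRestrict_ι]

instance [QuasiCompact f] : QuasiCompact (fV f hV) := by
  unfold fV
  infer_instance

instance [QuasiSeparated f] : QuasiSeparated (fV f hV) := by
  unfold fV
  infer_instance

/-- `(f|_U)_* ∘ ι_U_* ≅ j_* ∘ f'_*`. -/
noncomputable def iso1 :
    pushforward (f ⁻¹ᵁ V).ι ⋙ pushforward f ≅ pushforward (fV f hV) ⋙ pushforward hV.fromSpec :=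
  pushforwardComp (f ⁻¹ᵁ V).ι f ≪≫ pushforwardCongr (fV_fromSpec f hV) ≪≫
    (pushforwardComp (fV f hV) hV.fromSpec).symm

noncomputable def iso2 :
    (restrictFunctor (f ⁻¹ᵁ V).ι ⋙ pushforward (fV f hV) ⋙ pushforward hV.fromSpec) ⋙
      restrictFunctor hV.fromSpec ≅ restrictFunctor (f ⁻¹ᵁ V).ι ⋙ pushforward (fV f hV) :=
  Functor.isoWhiskerLeft (restrictFunctor (f ⁻¹ᵁ V).ι ⋙ pushforward (fV f hV))
    (restrictFunctorAdjCounitIso hV.fromSpec) ≪≫ Functor.rightUnitor _

/-- The base change map for the restriction to an affine open of the base. -/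
noncomputable def θ : pushforward f ⋙ restrictFunctor hV.fromSpec ⟶
    restrictFunctor (f ⁻¹ᵁ V).ι ⋙ pushforward (fV f hV) :=
  (Functor.whiskerRight (Functor.whiskerRight (restrictAdjunction (f ⁻¹ᵁ V).ι).unit (pushforward f))
    (restrictFunctor hV.fromSpec) :
      (𝟭 _ ⋙ pushforward f) ⋙ restrictFunctor hV.fromSpec ⟶
        ((restrictFunctor (f ⁻¹ᵁ V).ι ⋙ pushforward (f ⁻¹ᵁ V).ι) ⋙ pushforward f) ⋙
          restrictFunctor hV.fromSpec) ≫
  (Functor.whiskerRight (Functor.whiskerLeft (restrictFunctor (f ⁻¹ᵁ V).ι) (iso1 f hV).hom)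
    (restrictFunctor hV.fromSpec)) ≫ (iso2 f hV).hom

instance isIso_θ : IsIso (θ f hV) := by
  have h1 : IsIso (Functor.whiskerRight (Functor.whiskerRight
      (restrictAdjunction (f ⁻¹ᵁ V).ι).unit (pushforward f)) (restrictFunctor hV.fromSpec)) := by
    apply (config := { allowSynthFailures := true }) NatIso.isIso_of_isIso_app
    intro M
    rw [Scheme.Modules.Hom.isIso_iff_isIso_app]
    intro W
    refine isIso_unit_app_app (f ⁻¹ᵁ V) M (f ⁻¹ᵁ (hV.fromSpec ''ᵁ W)) ?_
    apply f.preimage_mono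
    exact (Scheme.Hom.image_le_opensRange _ _).trans_eq hV.opensRange_fromSpec
  unfold θ
  infer_instance

end BaseLocal

/-- **Higher direct images of quasi-coherent modules along a quasi-compact quasi-separated
morphism are quasi-coherent.** -/
theorem isQCoh_Rpush [QuasiCompact f] [QuasiSeparated f] (M : X.Modules) [M.IsQuasicoherent]
    (p : ℕ) : ((Coh.Rpush f p).obj M).IsQuasicoherent := by
  apply Groth.Agent.H8.isQuasicoherent_of_forall_affine
  intro V hV
  obtain ⟨i⟩ := Groth.Agent.H30.CompDer.main (pushforward f) (pushforward (fV f hV))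
    (restrictFunctor (f ⁻¹ᵁ V).ι) (restrictFunctor hV.fromSpec) (asIso (θ f hV))
    (fun I hI q => by
      haveI := hI
      haveI := Groth.Agent.H30.ExtZeroSch.injective_restrict (f ⁻¹ᵁ V) I
      exact Functor.isZero_rightDerived_obj_injective_succ _ _ _) p M
  haveI := isQCoh_Rpush_of_isAffine (fV f hV) ((restrictFunctor (f ⁻¹ᵁ V).ι).obj M) p
  exact Groth.Agent.H22.QCohLimits.isQuasicoherent_of_iso i.symm

end Groth.Agent.H30.RpushQcoh
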