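import Groth.Agent.H8.CohKerCoker
import Groth.Agent.H8.QCohPush
import Groth.Prelude.Def_CohB1

/-!
# Splitting a coherent module along a decomposition of its support (helper30)
-/

set_option autoImplicit false
set_option linter.style.haveILetI false
universe u
open CategoryTheory CategoryTheory.Limits AlgebraicGeometry TopologicalSpace Opposite
open AlgebraicGeometry.Scheme.Modules

namespace Groth.Agent.H30.SuppSplit

open Groth.Agent.H8

variable {X : Scheme.{u}}

/-- If all sections over small opens near `x` vanish, `x` is not in the support. -/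
lemma not_mem_support_of_subsingleton (L : X.Modules) (W : X.Opens) (x : X) (hx : x ∈ W)
    (h : ∀ V : X.Opens, V ≤ W → Subsingleton Γ(L, V)) : x ∉ CohB1.support L := by
  intro hs
  apply hs
  refine ⟨fun a b => ?_⟩
  obtain ⟨U, hxU, s, rfl⟩ := TopCat.Presheaf.exists_germ_eq (C := Ab.{u}) L.presheaf a
  obtain ⟨U', hxU', t, rfl⟩ := TopCat.Presheaf.exists_germ_eq (C := Ab.{u}) L.presheaf b
  have hxV : x ∈ U ⊓ U' ⊓ W := ⟨⟨hxU, hxU'⟩, hx⟩
  haveI := h (U ⊓ U' ⊓ W) inf_le_right
  rw [← TopCat.Presheaf.germ_res_apply (C := Ab.{u}) L.presheaf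
      (homOfLE (inf_le_left.trans inf_le_left : U ⊓ U' ⊓ W ≤ U)) x hxV s,
    ← TopCat.Presheaf.germ_res_apply (C := Ab.{u}) L.presheaf
      (homOfLE (inf_le_left.trans inf_le_right : U ⊓ U' ⊓ W ≤ U')) x hxV t]
  congr 1
  exact Subsingleton.elim _ _

/-- Sections of a module over an open missing the support vanish. -/
lemma subsingleton_sections_of_disjoint_support (M : X.Modules) (A : X.Opens)
    (hA : ∀ x ∈ A, x ∉ CohB1.support M) : Subsingleton Γ(M, A) := by
  refine ⟨fun s t => ?_⟩
  apply TopCat.Presheaf.section_ext (C := Ab.{u}) ⟨M.presheaf, M.isSheaf⟩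
  intro x hx
  have : Subsingleton (M.presheaf.stalk x) := by
    by_contra hne
    exact hA x hx hne
  exact Subsingleton.elim _ _

section Main

variable (M : X.Modules) (U' : X.Opens)

/-- `j_* (M|_{U'})`. -/
noncomputable abbrev N : X.Modules := (pushforward U'.ι).obj ((restrictFunctor U'.ι).obj M)

/-- the unit `M ⟶ j_* (M|_{U'})`. -/
noncomputable abbrev η : M ⟶ N M U' := (restrictAdjunction U'.ι).unit.app M

lemma η_app_injective (V : X.Opens) (hV : V ≤ U') : Function.Injective ((η M U').app V) := by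
  have hle : V ≤ U'.ι ''ᵁ (U'.ι ⁻¹ᵁ V) := by
    intro x hx
    exact ⟨⟨x, hV hx⟩, hx, rfl⟩
  intro a b hab
  have h1 : (η M U').app V = M.presheaf.map (homOfLE (U'.ι.image_preimage_le V)).op := rfl
  rw [h1] at hab
  have h3 : ((homOfLE (U'.ι.image_preimage_le V)).op ≫ (homOfLE hle).op) = 𝟙 _ :=
    Subsingleton.elim _ _
  have hcomp : M.presheaf.map (homOfLE (U'.ι.image_preimage_le V)).op ≫
      M.presheaf.map (homOfLE hle).op = 𝟙 _ := by
    rw [← M.presheaf.map_comp, h3, M.presheaf.map_id]
  have ha : M.presheaf.map (homOfLE hle).op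
      (M.presheaf.map (homOfLE (U'.ι.image_preimage_le V)).op a) = a := congr($hcomp a)
  have hb : M.presheaf.map (homOfLE hle).op
      (M.presheaf.map (homOfLE (U'.ι.image_preimage_le V)).op b) = b := congr($hcomp b)
  calc a = _ := ha.symm
    _ = _ := congrArg _ hab
    _ = b := hb

lemma subsingleton_kernel (V : X.Opens) (hV : V ≤ U') : Subsingleton Γ(kernel (η M U'), V) := by
  refine ⟨fun a b => ?_⟩
  apply appₗ_injective_of_mono (kernel.ι (η M U')) V
  apply η_app_injective M U' V hV
  have h0 : (kernel.ι (η M U') ≫ η M U').app V = 0 := by rw [kernel.condition]; rfl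
  have ha : (η M U').app V ((kernel.ι (η M U')).app V a) = 0 := congr($h0 a)
  have hb : (η M U').app V ((kernel.ι (η M U')).app V b) = 0 := congr($h0 b)
  exact ha.trans hb.symm

/-- Sections of `j_* (M|_{U'})` over `V` vanish when `V ∩ U'` misses the support of `M`. -/
lemma subsingleton_N (V : X.Opens) (hV : ∀ x ∈ V, x ∈ U' → x ∉ CohB1.support M) :
    Subsingleton Γ(N M U', V) := by
  apply subsingleton_sections_of_disjoint_support M (U'.ι ''ᵁ (U'.ι ⁻¹ᵁ V))
  rintro _ ⟨y, hy, rfl⟩
  exact hV _ hy y.2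

lemma subsingleton_coimage (V : X.Opens) (hV : ∀ x ∈ V, x ∈ U' → x ∉ CohB1.support M) :
    Subsingleton Γ(cokernel (kernel.ι (η M U')), V) := by
  haveI := subsingleton_N M U' V hV
  refine ⟨fun a b => ?_⟩
  apply appₗ_injective_of_mono (Abelian.factorThruCoimage (η M U')) V
  exact Subsingleton.elim _ _

theorem main [IsNoetherian X] (hM : Coh.IsCoh M)
    (Z Z' : Set X) (hZ : IsClosed Z) (hZ' : IsClosed Z') (h : CohB1.support M = Z ∪ Z') :
    ∃ S : ShortComplex X.Modules, S.ShortExact ∧ Nonempty (S.X₂ ≅ M) ∧ Coh.IsCoh S.X₁ ∧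
      Coh.IsCoh S.X₃ ∧ CohB1.support S.X₁ ⊆ Z' ∧ CohB1.support S.X₃ ⊆ Z := by
  let U' : X.Opens := ⟨Z'ᶜ, hZ'.isOpen_compl⟩
  let W : X.Opens := ⟨Zᶜ, hZ.isOpen_compl⟩
  let S : ShortComplex X.Modules :=
    ShortComplex.mk (kernel.ι (η M U')) (cokernel.π (kernel.ι (η M U'))) (by simp)
  have hS : S.ShortExact :=
    { exact := S.exact_of_g_is_cokernel (cokernelIsCokernel _)
      mono_f := inferInstanceAs (Mono (kernel.ι (η M U')))
      epi_g := inferInstanceAs (Epi (cokernel.π (kernel.ι (η M U')))) }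
  haveI : M.IsQuasicoherent := hM.1
  haveI hq : ((restrictFunctor U'.ι).obj M).IsQuasicoherent := inferInstance
  haveI hN : (N M U').IsQuasicoherent := isQuasicoherent_pushforward U'.ι _
  have hK : Coh.IsCoh (kernel (η M U')) := by
    haveI hq : (kernel (η M U')).IsQuasicoherent :=
      Groth.Agent.H22.QCohLimits.isQuasicoherent_kernel (η M U')
    refine ⟨hq, ?_⟩
    apply isFiniteType_of_forall_affine_finite
    intro U
    haveI : IsNoetherianRing Γ(X, (U : X.Opens)) := IsLocallyNoetherian.component_noetherian U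
    haveI : Module.Finite Γ(X, (U : X.Opens)) Γ(M, (U : X.Opens)) :=
      finite_sections_of_isCoh M hM U.2
    haveI : IsNoetherian Γ(X, (U : X.Opens)) Γ(M, (U : X.Opens)) :=
      isNoetherian_of_isNoetherianRing_of_finite _ _
    exact Module.Finite.of_injective (appₗ (kernel.ι (η M U')) (U : X.Opens))
      (appₗ_injective_of_mono (kernel.ι (η M U')) (U : X.Opens))
  refine ⟨S, hS, ⟨Iso.refl _⟩, hK, isCoh_cokernel hK hM (kernel.ι (η M U')), ?_, ?_⟩
  · intro x hx
    by_contra hxZ'
    exact not_mem_support_of_subsingleton (kernel (η M U')) U' x hxZ'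
      (fun V hV => subsingleton_kernel M U' V hV) hx
  · intro x hx
    by_contra hxZ
    refine not_mem_support_of_subsingleton (cokernel (kernel.ι (η M U'))) W x hxZ
      (fun V hV => subsingleton_coimage M U' V ?_) hx
    intro y hyV hyU' hy
    rw [h] at hy
    rcases hy with hy | hy
    · exact hV hyV hy
    · exact hyU' hy

end Main

end Groth.Agent.H30.SuppSplit
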