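import Mathlib
import Groth.Prelude.Def_CohB1
import Groth.Prelude.Def_Coh
import Groth.Agent.H8.StructureCoh
import Groth.Agent.H8.UnitHom

/-!
# (Q1) for helper22's S9828: a finitely presented module mapping onto a given section
-/

set_option autoImplicit false
set_option linter.style.haveILetI false
universe u
open CategoryTheory CategoryTheory.Limits AlgebraicGeometry TopologicalSpace Opposite
open AlgebraicGeometry.Scheme.Modules

namespace Groth.Agent.H30.FPExt_Q1

variable {X : Scheme.{u}}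

/-- The structure sheaf is a finitely presented module. -/
theorem isFP_structureModule (T : Scheme.{u}) : CohB1.IsFP (Coh.structureModule T) := by
  haveI := Groth.Agent.H8.isQuasicoherent_structureModule' T
  apply Groth.Agent.H8.isFinitePresentation_of_forall_affine_finitePresentation
  intro U
  exact (inferInstance : Module.FinitePresentation Γ(T, (U : T.Opens)) Γ(T, (U : T.Opens)))

/-- Naturality of the action on sections with respect to restriction. -/
lemma app_res {M N : X.Modules} (φ : M ⟶ N) {A B : X.Opens} (h : A ≤ B) (x : Γ(M, B)) :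
    φ.app A (M.presheaf.map (homOfLE h).op x) = N.presheaf.map (homOfLE h).op (φ.app B x) := by
  have h1 := φ.mapPresheaf.naturality (homOfLE h).op
  exact congr($h1 x)

/-- (Q1), with the statement of S2115 (for this `X` and `F`) as an explicit hypothesis. -/
theorem exists_fp_through_section_of (F : X.Modules) (V : X.Opens)
    (hV : IsAffineOpen V) (s : Γ(F, V))
    (h2115 : ∀ (U : X.Opens) (_ : IsCompact (U : Set X)) (G : (U : Scheme.{u}).Modules)
      (_ : CohB1.IsFP G) (φ : G ⟶ F.restrict U.ι),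
      ∃ (G' : X.Modules) (φ' : G' ⟶ F) (e : G'.restrict U.ι ≅ G), CohB1.IsFP G' ∧
        e.hom ≫ φ = (Scheme.Modules.restrictFunctor U.ι).map φ') :
    ∃ (G : X.Modules) (φ : G ⟶ F), CohB1.IsFP G ∧ s ∈ Set.range (φ.app V) := by
  have hVtop : V.ι ''ᵁ (⊤ : (V : Scheme.{u}).Opens) = V := Scheme.Opens.ι_image_top V
  have hle : V.ι ''ᵁ (⊤ : (V : Scheme.{u}).Opens) ≤ V := hVtop.le
  have hge : V ≤ V.ι ''ᵁ (⊤ : (V : Scheme.{u}).Opens) := hVtop.ge
  let s' : Γ(F.restrict V.ι, ⊤) := F.presheaf.map (homOfLE hle).op s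
  obtain ⟨φ₀, hφ₀⟩ := (Groth.Agent.H8.unit_hom_ev_bijective (V : Scheme.{u}) (F.restrict V.ι)).2 s'
  obtain ⟨G', φ', e, hG', he⟩ :=
    h2115 V hV.isCompact (Coh.structureModule (V : Scheme.{u})) (isFP_structureModule _) φ₀
  refine ⟨G', φ', hG', ?_⟩
  let one : Γ(Coh.structureModule (V : Scheme.{u}), ⊤) := (1 : Γ((V : Scheme.{u}), ⊤))
  let t : Γ(G'.restrict V.ι, ⊤) := e.inv.app ⊤ one
  have hone : e.hom.app ⊤ t = one := by
    have h : (e.inv ≫ e.hom).app ⊤ one = one := by
      rw [e.inv_hom_id]; rfl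
    exact h
  have h1 : ((Scheme.Modules.restrictFunctor V.ι).map φ').app ⊤ t = s' := by
    rw [← he]
    show φ₀.app ⊤ (e.hom.app ⊤ t) = s'
    rw [hone]
    exact hφ₀
  have h2 : φ'.app (V.ι ''ᵁ (⊤ : (V : Scheme.{u}).Opens)) t = s' := h1
  refine ⟨G'.presheaf.map (homOfLE hge).op t, ?_⟩
  rw [app_res φ' hge t, h2]
  show F.presheaf.map (homOfLE hge).op (F.presheaf.map (homOfLE hle).op s) = s
  rw [← ConcreteCategory.comp_apply, ← F.presheaf.map_comp]
  have : (homOfLE hle).op ≫ (homOfLE hge).op = 𝟙 (op V) := Subsingleton.elim _ _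
  rw [this, F.presheaf.map_id]
  rfl

end Groth.Agent.H30.FPExt_Q1
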