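import Groth.Agent.H30.NilFlat

set_option autoImplicit false

universe u v

open TensorProduct LinearMap

namespace Groth.Agent.H30.NilFlat

variable {A : Type u} [CommRing A] {M : Type v} [AddCommGroup M] [Module A M] (I : Ideal A)


theorem good_of_module_quot [Module.Flat (A ⧸ I) ((A ⧸ I) ⊗[A] M)]
    (hinj : Function.Injective (rTensor M I.subtype))
    (N : Type u) [AddCommGroup N] [Module A N] [Module (A ⧸ I) N] [IsScalarTower A (A ⧸ I) N] :
    Good A M N := by
  obtain ⟨π', hπ'def⟩ : ∃ π' : (N →₀ A ⧸ I) →ₗ[A ⧸ I] N,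
      π' = Finsupp.linearCombination (A ⧸ I) id := ⟨_, rfl⟩
  have hπ' : Function.Surjective π' := by
    rw [hπ'def]; exact Finsupp.linearCombination_id_surjective (A ⧸ I) N
  have h1 : Good A M (N →₀ A ⧸ I) := good_finsupp_quot I hinj N
  have h2 : Function.Injective (rTensor M ((LinearMap.ker π').subtype.restrictScalars A)) :=
    rTensor_restrictScalars_injective (A ⧸ I) _ (Submodule.injective_subtype _)
  have h3 : Function.Exact ((LinearMap.ker π').subtype.restrictScalars A) (π'.restrictScalars A) := by
    intro y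
    constructor
    · intro h
      exact ⟨⟨y, h⟩, rfl⟩
    · rintro ⟨k, rfl⟩
      exact k.2
  refine good_of_exact A M (K := LinearMap.ker π') (F := N →₀ A ⧸ I)
    ((LinearMap.ker π').subtype.restrictScalars A) (π'.restrictScalars A) h3 hπ' h1 ?_
  convert h2

theorem good_of_torsion [Module.Flat (A ⧸ I) ((A ⧸ I) ⊗[A] M)]
    (hinj : Function.Injective (rTensor M I.subtype))
    (N : Type u) [AddCommGroup N] [Module A N] (hN : Module.IsTorsionBySet A N (I : Set A)) :
    Good A M N :=
  @good_of_module_quot A _ M _ _ I _ hinj N _ _ hN.module hN.isScalarTower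

theorem good_of_pow_smul_eq_zero [Module.Flat (A ⧸ I) ((A ⧸ I) ⊗[A] M)]
    (hinj : Function.Injective (rTensor M I.subtype)) :
    ∀ (k : ℕ) (N : Type u) [AddCommGroup N] [Module A N],
      (∀ a ∈ I ^ k, ∀ x : N, a • x = 0) → Good A M N := by
  intro k
  induction k with
  | zero =>
    intro N _ _ h
    haveI : Subsingleton N := ⟨fun x y => by
      rw [← one_smul A x, ← one_smul A y, h 1 (by simp) x, h 1 (by simp) y]⟩
    exact good_of_projective A M N
  | succ k ih =>
    intro N _ _ h
    refine good_of_ext A M (Submodule.torsionBySet A N (I : Set A)) ?_ ?_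
    · exact good_of_torsion I hinj _ (Submodule.torsionBySet_isTorsionBySet _)
    · apply ih
      intro b hb x
      obtain ⟨n, rfl⟩ := Submodule.Quotient.mk_surjective _ x
      rw [← Submodule.Quotient.mk_smul, Submodule.Quotient.mk_eq_zero,
        Submodule.mem_torsionBySet_iff]
      rintro ⟨a, ha⟩
      rw [smul_smul]
      exact h (a * b) (by rw [pow_succ']; exact Ideal.mul_mem_mul ha hb) n

theorem flat_of_nilpotent (hI : IsNilpotent I)
    (hflat : Module.Flat (A ⧸ I) ((A ⧸ I) ⊗[A] M))
    (hinj : Function.Injective (rTensor M I.subtype)) : Module.Flat A M := by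
  rw [Module.Flat.iff_rTensor_injective']
  intro J
  obtain ⟨n, hn⟩ := hI
  have hG : Good A M (A ⧸ J) := good_of_pow_smul_eq_zero I hinj n (A ⧸ J) (fun a ha x => by
    rw [hn, Ideal.zero_eq_bot, Ideal.mem_bot] at ha
    rw [ha, zero_smul])
  have key : ∀ (J' : Submodule A A), J' = J → Function.Injective (rTensor M J'.subtype) →
      Function.Injective (rTensor M J.subtype) := by
    rintro _ rfl h
    exact h
  exact key _ (Submodule.ker_mkQ J) (hG A J.mkQ (Submodule.mkQ_surjective J))


end Groth.Agent.H30.NilFlat
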