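import Mathlib
import Groth.Prelude.Def_Coh
import Groth.Prelude.Def_CohB1
import Groth.Prelude.Def_ClSub2
import Groth.Agent.H30.TwistResGe
import Groth.Agent.H82.HHFinite
import Groth.Agent.H8.CohKerCoker
import Groth.Agent.H8.InvTensor
import Groth.Agent.H18.AmpleIso
import Groth.Agent.H18.QAffAmple
import Groth.Agent.H18.AmpleTensor
import Groth.Agent.H18.TensorGen
import Groth.Agent.H18.AmpleTwistGG
import Groth.Agent.S0010

/-!
# Cohomological dimension from negative twists of an ample module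

If `L` is ample with inverse `M` on a Noetherian separated scheme and `H^i(S, M^m) = 0` for
`i > r`, `m ≥ m₀`, then `H^i(S, F) = 0` for all coherent `F`, `i > r`.
-/

set_option autoImplicit false
set_option linter.unusedSectionVars false
set_option linter.unusedVariables false
set_option linter.style.haveILetI false

universe u

open CategoryTheory CategoryTheory.Limits AlgebraicGeometry TopologicalSpace Opposite

namespace Groth.Agent.H30.AmpleVan

open Groth.Agent.H82.HHFinite Groth.Agent.H82.HHA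

variable {X : Scheme.{u}}

theorem subsingleton_HH_sigma {ι : Type} [Fintype ι] [DecidableEq ι] (F : ι → X.Modules) (i : ℕ)
    (h : ∀ j, Subsingleton (Coh.HH X (F j) i)) : Subsingleton (Coh.HH X (∐ F) i) := by
  haveI : HasFiniteBiproducts X.Modules := HasFiniteBiproducts.of_hasFiniteProducts
  obtain ⟨π, hπ⟩ := exists_sigma_total F
  have key : ∀ x : Coh.HH X (∐ F) i, x = 0 := by
    intro x
    rw [H_eq_sum F π hπ i x]
    refine Finset.sum_eq_zero fun j _ => ?_
    haveI := h j
    rw [Subsingleton.elim (Sheaf.H.map (abMap (π j)) i x) 0, _root_.map_zero]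
  exact ⟨fun a b => (key a).trans (key b).symm⟩

/-- descending induction, with resolutions by members of a class `P` of coherent modules -/
theorem vanishing_aux [IsLocallyNoetherian X] (P : X.Modules → Prop)
    (hP : ∀ E, P E → Coh.IsCoh E)
    (hres : ∀ F : X.Modules, Coh.IsCoh F → ∃ (E : X.Modules) (π : E ⟶ F), P E ∧ Epi π)
    (n : ℕ) (h : ∀ E : X.Modules, P E → ∀ i : ℕ, n < i → Subsingleton (Coh.HH X E i))
    (t : ℕ) (ht : ∀ (M : X.Modules), Coh.IsQCoh M → ∀ i : ℕ, t ≤ i → Subsingleton (Coh.HH X M i))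
    (m : ℕ) : ∀ (i : ℕ), n < i → t ≤ i + m → ∀ (F : X.Modules), Coh.IsCoh F →
      Subsingleton (Coh.HH X F i) := by
  induction m with
  | zero =>
    intro i _ hti F hF
    exact ht F hF.1 i (by omega)
  | succ m ih =>
    intro i hi hti F hF
    obtain ⟨E, π, hE, hπ⟩ := hres F hF
    have hEc : Coh.IsCoh E := hP E hE
    have hK : Coh.IsCoh (kernel π) := Groth.Agent.H8.isCoh_kernel hEc hF π
    let S : ShortComplex X.Modules := ShortComplex.mk (kernel.ι π) π (kernel.condition π)
    have hS : S.ShortExact :=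
      { exact := ShortComplex.exact_of_f_is_kernel _ (kernelIsKernel π)
        mono_f := inferInstance
        epi_g := hπ }
    haveI h1 : Subsingleton (Coh.HH X (kernel π) (i + 1)) :=
      ih (i + 1) (by omega) (by omega) (kernel π) hK
    haveI h2 : Subsingleton (Coh.HH X E i) := h E hE i hi
    have key : ∀ x : Coh.HH X F i, x = 0 := by
      intro x
      obtain ⟨y, hy⟩ := δ_exact S hS i x (Subsingleton.elim _ _)
      rw [← hy, Subsingleton.elim y 0, _root_.map_zero]
    exact ⟨fun x y => (key x).trans (key y).symm⟩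

/-- a quasi-compact separated scheme has a finite affine cover to which `S0010` applies -/
theorem exists_bound [CompactSpace X] [X.IsSeparated] :
    ∃ t : ℕ, ∀ (M : X.Modules), Coh.IsQCoh M → ∀ i : ℕ, t ≤ i → Subsingleton (Coh.HH X M i) := by
  classical
  let W : X → X.Opens := fun x => (X.affineCover.f (X.affineCover.idx x)).opensRange
  obtain ⟨s, hs⟩ := CompactSpace.elim_nhds_subcover
    (fun x : X => (W x : Set X))
    (fun x => (W x).isOpen.mem_nhds (X.affineCover.covers x))
  let e := (Fintype.equivFin ↥s).symm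
  refine ⟨Fintype.card ↥s, fun M hM i hi => ?_⟩
  haveI : Coh.IsQCoh M := hM
  refine Groth.Agent.S0010.result X (Fintype.card ↥s)
    (fun j => W (e j).1)
    (fun j => isAffineOpen_opensRange _) ?_ (fun V W hV hW => hV.inf hW) M i hi
  rw [eq_top_iff]
  intro x _
  have hx : x ∈ ⋃ y ∈ s, (W y : Set X) := by
    rw [hs]; trivial
  obtain ⟨y, hy, hxy⟩ := Set.mem_iUnion₂.mp hx
  refine Opens.mem_iSup.mpr ⟨e.symm ⟨y, hy⟩, ?_⟩
  rw [Equiv.apply_symm_apply]
  exact hxy

/-- main theorem -/
theorem main [IsLocallyNoetherian X] [X.IsSeparated] (L M : X.Modules) (hL : CohB1.IsAmple L)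
    (hM : ClSub.IsInverseOf M L) (r : ℕ)
    (hneg : ∃ m₀ : ℕ, ∀ m : ℕ, m₀ ≤ m → ∀ i : ℕ, r < i →
      Subsingleton (Coh.HH X (CohB1.tensorPow M m) i))
    (F : X.Modules) (hF : Coh.IsCoh F) (i : ℕ) (hi : r < i) :
    Subsingleton (Coh.HH X F i) := by
  classical
  haveI : CompactSpace X := hL.2.1
  obtain ⟨m₀, hm₀⟩ := hneg
  obtain ⟨e⟩ := hM
  have hMinv : PicF.IsInvertible M := Groth.Agent.H8.InvTensor.isInvertible_of_tensor_iso M L e
  have hT : ∀ k : ℕ, PicF.IsInvertible (CohB1.tensorPow M k) ∧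
      Nonempty (CohB1.tensorMod (CohB1.tensorPow M k) (CohB1.tensorPow L k) ≅
        Coh.structureModule X) := by
    intro k
    refine ⟨Groth.Agent.H18.TensorGen.isInvertible_tensorPow hMinv k, ?_⟩
    obtain ⟨e1⟩ := Groth.Agent.H18.AmpleTensor.nonempty_tensorPow_tensorMod hMinv hL.1 k
    obtain ⟨e2⟩ := Groth.Agent.H18.AmpleIso.nonempty_tensorPow_iso e k
    obtain ⟨e3⟩ := Groth.Agent.H18.QAffAmple.nonempty_tensorPow_unit_iso (X := X) k
    exact ⟨e1 ≪≫ e2 ≪≫ e3⟩
  let P : X.Modules → Prop := fun E => ∃ (n : ℕ) (d : Fin n → ℕ),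
    (∀ j, m₀ ≤ d j) ∧ E = ∐ fun j : Fin n => CohB1.tensorPow M (d j)
  have hP : ∀ E, P E → Coh.IsCoh E := by
    rintro E ⟨n, d, -, rfl⟩
    exact Groth.Agent.H82.HHFinite.isCoh_sigma _ (fun j =>
      Groth.Agent.H18.AmpleTwistGG.isCoh_of_isInvertible
        (Groth.Agent.H18.TensorGen.isInvertible_tensorPow hMinv (d j)))
  have hres : ∀ F : X.Modules, Coh.IsCoh F → ∃ (E : X.Modules) (π : E ⟶ F), P E ∧ Epi π := by
    intro F hF
    obtain ⟨n, d, φ, hd, hφ⟩ := Groth.Agent.H30.TwistResGe.exists_epi_sigma hL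
      (fun k => CohB1.tensorPow M k) hT m₀ F hF
    exact ⟨_, φ, ⟨n, d, hd, rfl⟩, hφ⟩
  have hvan : ∀ E : X.Modules, P E → ∀ i : ℕ, r < i → Subsingleton (Coh.HH X E i) := by
    rintro E ⟨n, d, hd, rfl⟩ i hi
    exact subsingleton_HH_sigma _ i (fun j => hm₀ (d j) (hd j) i hi)
  obtain ⟨t, ht⟩ := exists_bound (X := X)
  exact vanishing_aux P hP hres r hvan t ht t i hi (by omega) F hF

/-- the form over a field -/
theorem main_field (k : Type u) [Field k] (S : Scheme.{u})
    [S.Over (Spec (CommRingCat.of k))] [IsSeparated (S ↘ (Spec (CommRingCat.of k)))]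
    [LocallyOfFiniteType (S ↘ (Spec (CommRingCat.of k)))]
    (L M : S.Modules) (hL : CohB1.IsAmple L) (hM : ClSub.IsInverseOf M L) (r : ℕ)
    (hneg : ∃ m₀ : ℕ, ∀ m : ℕ, m₀ ≤ m → ∀ i : ℕ, r < i →
      Subsingleton (Coh.HH S (CohB1.tensorPow M m) i))
    (F : S.Modules) (hF : Coh.IsCoh F) (i : ℕ) (hi : r < i) :
    Subsingleton (Coh.HH S F i) := by
  haveI : IsLocallyNoetherian S :=
    LocallyOfFiniteType.isLocallyNoetherian (S ↘ (Spec (CommRingCat.of k)))
  haveI : S.IsSeparated := ⟨by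
    rw [← terminal.comp_from (S ↘ (Spec (CommRingCat.of k)))]
    infer_instance⟩
  exact main L M hL hM r hneg F hF i hi

end Groth.Agent.H30.AmpleVan
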