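import Groth.Agent.H30.TFin
import Mathlib.CategoryTheory.Extensive
import Mathlib.CategoryTheory.Limits.MonoCoprod
import Mathlib.CategoryTheory.Limits.Shapes.DisjointCoproduct
import Mathlib.CategoryTheory.Limits.Shapes.StrictInitial
import Mathlib.CategoryTheory.Sites.LeftExact
import Mathlib.CategoryTheory.Sites.Limits
import Mathlib.CategoryTheory.Sites.Sheafification
import Mathlib.CategoryTheory.Sites.LocallyBijective
import Mathlib.CategoryTheory.Sites.Canonical
import Mathlib.CategoryTheory.Yoneda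

/-!
# Coproducts in a sheaf topos: a cofan is a coproduct iff it is a disjoint covering family of
monomorphisms; translation to the site for sheafified representables.
-/

set_option autoImplicit false
universe w w' u v₁ u₁ v₂ u₂

namespace Groth.Agent.H30.Cop

open CategoryTheory Limits Opposite
open Groth.Agent.H30.TFin

section general

variable {𝒞 : Type u₁} [Category.{v₁} 𝒞]

/-- A cofan is a coproduct iff it induces bijections on homs. -/
lemma nonempty_isColimit_cofan_iff {ι : Type w} {A : 𝒞} {F : ι → 𝒞} (f : ∀ i, F i ⟶ A) :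
    Nonempty (IsColimit (Cofan.mk A f)) ↔
      ∀ Z : 𝒞, Function.Bijective (fun (g : A ⟶ Z) (i : ι) => f i ≫ g) := by
  constructor
  · rintro ⟨hc⟩ Z
    constructor
    · intro g h e
      exact Cofan.IsColimit.hom_ext hc g h (fun i => congrFun e i)
    · intro t
      exact ⟨Cofan.IsColimit.desc hc t, funext fun i => Cofan.IsColimit.fac hc t i⟩
  · intro h
    choose d hd using fun Z => (h Z).2
    exact ⟨Cofan.IsColimit.mk _ (fun s => d s.pt s.inj)
      (fun s i => congrFun (hd s.pt s.inj) i)
      (fun s m hm => (h s.pt).1 (funext fun i =>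
        (hm i).trans (congrFun (hd s.pt s.inj) i).symm))⟩

lemma bijective_iff_of_adj {𝒟 : Type u₂} [Category.{v₂} 𝒟] {L : 𝒞 ⥤ 𝒟} {R : 𝒟 ⥤ 𝒞} (adj : L ⊣ R)
    {ι : Type w} {A : 𝒞} {F : ι → 𝒞} (f : ∀ i, F i ⟶ A) (Z : 𝒟) :
    Function.Bijective (fun (g : L.obj A ⟶ Z) (i : ι) => L.map (f i) ≫ g) ↔
      Function.Bijective (fun (g : A ⟶ R.obj Z) (i : ι) => f i ≫ g) := by
  have key : (fun (g : L.obj A ⟶ Z) (i : ι) => L.map (f i) ≫ g) =
      (Equiv.piCongrRight (fun i => adj.homEquiv (F i) Z)).symm ∘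
        (fun (g : A ⟶ R.obj Z) (i : ι) => f i ≫ g) ∘ (adj.homEquiv A Z) := by
    funext g i
    show L.map (f i) ≫ g = (adj.homEquiv (F i) Z).symm (f i ≫ adj.homEquiv A Z g)
    rw [adj.homEquiv_naturality_left_symm, Equiv.symm_apply_apply]
  rw [key, Equiv.comp_bijective, Equiv.bijective_comp]

/-- The image of the diagonal under a pullback-preserving functor is an isomorphism iff the
image of the map is a monomorphism. -/
lemma isIso_map_diagonal_iff {𝒟 : Type u₂} [Category.{v₂} 𝒟] [HasPullbacks 𝒞] [HasPullbacks 𝒟]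
    (a : 𝒞 ⥤ 𝒟) [PreservesLimitsOfShape WalkingCospan a] {P Q : 𝒞} (φ : P ⟶ Q) :
    IsIso (a.map (pullback.diagonal φ)) ↔ Mono (a.map φ) := by
  have e : a.map (pullback.diagonal φ) ≫ (PreservesPullback.iso a φ φ).hom =
      pullback.diagonal (a.map φ) := by
    apply pullback.hom_ext
    · rw [Category.assoc, PreservesPullback.iso_hom_fst, ← a.map_comp, pullback.diagonal_fst,
        a.map_id, pullback.diagonal_fst]
    · rw [Category.assoc, PreservesPullback.iso_hom_snd, ← a.map_comp, pullback.diagonal_snd,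
        a.map_id, pullback.diagonal_snd]
  rw [← pullback.isIso_diagonal_iff, ← e]
  constructor
  · intro h
    infer_instance
  · intro h
    exact IsIso.of_isIso_comp_right _ (PreservesPullback.iso a φ φ).hom

/-! ### Splitting off one summand of a coproduct -/

section split

variable {ι : Type w} [DecidableEq ι] {F : ι → 𝒞} (i : ι)
  [HasCoproduct (fun k : {k // k ≠ i} => F k.1)]

/-- The family out of `F` induced by a map out of `F i` and a map out of the coproduct of the
other summands. -/
noncomputable def splitFam {T : 𝒞} (a : F i ⟶ T)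
    (b : (∐ fun k : {k // k ≠ i} => F k.1) ⟶ T) (k : ι) : F k ⟶ T :=
  if h : k = i then eqToHom (by rw [h]) ≫ a
  else Sigma.ι (fun k : {k // k ≠ i} => F k.1) ⟨k, h⟩ ≫ b

lemma splitFam_self {T : 𝒞} (a : F i ⟶ T)
    (b : (∐ fun k : {k // k ≠ i} => F k.1) ⟶ T) : splitFam i a b i = a := by
  simp [splitFam]

lemma splitFam_ne {T : 𝒞} (a : F i ⟶ T)
    (b : (∐ fun k : {k // k ≠ i} => F k.1) ⟶ T) (k : ι) (h : k ≠ i) :
    splitFam i a b k = Sigma.ι (fun k : {k // k ≠ i} => F k.1) ⟨k, h⟩ ≫ b := by
  simp [splitFam, h]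

end split

lemma nonempty_isColimit_binary {ι : Type w} {A : 𝒞} {F : ι → 𝒞} {f : ∀ i, F i ⟶ A}
    (hc : IsColimit (Cofan.mk A f)) (i : ι) [HasCoproduct (fun k : {k // k ≠ i} => F k.1)] :
    Nonempty (IsColimit (BinaryCofan.mk (f i)
      (Sigma.desc (fun k : {k // k ≠ i} => f k.1)))) := by
  classical
  refine ⟨BinaryCofan.IsColimit.mk _
    (fun {T} a b => Cofan.IsColimit.desc hc (splitFam i a b)) ?_ ?_ ?_⟩
  · intro T a b
    have h := Cofan.IsColimit.fac hc (splitFam i a b) i
    rw [splitFam_self] at h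
    exact h
  · intro T a b
    apply Sigma.hom_ext
    rintro ⟨k, hk⟩
    have h := Cofan.IsColimit.fac hc (splitFam i a b) k
    rw [splitFam_ne i a b k hk] at h
    exact (Sigma.ι_desc_assoc (fun k : {k // k ≠ i} => f k.1) ⟨k, hk⟩ _).trans h
  · intro T a b m h1 h2
    apply Cofan.IsColimit.hom_ext hc
    intro k
    rw [Cofan.IsColimit.fac]
    by_cases h : k = i
    · subst h
      rw [splitFam_self]
      exact h1
    · rw [splitFam_ne i a b k h, ← h2]
      exact (Sigma.ι_desc_assoc (fun k : {k // k ≠ i} => f k.1) ⟨k, h⟩ m).symm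

/-- In a finitary extensive category, distinct summands of an arbitrary coproduct are
disjoint. -/
lemma nonempty_isInitial_pullback_of_isColimit [FinitaryExtensive 𝒞] [HasPullbacks 𝒞]
    {ι : Type w} [HasCoproducts.{w} 𝒞] {A : 𝒞} {F : ι → 𝒞} {f : ∀ i, F i ⟶ A}
    (hc : IsColimit (Cofan.mk A f)) {i j : ι} (hij : i ≠ j) :
    Nonempty (IsInitial (pullback (f i) (f j))) := by
  obtain ⟨hb⟩ := nonempty_isColimit_binary hc i
  have I0 : IsInitial (pullback (f i) (Sigma.desc (fun k : {k // k ≠ i} => f k.1))) :=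
    IsInitial.ofBinaryCoproductDisjointOfIsColimit hb
  exact ⟨IsInitial.ofStrict (pullback.lift (pullback.fst _ _)
    (pullback.snd _ _ ≫ Sigma.ι (fun k : {k // k ≠ i} => F k.1) ⟨j, hij.symm⟩)
    (by rw [Category.assoc, Sigma.ι_desc, pullback.condition])) I0⟩

/-- Universal colimit cofans from stability under each base change. -/
lemma isUniversalColimit_cofan_of {ι : Type w} {A : 𝒞} {F : ι → 𝒞} (f : ∀ i, F i ⟶ A)
    (H : ∀ {A' : 𝒞} (g : A' ⟶ A) (P : ι → 𝒞) (q : ∀ i, P i ⟶ F i) (p : ∀ i, P i ⟶ A'),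
      (∀ i, IsPullback (p i) (q i) g (f i)) → Nonempty (IsColimit (Cofan.mk A' p))) :
    IsUniversalColimit (Cofan.mk A f) := by
  intro F' c' α g hα _ hpb
  obtain ⟨f', rfl⟩ : ∃ f' : ι → 𝒞, F' = Discrete.functor f' :=
    ⟨fun i => F'.obj ⟨i⟩, Functor.hext (fun _ => rfl) (by
      rintro ⟨i⟩ ⟨j⟩ ⟨⟨h⟩⟩
      obtain rfl : i = j := h
      simp)⟩
  obtain ⟨hc⟩ := H g f' (fun i => α.app ⟨i⟩) (fun i => c'.ι.app ⟨i⟩) (fun i => hpb ⟨i⟩)
  exact ⟨IsColimit.ofIsoColimit hc (Cocone.ext (Iso.refl _) (by rintro ⟨i⟩; simp))⟩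

end general

section sheaf

variable {C : Type u} [SmallCategory C] {J : GrothendieckTopology C}

set_option backward.isDefEq.respectTransparency false in
/-- A jointly epimorphic family of monomorphisms with pairwise initial intersections is a
coproduct. -/
theorem isIso_sigmaDesc_of {ι : Type u} {A : Sheaf J (Type u)} {F : ι → Sheaf J (Type u)}
    (f : ∀ i, F i ⟶ A) (hje : JE f) (hmono : ∀ i, Mono (f i))
    (hdisj : ∀ i j, i ≠ j → Nonempty (IsInitial (pullback (f i) (f j)))) :
    IsIso (Sigma.desc f) := by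
  have hepi : Epi (Sigma.desc f) := (epi_sigmaDesc_iff f).2 hje
  have hmono' : Mono (Sigma.desc f) := by
    obtain ⟨σ, hσ⟩ : ∃ σ : (∐ F) ⟶ A, σ = Sigma.desc f := ⟨_, rfl⟩
    rw [← hσ]
    have hισ : ∀ i, Sigma.ι F i ≫ σ = f i := fun i => by rw [hσ, Sigma.ι_desc]
    have hι : JE (Sigma.ι F) := fun Z a b h => Sigma.hom_ext _ _ h
    have h2 := hι.prod_map σ
    have key : pullback.fst σ σ = pullback.snd σ σ := by
      apply h2
      rintro ⟨i, j⟩
      dsimp only
      rw [pullback.lift_fst, pullback.lift_snd]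
      by_cases hij : i = j
      · subst hij
        have hm : Mono (Sigma.ι F i ≫ σ) := by rw [hισ]; exact hmono i
        have e : pullback.fst (Sigma.ι F i ≫ σ) (Sigma.ι F i ≫ σ) = pullback.snd _ _ := by
          rw [← cancel_mono (Sigma.ι F i ≫ σ)]
          exact pullback.condition
        rw [e]
      · have : ∀ (g : F i ⟶ A) (h : F j ⟶ A), g = f i → h = f j →
            Nonempty (IsInitial (pullback g h)) := by
          rintro _ _ rfl rfl
          exact hdisj i j hij
        obtain ⟨I0⟩ := this (Sigma.ι F i ≫ σ) (Sigma.ι F j ≫ σ) (hισ i) (hισ j)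
        exact I0.hom_ext _ _
    exact ⟨fun {Z} a b hab => by
      calc a = pullback.lift a b hab ≫ pullback.fst σ σ := (pullback.lift_fst _ _ _).symm
        _ = pullback.lift a b hab ≫ pullback.snd σ σ := by rw [key]
        _ = b := pullback.lift_snd _ _ _⟩
  exact isIso_of_mono_of_epi _

/-- Characterisation of coproduct cofans in a sheaf topos. -/
theorem nonempty_isColimit_cofan_iff_sheaf {ι : Type u} {A : Sheaf J (Type u)}
    {F : ι → Sheaf J (Type u)} (f : ∀ i, F i ⟶ A) :
    Nonempty (IsColimit (Cofan.mk A f)) ↔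
      JE f ∧ (∀ i, Mono (f i)) ∧
        ∀ i j, i ≠ j → Nonempty (IsInitial (pullback (f i) (f j))) := by
  constructor
  · rintro ⟨hc⟩
    refine ⟨fun Z a b h => Cofan.IsColimit.hom_ext hc a b h, fun i => ?_,
      fun i j hij => nonempty_isInitial_pullback_of_isColimit hc hij⟩
    exact MonoCoprod.mono_inj F (Cofan.mk A f) hc i
  · rintro ⟨h1, h2, h3⟩
    have := isIso_sigmaDesc_of f h1 h2 h3
    exact (Cofan.nonempty_isColimit_iff_isIso_sigmaDesc (Cofan.mk A f)).2
      (by simpa using this)

/-- Coproducts in a sheaf topos are universal. -/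
theorem nonempty_isColimit_of_isPullback {ι : Type u} {A : Sheaf J (Type u)}
    {F : ι → Sheaf J (Type u)} {f : ∀ i, F i ⟶ A} (hc : Nonempty (IsColimit (Cofan.mk A f)))
    {A' : Sheaf J (Type u)} (g : A' ⟶ A) (P : ι → Sheaf J (Type u)) (q : ∀ i, P i ⟶ F i)
    (p : ∀ i, P i ⟶ A') (hP : ∀ i, IsPullback (p i) (q i) g (f i)) :
    Nonempty (IsColimit (Cofan.mk A' p)) := by
  obtain ⟨h1, h2, h3⟩ := (nonempty_isColimit_cofan_iff_sheaf f).1 hc
  refine (nonempty_isColimit_cofan_iff_sheaf p).2 ⟨?_, fun i => ?_, fun i j hij => ?_⟩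
  · exact h1.of_isPullback g q p (fun i => (hP i).flip)
  · exact (MorphismProperty.monomorphisms _).of_isPullback (hP i).flip (h2 i)
  · obtain ⟨I0⟩ := h3 i j hij
    exact ⟨IsInitial.ofStrict (pullback.lift (pullback.fst _ _ ≫ q i) (pullback.snd _ _ ≫ q j)
      (by rw [Category.assoc, Category.assoc, ← (hP i).w, ← (hP j).w,
        pullback.condition_assoc])) I0⟩

theorem isUniversalColimit_of_isColimit {ι : Type u} {A : Sheaf J (Type u)}
    {F : ι → Sheaf J (Type u)} {f : ∀ i, F i ⟶ A} (hc : Nonempty (IsColimit (Cofan.mk A f))) :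
    IsUniversalColimit (Cofan.mk A f) :=
  isUniversalColimit_cofan_of f (fun g P q p hP => nonempty_isColimit_of_isPullback hc g P q p hP)

/-! ### Translation to the site -/

variable (J)

/-- The sheafified representables of a family are jointly epimorphic iff the family is
covering. -/
theorem je_sheafify_yoneda_iff {X : C} {ι : Type w} (Y : ι → C) (s : ∀ i, Y i ⟶ X) :
    JE (fun i => (presheafToSheaf J (Type u)).map (yoneda.map (s i))) ↔
      Sieve.ofArrows Y s ∈ J X := by
  constructor
  · intro hje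
    obtain ⟨S, hS⟩ : ∃ S : Sieve X, S = Sieve.ofArrows Y s := ⟨_, rfl⟩
    rw [← hS]
    have hm : Epi ((presheafToSheaf J (Type u)).map S.functorInclusion) :=
      ⟨fun {Z} g h hgh => hje g h (fun i => by
        have e : yoneda.map (s i) =
            S.toFunctor (s i) (hS ▸ Sieve.ofArrows_mk Y s i) ≫ S.functorInclusion := rfl
        show (presheafToSheaf J (Type u)).map (yoneda.map (s i)) ≫ g =
          (presheafToSheaf J (Type u)).map (yoneda.map (s i)) ≫ h
        rw [e, Functor.map_comp, Category.assoc, Category.assoc, hgh])⟩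
    have h1 : Sheaf.IsLocallySurjective ((presheafToSheaf J (Type u)).map S.functorInclusion) :=
      (Sheaf.isLocallySurjective_iff_epi _).2 hm
    have h2 : Presheaf.IsLocallySurjective J S.functorInclusion :=
      (Presheaf.isLocallySurjective_presheafToSheaf_map_iff J _).1 h1
    have h3 := Presheaf.imageSieve_mem J S.functorInclusion (U := op X) (𝟙 X : X ⟶ X)
    refine J.superset_covering ?_ h3
    rintro V k ⟨t, ht⟩
    have e : t.1 = k := ht.trans (Category.comp_id k)
    exact e ▸ t.2
  · intro hS Z g h hgh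
    let adj := sheafificationAdjunction J (Type u)
    apply (adj.homEquiv _ _).injective
    obtain ⟨g', hg'⟩ : ∃ g' : yoneda.obj X ⟶ Z.obj, g' = adj.homEquiv _ _ g := ⟨_, rfl⟩
    obtain ⟨h', hh'⟩ : ∃ h' : yoneda.obj X ⟶ Z.obj, h' = adj.homEquiv _ _ h := ⟨_, rfl⟩
    have hnat : ∀ i, yoneda.map (s i) ≫ g' = yoneda.map (s i) ≫ h' := fun i => by
      rw [hg', hh']
      have e1 := adj.homEquiv_naturality_left (yoneda.map (s i)) g
      have e2 := adj.homEquiv_naturality_left (yoneda.map (s i)) h
      exact e1.symm.trans ((congrArg _ (hgh i)).trans e2)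
    show adj.homEquiv _ _ g = adj.homEquiv _ _ h
    rw [← hg', ← hh']
    apply yonedaEquiv.injective
    have hsep := ((isSheaf_iff_isSheaf_of_type _ _).1 Z.2).isSeparated
    apply (hsep _ hS).ext
    intro V k hk
    obtain ⟨i, l, rfl⟩ := (Sieve.mem_ofArrows_iff Y s k).1 hk
    rw [yonedaEquiv_naturality, yonedaEquiv_naturality, yoneda.map_comp, Category.assoc,
      Category.assoc, hnat i]

/-- The sheafification of a representable presheaf on an object covered by the empty sieve is
initial. -/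
noncomputable def isInitialSheafifyYoneda (W : C) (h : ⊥ ∈ J W) :
    IsInitial ((presheafToSheaf J (Type u)).obj (yoneda.obj W)) :=
  have : ∀ Z : Sheaf J (Type u),
      Unique ((presheafToSheaf J (Type u)).obj (yoneda.obj W) ⟶ Z) := fun Z =>
    haveI : Unique (((sheafToPresheaf J (Type u)).obj Z).obj (op W)) :=
      Types.isTerminalEquivUnique _ (Sheaf.isTerminalOfBotCover Z W h)
    (((sheafificationAdjunction J (Type u)).homEquiv _ _).trans yonedaEquiv).unique
  IsInitial.ofUnique _

/-- The main translation: coproduct decompositions of sheafified representables. -/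
theorem cofan_sheafify_yoneda_iff {X : C} {ι : Type u} (Y : ι → C) (s : ∀ i, Y i ⟶ X) :
    (Sieve.ofArrows Y s ∈ J X ∧
      (∀ i, IsIso ((presheafToSheaf J (Type u)).map (pullback.diagonal (yoneda.map (s i))))) ∧
      (∀ i j, i ≠ j → Nonempty (IsInitial ((presheafToSheaf J (Type u)).obj
        (pullback (yoneda.map (s i)) (yoneda.map (s j))))))) ↔
    Nonempty (IsColimit (Cofan.mk ((presheafToSheaf J (Type u)).obj (yoneda.obj X))
      (fun i => (presheafToSheaf J (Type u)).map (yoneda.map (s i))))) := by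
  rw [nonempty_isColimit_cofan_iff_sheaf, je_sheafify_yoneda_iff]
  refine and_congr Iff.rfl (and_congr (forall_congr' fun i => isIso_map_diagonal_iff _ _)
    (forall_congr' fun i => forall_congr' fun j => imp_congr Iff.rfl ?_))
  constructor
  · rintro ⟨I0⟩
    exact ⟨I0.ofIso (PreservesPullback.iso (presheafToSheaf J (Type u)) _ _)⟩
  · rintro ⟨I0⟩
    exact ⟨I0.ofIso (PreservesPullback.iso (presheafToSheaf J (Type u)) _ _).symm⟩

/-- Coproduct decompositions of sheafified representables in terms of sheaf values. -/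
theorem cofan_sheafify_yoneda_iff_bijective {X : C} {ι : Type w} (Y : ι → C)
    (s : ∀ i, Y i ⟶ X) :
    Nonempty (IsColimit (Cofan.mk ((presheafToSheaf J (Type u)).obj (yoneda.obj X))
      (fun i => (presheafToSheaf J (Type u)).map (yoneda.map (s i))))) ↔
    ∀ Z : Sheaf J (Type u), Function.Bijective
      (fun (g : yoneda.obj X ⟶ Z.obj) (i : ι) => yoneda.map (s i) ≫ g) := by
  rw [nonempty_isColimit_cofan_iff]
  exact forall_congr' fun Z =>
    bijective_iff_of_adj (sheafificationAdjunction J (Type u)) (fun i => yoneda.map (s i)) Z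

end sheaf

end Groth.Agent.H30.Cop
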