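import Groth.Agent.H30.CopCan
import Groth.Agent.S5217
import Groth.Agent.S5218
import Groth.Prelude.Def_SGA4a
import Mathlib.CategoryTheory.EquivalenceRelation
import Mathlib.CategoryTheory.Sites.EffectiveEpimorphic
import Mathlib.CategoryTheory.Limits.Shapes.KernelPair
import Mathlib.CategoryTheory.Limits.Preserves.Shapes.Equalizers
import Mathlib.CategoryTheory.Sites.RegularEpi

/-!
# Equivalence relations: SGA4-style versus Mathlib-style, and the canonical topology
-/

set_option autoImplicit false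
universe w u v₁ u₁

namespace Groth.Agent.H30.EqRel

open CategoryTheory Limits Opposite
open Groth.Agent.H30.Cop Groth.Agent.H30.TFin

section general

variable {𝒞 : Type u₁} [Category.{v₁} 𝒞]

/-- An equivalence relation in the sense of generalized points is an internal equivalence
relation in the sense of Mathlib. -/
lemma nonempty_equivalenceRelation [HasPullbacks 𝒞] {R A : 𝒞} {p₁ p₂ : R ⟶ A}
    (h : SGA4.IsEquivRel p₁ p₂) : Nonempty (EquivalenceRelation p₁ p₂) := by
  have hjm : JointlyMono₂ p₁ p₂ := ⟨fun Y f g h₁ h₂ => (h Y).1 (by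
    show (f ≫ p₁, f ≫ p₂) = (g ≫ p₁, g ≫ p₂)
    rw [h₁, h₂])⟩
  obtain ⟨r, hr₁, hr₂⟩ := (h A).2.refl (𝟙 A)
  have h0 : ∃ f : R ⟶ R, f ≫ p₁ = p₁ ∧ f ≫ p₂ = p₂ :=
    ⟨𝟙 R, Category.id_comp _, Category.id_comp _⟩
  obtain ⟨s, hs₁, hs₂⟩ := (h R).2.symm h0
  have h1 : ∃ f : pullback p₂ p₁ ⟶ R, f ≫ p₁ = pullback.fst p₂ p₁ ≫ p₁ ∧
      f ≫ p₂ = pullback.fst p₂ p₁ ≫ p₂ := ⟨_, rfl, rfl⟩
  have h2 : ∃ f : pullback p₂ p₁ ⟶ R, f ≫ p₁ = pullback.fst p₂ p₁ ≫ p₂ ∧
      f ≫ p₂ = pullback.snd p₂ p₁ ≫ p₂ := ⟨pullback.snd _ _, pullback.condition.symm, rfl⟩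
  obtain ⟨t, ht₁, ht₂⟩ := (h (pullback p₂ p₁)).2.trans h1 h2
  exact ⟨{ toJointlyMono₂ := hjm
           r := r
           reflexivity₁ := hr₁
           reflexivity₂ := hr₂
           s := s
           symmetry₁ := hs₁
           symmetry₂ := hs₂
           c := pullback.cone p₂ p₁
           isLimit := pullback.isLimit p₂ p₁
           t := t
           transitivity₁ := ht₁
           transitivity₂ := ht₂ }⟩

/-- A coequalizer of a reflexive pair is a pushout. -/
lemma isPushout_of_isColimit_cofork {R X : 𝒞} {p₁ p₂ : R ⟶ X} (r : X ⟶ R)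
    (hr₁ : r ≫ p₁ = 𝟙 X) (hr₂ : r ≫ p₂ = 𝟙 X) (c : Cofork p₁ p₂) (hc : IsColimit c) :
    IsPushout p₁ p₂ c.π c.π := by
  have key : ∀ s : PushoutCocone p₁ p₂, s.inl = s.inr := fun s => by
    calc s.inl = r ≫ p₁ ≫ s.inl := by rw [reassoc_of% hr₁]
      _ = r ≫ p₂ ≫ s.inr := by rw [s.condition]
      _ = s.inr := by rw [reassoc_of% hr₂]
  exact ⟨⟨c.condition⟩, ⟨PushoutCocone.IsColimit.mk _
    (fun s => Cofork.IsColimit.desc hc s.inl (by rw [s.condition, key s]))
    (fun s => Cofork.IsColimit.π_desc' hc _ _)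
    (fun s => (Cofork.IsColimit.π_desc' hc _ _).trans (key s))
    (fun s m h₁ _ => Cofork.IsColimit.hom_ext hc
      (h₁.trans (Cofork.IsColimit.π_desc' hc _ _).symm))⟩⟩

end general

section site

variable {C : Type u} [SmallCategory C]

lemma jointlyMono₂_yoneda (J : GrothendieckTopology C) [J.Subcanonical] {R X : C}
    {p₁ p₂ : R ⟶ X} (h : JointlyMono₂ p₁ p₂) :
    JointlyMono₂ (J.yoneda.map p₁) (J.yoneda.map p₂) where
  right_cancellation T f g h₁ h₂ := by
    ext U t
    apply h.right_cancellation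
    · exact congrArg (fun φ : T ⟶ J.yoneda.obj X => φ.hom.app U t) h₁
    · exact congrArg (fun φ : T ⟶ J.yoneda.obj X => φ.hom.app U t) h₂

/-- If the image of `f` in sheaves for the canonical topology is an epimorphism, then `f` is
an effective epimorphism. -/
lemma effectiveEpi_of_epi_yoneda_map {X' B' : C} (f : X' ⟶ B')
    (h : Epi ((Sheaf.canonicalTopology C).yoneda.map f)) : EffectiveEpi f := by
  have h1 : Sheaf.IsLocallySurjective ((Sheaf.canonicalTopology C).yoneda.map f) :=
    (Sheaf.isLocallySurjective_iff_epi _).2 h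
  have h3 := Presheaf.imageSieve_mem (Sheaf.canonicalTopology C)
    ((Sheaf.canonicalTopology C).yoneda.map f).hom (U := op B') (𝟙 B' : B' ⟶ B')
  have hmem : Sieve.generate (Presieve.singleton f) ∈ Sheaf.canonicalTopology C B' := by
    refine (Sheaf.canonicalTopology C).superset_covering ?_ h3
    rintro V k ⟨t, ht⟩
    exact ⟨X', t, f, Presieve.singleton.mk, ht.trans (Category.comp_id k)⟩
  rw [← Sieve.effectiveEpimorphic_singleton]
  show (Sieve.generate (Presieve.singleton f)).EffectiveEpimorphic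
  rw [Sieve.EffectiveEpimorphic.iff_forall_isSheafFor_yoneda]
  intro V
  exact Sheaf.isSheaf_yoneda_obj V _ hmem

/-- A universally effective epimorphism becomes an epimorphism of sheaves for the canonical
topology. -/
lemma epi_E_map_of_universal [HasPullbacks C] {X B : C} (π : X ⟶ B)
    (h : ∀ (B' : C) (g : B' ⟶ B), EffectiveEpi (pullback.snd π g)) :
    Epi ((E (Sheaf.canonicalTopology C)).map π) := by
  have hcov : Sieve.ofArrows (fun _ : PUnit.{1} => X) (fun _ => π) ∈
      Sheaf.canonicalTopology C B := by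
    apply Sheaf.mem_finestTopology_of_forall_isSheafFor
    rintro _ ⟨V, rfl⟩ B' g
    rw [← Sieve.ofArrows_eq_pullback_of_isPullback (fun _ : PUnit.{1} => π)
      (fun _ => (IsPullback.of_hasPullback π g).flip)]
    show Presieve.IsSheafFor _ (Sieve.generate (Presieve.ofArrows _ _)).arrows
    rw [← Presieve.isSheafFor_iff_generate, Presieve.ofArrows_pUnit]
    haveI := h B' g
    exact Presieve.IsSheafFor.singleton_of_isRepresentable_of_effectiveEpi _ _
  have hje := (je_sheafify_yoneda_iff (Sheaf.canonicalTopology C) _ _).2 hcov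
  exact ⟨fun a b hab => hje a b (fun _ => hab)⟩

theorem isColimit_mapCocone_of_effectiveUniversal [HasPullbacks C] {R X : C} (p₁ p₂ : R ⟶ X)
    (c : Cofork p₁ p₂) (hc : IsColimit c) (h : SGA4.IsEffectiveUniversalEquivRel p₁ p₂) :
    Nonempty (IsColimit ((yoneda ⋙ presheafToSheaf (Sheaf.canonicalTopology C)
      (Type u)).mapCocone c)) := by
  obtain ⟨B, π, hpb, hpo, hue⟩ := h
  have hc' : IsColimit (Cofork.ofπ π hpo.w) := hpo.isLimitFork
  let e : c ≅ Cofork.ofπ π hpo.w := hc.uniqueUpToIso hc'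
  refine ⟨IsColimit.ofIsoColimit
    (?_ : IsColimit ((E (Sheaf.canonicalTopology C)).mapCocone (Cofork.ofπ π hpo.w)))
    ((Cocone.functoriality _ (E (Sheaf.canonicalTopology C))).mapIso e).symm⟩
  refine (isColimitMapCoconeCoforkEquiv (E (Sheaf.canonicalTopology C)) hpo.w).symm ?_
  haveI : Epi ((E (Sheaf.canonicalTopology C)).map π) := epi_E_map_of_universal π hue
  have hk : IsKernelPair ((E (Sheaf.canonicalTopology C)).map π)
      ((E (Sheaf.canonicalTopology C)).map p₁) ((E (Sheaf.canonicalTopology C)).map p₂) :=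
    hpb.map (E (Sheaf.canonicalTopology C))
  haveI : IsRegularEpi ((E (Sheaf.canonicalTopology C)).map π) :=
    IsRegularEpiCategory.regularEpiOfEpi _
  exact hk.toCoequalizer'

theorem effectiveUniversal_of_isColimit_mapCocone [HasPullbacks C] {R X : C} (p₁ p₂ : R ⟶ X)
    (hR : SGA4.IsEquivRel p₁ p₂) (c : Cofork p₁ p₂) (hc : IsColimit c)
    (h : Nonempty (IsColimit ((yoneda ⋙ presheafToSheaf (Sheaf.canonicalTopology C)
      (Type u)).mapCocone c))) :
    SGA4.IsEffectiveUniversalEquivRel p₁ p₂ := by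
  obtain ⟨hε⟩ := h
  obtain ⟨er⟩ := nonempty_equivalenceRelation hR
  obtain ⟨G, hGdef⟩ : ∃ G : C ⥤ Sheaf (Sheaf.canonicalTopology C) (Type u),
      G = (Sheaf.canonicalTopology C).yoneda := ⟨_, rfl⟩
  have hG : IsColimit (G.mapCocone c) := by
    rw [hGdef]
    exact IsColimit.mapCoconeEquiv (epsIso (Sheaf.canonicalTopology C)) hε
  haveI hjm : JointlyMono₂ (G.map p₁) (G.map p₂) := by
    rw [hGdef]
    exact jointlyMono₂_yoneda _ er.toReflexiveRelation.toJointlyMono₂
  haveI : PreservesLimitsOfSize.{0, 0} G := by rw [hGdef]; infer_instance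
  haveI : G.Full := by rw [hGdef]; infer_instance
  haveI : G.Faithful := by rw [hGdef]; infer_instance
  let er' : EquivalenceRelation (G.map p₁) (G.map p₂) :=
    { __ := er.toReflexiveRelation.map G
      __ := er.toSymmetricRelation.map G
      __ := er.toTransitiveRelation.map G }
  obtain ⟨ue⟩ := Groth.Agent.S5217.aux (Sheaf.canonicalTopology C) (G.map p₁) (G.map p₂) er'
  have hG' : IsColimit (G.mapCocone (Cofork.ofπ c.π c.condition)) :=
    IsColimit.ofIsoColimit hG ((Cocone.functoriality _ G).mapIso (Cofork.isoCoforkOfπ c))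
  have hG'' := isColimitMapCoconeCoforkEquiv G c.condition hG'
  have hcof : IsColimit (Cofork.ofπ ue.π ue.isPushout.w) := ue.isPushout.isLimitFork
  obtain ⟨φ, hφ⟩ : ∃ φ : G.obj c.pt ≅ ue.B, G.map c.π ≫ φ.hom = ue.π :=
    ⟨hG''.coconePointUniqueUpToIso hcof,
      IsColimit.comp_coconePointUniqueUpToIso_hom hG'' hcof WalkingParallelPair.one⟩
  have hk : IsKernelPair (G.map c.π) (G.map p₁) (G.map p₂) := by
    have := ue.isKernelPair
    rw [← hφ] at this
    exact IsKernelPair.cancel_right_of_mono this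
  have hpb : IsPullback p₁ p₂ c.π c.π := IsPullback.of_map G c.condition hk
  haveI : Epi (G.map c.π) := epi_of_isColimit_cofork hG''
  refine ⟨c.pt, c.π, hpb,
    isPushout_of_isColimit_cofork er.r er.reflexivity₁ er.reflexivity₂ c hc, fun B' g => ?_⟩
  apply effectiveEpi_of_epi_yoneda_map
  have sq : IsPullback (G.map (pullback.snd c.π g)) (G.map (pullback.fst c.π g)) (G.map g)
      (G.map c.π) := (IsPullback.of_hasPullback c.π g).flip.map G
  have hee : EffectiveEpi (G.map (pullback.snd c.π g)) :=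
    Groth.Agent.S5218.result (Sheaf.canonicalTopology C) (G.map c.π) _ _ _ sq
  rw [← hGdef]
  infer_instance

end site

end Groth.Agent.H30.EqRel
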