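import Groth.Agent.H30.TFin
import Groth.Agent.H30.Cop
import Groth.Agent.S3081
import Mathlib.CategoryTheory.Sites.RegularEpi
import Mathlib.CategoryTheory.Sites.Canonical
import Mathlib.CategoryTheory.Sites.EffectiveEpimorphic
import Mathlib.CategoryTheory.EffectiveEpi.Coproduct
import Mathlib.CategoryTheory.Limits.Constructions.LimitsOfProductsAndEqualizers
import Mathlib.CategoryTheory.Limits.Types.Limits
import Mathlib.CategoryTheory.Sites.Subsheaf
import Mathlib.CategoryTheory.Limits.Preserves.Shapes.Products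
import Mathlib.CategoryTheory.Limits.Yoneda
import Mathlib.CategoryTheory.Limits.Opposites

/-!
# Sheaves for the canonical topology of a sheaf topos

A presheaf of types on `Sheaf J (Type u)` is a sheaf for the canonical topology iff it turns
`u`-small colimits into limits.
-/

set_option autoImplicit false
universe w u

namespace Groth.Agent.H30.CanSheaf

open CategoryTheory Limits Opposite
open Groth.Agent.H30.TFin

variable {C : Type u} [SmallCategory C] {J : GrothendieckTopology C}

/-! ### Sections as maps from sheafified representables -/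

/-- The sheafified representable. -/
noncomputable abbrev rep (J : GrothendieckTopology C) (V : C) : Sheaf J (Type u) :=
  (presheafToSheaf J (Type u)).obj (yoneda.obj V)

/-- Sections over `V` are maps from the sheafified representable. -/
noncomputable def secEquiv (T : Sheaf J (Type u)) (V : C) : T.obj.obj (op V) ≃ (rep J V ⟶ T) :=
  yonedaEquiv.symm.trans ((sheafificationAdjunction J (Type u)).homEquiv (yoneda.obj V) T).symm

/-- The map from the sheafified representable attached to a section. -/
noncomputable def sec {T : Sheaf J (Type u)} {V : C} (t : T.obj.obj (op V)) : rep J V ⟶ T :=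
  secEquiv T V t

lemma sec_injective {T : Sheaf J (Type u)} {V : C} {t t' : T.obj.obj (op V)}
    (h : sec t = sec t') : t = t' := (secEquiv T V).injective h

lemma sec_comp {T T' : Sheaf J (Type u)} (a : T ⟶ T') {V : C} (t : T.obj.obj (op V)) :
    sec t ≫ a = sec (a.hom.app (op V) t) := by
  have e : yonedaEquiv.symm (a.hom.app (op V) t) =
      yonedaEquiv.symm t ≫ (sheafToPresheaf J (Type u)).map a := by
    apply yonedaEquiv.injective
    rw [yonedaEquiv_comp, Equiv.apply_symm_apply, Equiv.apply_symm_apply]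
    rfl
  show ((sheafificationAdjunction J (Type u)).homEquiv _ T).symm (yonedaEquiv.symm t) ≫ a =
    ((sheafificationAdjunction J (Type u)).homEquiv _ T').symm
      (yonedaEquiv.symm (a.hom.app (op V) t))
  rw [e, Adjunction.homEquiv_naturality_right_symm]

lemma map_comp_sec {T : Sheaf J (Type u)} {V V' : C} (h : V' ⟶ V) (t : T.obj.obj (op V)) :
    (presheafToSheaf J (Type u)).map (yoneda.map h) ≫ sec t = sec (T.obj.map h.op t) := by
  have e : yonedaEquiv.symm (T.obj.map h.op t) = yoneda.map h ≫ yonedaEquiv.symm t := by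
    apply yonedaEquiv.injective
    rw [← yonedaEquiv_naturality, Equiv.apply_symm_apply, Equiv.apply_symm_apply]
  show _ ≫ ((sheafificationAdjunction J (Type u)).homEquiv _ T).symm (yonedaEquiv.symm t) =
    ((sheafificationAdjunction J (Type u)).homEquiv _ T).symm
      (yonedaEquiv.symm (T.obj.map h.op t))
  rw [e, Adjunction.homEquiv_naturality_left_symm]

lemma je_sec (T : Sheaf J (Type u)) :
    JE (fun p : Σ V : C, T.obj.obj (op V) => sec p.2) := by
  intro Z a b hab
  apply Sheaf.hom_ext
  ext U t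
  have h := hab ⟨U.unop, t⟩
  dsimp only at h
  rw [sec_comp, sec_comp] at h
  exact sec_injective h

/-! ### Jointly epimorphic families are covering for the canonical topology -/

lemma effectiveEpiFamily_of_je {ι : Type u} {X : Sheaf J (Type u)} {F : ι → Sheaf J (Type u)}
    (π : ∀ i, F i ⟶ X) (h : JE π) : EffectiveEpiFamily F π := by
  haveI : Epi (Sigma.desc π) := (epi_sigmaDesc_iff π).2 h
  haveI : IsRegularEpi (Sigma.desc π) := IsRegularEpiCategory.regularEpiOfEpi _
  haveI : ∀ {Z : Sheaf J (Type u)} (g : Z ⟶ ∐ F),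
      Epi (Sigma.desc fun a => pullback.fst g (Sigma.ι F a)) := fun {Z} g => by
    rw [epi_sigmaDesc_iff]
    have hι : JE (Sigma.ι F) := fun W a b hab => Sigma.hom_ext _ _ hab
    exact hι.of_isPullback g (fun a => pullback.snd g (Sigma.ι F a))
      (fun a => pullback.fst g (Sigma.ι F a))
      (fun a => (IsPullback.of_hasPullback g (Sigma.ι F a)).flip)
  exact ⟨⟨effectiveEpiFamilyStructOfEffectiveEpiDesc F π⟩⟩

lemma pullback_ofArrows {ι : Type*} {X Y : Sheaf J (Type u)} {F : ι → Sheaf J (Type u)}
    (π : ∀ i, F i ⟶ X) (g : Y ⟶ X) :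
    (Sieve.ofArrows F π).pullback g =
      Sieve.ofArrows (fun i => pullback (π i) g) (fun i => pullback.snd (π i) g) := by
  show (Sieve.generate (Presieve.ofArrows F π)).pullback g =
    Sieve.generate (Presieve.ofArrows _ _)
  rw [← Sieve.pullbackArrows_comm, ← Presieve.ofArrows_pullback]

lemma ofArrows_mem_canonical {ι : Type u} {X : Sheaf J (Type u)} {F : ι → Sheaf J (Type u)}
    (π : ∀ i, F i ⟶ X) (h : JE π) :
    Sieve.ofArrows F π ∈ Sheaf.canonicalTopology (Sheaf J (Type u)) X := by
  apply Sheaf.mem_finestTopology_of_forall_isSheafFor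
  rintro P ⟨W, rfl⟩ Y g
  rw [pullback_ofArrows]
  haveI := effectiveEpiFamily_of_je _ (h.pullback g)
  have h2 : (Presieve.ofArrows (fun i => pullback (π i) g)
      (fun i => pullback.snd (π i) g)).EffectiveEpimorphic :=
    (Sieve.effectiveEpimorphic_family _ _).2 inferInstance
  exact (Sieve.EffectiveEpimorphic.iff_forall_isSheafFor_yoneda _).1 h2 W

lemma je_of_mem_canonical {X : Sheaf J (Type u)} (S : Sieve X)
    (hS : S ∈ Sheaf.canonicalTopology (Sheaf J (Type u)) X) {Z : Sheaf J (Type u)}
    (a b : X ⟶ Z) (hab : ∀ ⦃Y : Sheaf J (Type u)⦄ (g : Y ⟶ X), S g → g ≫ a = g ≫ b) : a = b :=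
  ((Sheaf.isSheaf_yoneda_obj Z) S hS).isSeparatedFor.ext (t₁ := a) (t₂ := b)
    (fun _ g hg => hab g hg)

variable (G : (Sheaf J (Type u))ᵒᵖ ⥤ Type w)

lemma Gcomp {X Y Z : Sheaf J (Type u)} (m : X ⟶ Y) (n : Y ⟶ Z) (s : G.obj (op Z)) :
    G.map (m ≫ n).op s = G.map m.op (G.map n.op s) := by
  rw [op_comp, Functor.map_comp]
  rfl

/-! ### Sheaves turn small colimits into limits -/

section sheaf

variable (hG : Presieve.IsSheaf (Sheaf.canonicalTopology (Sheaf J (Type u))) G)

include hG

lemma isSheafFor_of_je {ι : Type u} {X : Sheaf J (Type u)} {F : ι → Sheaf J (Type u)}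
    (π : ∀ i, F i ⟶ X) (h : JE π) : Presieve.IsSheafFor G (Presieve.ofArrows F π) :=
  (Presieve.isSheafFor_iff_generate _).2 (hG _ (ofArrows_mem_canonical π h))

lemma sep_of_je {ι : Type u} {X : Sheaf J (Type u)} {F : ι → Sheaf J (Type u)}
    (π : ∀ i, F i ⟶ X) (h : JE π) {t₁ t₂ : G.obj (op X)}
    (ht : ∀ i, G.map (π i).op t₁ = G.map (π i).op t₂) : t₁ = t₂ :=
  (isSheafFor_of_je G hG π h).isSeparatedFor.ext (by
    rintro Y f ⟨i⟩
    exact ht i)

lemma subsingleton_of_isInitial {Z : Sheaf J (Type u)} (hZ : IsInitial Z) :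
    Subsingleton (G.obj (op Z)) := by
  have hje : JE (fun i : PEmpty.{u + 1} => (i.elim : (i.elim : Sheaf J (Type u)) ⟶ Z)) :=
    fun W a b _ => hZ.hom_ext a b
  exact ⟨fun t₁ t₂ => sep_of_je G hG _ hje (fun i => i.elim)⟩

lemma existsUnique_of_coproduct {I : Type u} (Y : I → Sheaf J (Type u))
    (x : ∀ i, G.obj (op (Y i))) :
    ∃! t : G.obj (op (∐ Y)), ∀ i, G.map (Sigma.ι Y i).op t = x i := by
  obtain ⟨hje, hmono, hdisj⟩ :=
    (Cop.nonempty_isColimit_cofan_iff_sheaf (Sigma.ι Y)).1 ⟨coproductIsCoproduct Y⟩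
  refine (Presieve.isSheafFor_arrows_iff _ _).1 (isSheafFor_of_je G hG (Sigma.ι Y) hje) x ?_
  intro i j Z gi gj hij
  by_cases h : i = j
  · subst h
    haveI := hmono i
    rw [(cancel_mono (Sigma.ι Y i)).1 hij]
  · obtain ⟨I0⟩ := hdisj i j h
    haveI := subsingleton_of_isInitial G hG
      (IsInitial.ofStrict (pullback.lift gi gj hij) I0)
    exact Subsingleton.elim _ _

section Rs

variable {B : Sheaf J (Type u)} (s : G.obj (op B))

/-- The relation "`s` takes the same value on both components". -/
def Rsub : Subfunctor (B ⨯ B).obj where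
  obj U := {z | G.map (sec (V := U.unop) z ≫ prod.fst).op s =
    G.map (sec (V := U.unop) z ≫ prod.snd).op s}
  map := by
    intro U U' h z hz
    show G.map (sec (V := U'.unop) ((B ⨯ B).obj.map h z) ≫ prod.fst).op s =
      G.map (sec (V := U'.unop) ((B ⨯ B).obj.map h z) ≫ prod.snd).op s
    have e : sec (V := U'.unop) ((B ⨯ B).obj.map h z) =
        (presheafToSheaf J (Type u)).map (yoneda.map h.unop) ≫ sec (V := U.unop) z :=
      (map_comp_sec h.unop z).symm
    rw [e, Category.assoc, Category.assoc,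
      Gcomp G _ (sec (V := U.unop) z ≫ prod.fst) s, Gcomp G _ (sec (V := U.unop) z ≫ prod.snd) s]
    exact congrArg _ hz

omit hG in
lemma mem_Rsub_iff {V : C} (z : (B ⨯ B).obj.obj (op V)) :
    z ∈ (Rsub G s).obj (op V) ↔
      G.map (sec z ≫ prod.fst).op s = G.map (sec z ≫ prod.snd).op s := Iff.rfl

lemma Rsub_isSheaf : Presieve.IsSheaf J (Rsub G s).toFunctor := by
  rw [Subfunctor.isSheaf_iff _ ((isSheaf_iff_isSheaf_of_type _ _).1 (B ⨯ B).property)]
  intro U z hz
  show G.map (sec (V := U.unop) z ≫ prod.fst).op s = G.map (sec (V := U.unop) z ≫ prod.snd).op s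
  have hje : JE (fun p : Σ V' : C, {h : V' ⟶ U.unop // (Rsub G s).sieveOfSection z h} =>
      (presheafToSheaf J (Type u)).map (yoneda.map p.2.1)) :=
    (Cop.je_sheafify_yoneda_iff J _ _).2 (J.superset_covering
      (fun V' h hh => Sieve.ofArrows_mk _ _
        (⟨V', h, hh⟩ : Σ V' : C, {h : V' ⟶ U.unop // (Rsub G s).sieveOfSection z h})) hz)
  apply sep_of_je G hG _ hje
  rintro ⟨V', h, hh⟩
  dsimp only
  rw [← Gcomp, ← Gcomp, ← Category.assoc, ← Category.assoc, map_comp_sec]
  exact hh

/-- The relation as an object of the topos. -/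
noncomputable def R : Sheaf J (Type u) :=
  ⟨(Rsub G s).toFunctor, (isSheaf_iff_isSheaf_of_type _ _).2 (Rsub_isSheaf G hG s)⟩

/-- The inclusion of the relation. -/
noncomputable def r : R G hG s ⟶ B ⨯ B := ObjectProperty.homMk (Rsub G s).ι

instance : Mono (r G hG s) :=
  (sheafToPresheaf J (Type u)).mono_of_mono_map (show Mono (Rsub G s).ι from inferInstance)

lemma r_rel : G.map (r G hG s ≫ prod.fst).op s = G.map (r G hG s ≫ prod.snd).op s := by
  apply sep_of_je G hG _ (je_sec (R G hG s))
  rintro ⟨V, w⟩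
  dsimp only
  rw [← Gcomp, ← Gcomp, ← Category.assoc, ← Category.assoc, sec_comp]
  exact w.2

lemma rel_iff {T : Sheaf J (Type u)} (x y : T ⟶ B) :
    (∃ z : T ⟶ R G hG s, z ≫ (r G hG s ≫ prod.fst) = x ∧ z ≫ (r G hG s ≫ prod.snd) = y) ↔
      G.map x.op s = G.map y.op s := by
  constructor
  · rintro ⟨z, rfl, rfl⟩
    rw [Gcomp G z (r G hG s ≫ prod.fst) s, Gcomp G z (r G hG s ≫ prod.snd) s, r_rel]
  · intro h
    have hf : Subfunctor.range (prod.lift x y).hom ≤ Rsub G s := by
      rintro U _ ⟨t, rfl⟩
      show G.map (sec (V := U.unop) ((prod.lift x y).hom.app U t) ≫ prod.fst).op s =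
        G.map (sec (V := U.unop) ((prod.lift x y).hom.app U t) ≫ prod.snd).op s
      have e : sec (V := U.unop) ((prod.lift x y).hom.app U t) =
          sec (V := U.unop) t ≫ prod.lift x y := (sec_comp (prod.lift x y) t).symm
      rw [e, Category.assoc, Category.assoc, prod.lift_fst, prod.lift_snd, Gcomp, Gcomp, h]
    have key : ObjectProperty.homMk (Subfunctor.lift (prod.lift x y).hom hf) ≫ r G hG s =
        prod.lift x y := by
      apply Sheaf.hom_ext
      exact Subfunctor.lift_ι (prod.lift x y).hom hf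
    refine ⟨ObjectProperty.homMk (Subfunctor.lift (prod.lift x y).hom hf), ?_, ?_⟩
    · rw [← Category.assoc, key, prod.lift_fst]
    · rw [← Category.assoc, key, prod.lift_snd]

lemma isEquivRel_r : SGA4.IsEquivRel (r G hG s ≫ prod.fst) (r G hG s ≫ prod.snd) := by
  intro T
  constructor
  · intro f f' h
    have h1 : f ≫ (r G hG s ≫ prod.fst) = f' ≫ (r G hG s ≫ prod.fst) := congrArg Prod.fst h
    have h2 : f ≫ (r G hG s ≫ prod.snd) = f' ≫ (r G hG s ≫ prod.snd) := congrArg Prod.snd h
    rw [← cancel_mono (r G hG s)]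
    apply Limits.prod.hom_ext
    · rw [Category.assoc, Category.assoc]; exact h1
    · rw [Category.assoc, Category.assoc]; exact h2
  · refine ⟨fun a => (rel_iff G hG s a a).2 rfl, fun {a b} h => ?_, fun {a b c} h1 h2 => ?_⟩
    · exact (rel_iff G hG s b a).2 ((rel_iff G hG s a b).1 h).symm
    · exact (rel_iff G hG s a c).2
        (((rel_iff G hG s a b).1 h1).trans ((rel_iff G hG s b c).1 h2))

end Rs

lemma existsUnique_of_coequalizer {A B : Sheaf J (Type u)} (a b : A ⟶ B) (s : G.obj (op B))
    (hs : G.map a.op s = G.map b.op s) :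
    ∃! t : G.obj (op (coequalizer a b)), G.map (coequalizer.π a b).op t = s := by
  obtain ⟨B', p, hpb, -, -⟩ := (Groth.Agent.S3081.result J).2 _ _ _ _ (isEquivRel_r G hG s)
  obtain ⟨z, hz1, hz2⟩ := (rel_iff G hG s a b).2 hs
  have hab : a ≫ p = b ≫ p := by
    have h1 : a ≫ p = z ≫ ((r G hG s ≫ prod.fst) ≫ p) := by rw [← Category.assoc, hz1]
    have h2 : b ≫ p = z ≫ ((r G hG s ≫ prod.snd) ≫ p) := by rw [← Category.assoc, hz2]
    rw [h1, h2, hpb.w]
  have hm : coequalizer.π a b ≫ coequalizer.desc p hab = p := coequalizer.π_desc _ _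
  have hkp : G.map (pullback.fst (coequalizer.π a b) (coequalizer.π a b)).op s =
      G.map (pullback.snd (coequalizer.π a b) (coequalizer.π a b)).op s := by
    apply (rel_iff G hG s _ _).1
    have w : pullback.fst (coequalizer.π a b) (coequalizer.π a b) ≫ p =
        pullback.snd (coequalizer.π a b) (coequalizer.π a b) ≫ p := by
      rw [← hm, ← Category.assoc, ← Category.assoc, pullback.condition]
    exact ⟨hpb.lift _ _ w, hpb.lift_fst _ _ w, hpb.lift_snd _ _ w⟩
  have hje : JE (fun _ : PUnit.{u + 1} => coequalizer.π a b) := fun Z f g h =>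
    (cancel_epi (coequalizer.π a b)).1 (h PUnit.unit)
  have := (Presieve.isSheafFor_arrows_iff _ _).1 (isSheafFor_of_je G hG _ hje) (fun _ => s)
    (by
      intro i j Z gi gj hij
      have w : gi ≫ coequalizer.π a b = gj ≫ coequalizer.π a b := hij
      have e1 : G.map gi.op s = G.map (pullback.lift gi gj w).op
          (G.map (pullback.fst (coequalizer.π a b) (coequalizer.π a b)).op s) := by
        rw [← Gcomp, pullback.lift_fst]
      have e2 : G.map gj.op s = G.map (pullback.lift gi gj w).op
          (G.map (pullback.snd (coequalizer.π a b) (coequalizer.π a b)).op s) := by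
        rw [← Gcomp, pullback.lift_snd]
      show G.map gi.op s = G.map gj.op s
      exact e1.trans ((congrArg _ hkp).trans e2.symm))
  obtain ⟨t, ht, htu⟩ := this
  exact ⟨t, ht PUnit.unit, fun t' ht' => htu t' (fun _ => ht')⟩

lemma preservesProducts (I : Type u) : PreservesLimitsOfShape (Discrete I) G := by
  haveI : ∀ f : I → (Sheaf J (Type u))ᵒᵖ, PreservesLimit (Discrete.functor f) G := fun f => by
    let Y : I → Sheaf J (Type u) := fun i => (f i).unop
    let c : Fan f := Fan.mk (op (∐ Y)) (fun i => (Sigma.ι Y i).op)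
    have hc : IsLimit c := mkFanLimit c (fun s => (Sigma.desc (fun i => (s.proj i).unop)).op)
      (fun s i => by
        apply Quiver.Hom.unop_inj
        exact Sigma.ι_desc _ _)
      (fun s m hm => by
        apply Quiver.Hom.unop_inj
        apply Sigma.hom_ext
        intro i
        rw [Quiver.Hom.unop_op, Sigma.ι_desc]
        exact congrArg Quiver.Hom.unop (hm i))
    apply preservesLimit_of_preserves_limit_cone hc
    apply ((Types.isLimit_iff _).2 _).some
    intro s hs
    obtain ⟨t, ht, htu⟩ := existsUnique_of_coproduct G hG Y (fun i => s ⟨i⟩)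
    exact ⟨t, fun j => ht j.as, fun t' ht' => htu t' (fun i => ht' ⟨i⟩)⟩
  exact preservesLimitsOfShape_of_discrete G

lemma preservesEqualizers : PreservesLimitsOfShape WalkingParallelPair G := by
  constructor
  intro K
  haveI : PreservesLimit (parallelPair (K.map WalkingParallelPairHom.left)
      (K.map WalkingParallelPairHom.right)) G := by
    obtain ⟨α, hα⟩ : ∃ α, α = K.map WalkingParallelPairHom.left := ⟨_, rfl⟩
    obtain ⟨β, hβ⟩ : ∃ β, β = K.map WalkingParallelPairHom.right := ⟨_, rfl⟩
    rw [← hα, ← hβ]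
    have w : (coequalizer.π α.unop β.unop).op ≫ α = (coequalizer.π α.unop β.unop).op ≫ β := by
      apply Quiver.Hom.unop_inj
      exact coequalizer.condition α.unop β.unop
    have hc : IsLimit (Fork.ofι (coequalizer.π α.unop β.unop).op w) :=
      Fork.IsLimit.mk _
        (fun s => (coequalizer.desc s.ι.unop (by
          have := congrArg Quiver.Hom.unop s.condition
          exact this)).op)
        (fun s => by
          apply Quiver.Hom.unop_inj
          exact coequalizer.π_desc _ _)
        (fun s m hm => by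
          apply Quiver.Hom.unop_inj
          apply coequalizer.hom_ext
          rw [Quiver.Hom.unop_op, coequalizer.π_desc]
          exact congrArg Quiver.Hom.unop hm)
    apply preservesLimit_of_preserves_limit_cone hc
    apply ((Types.isLimit_iff _).2 _).some
    intro s hs
    have h1 : G.map α (s WalkingParallelPair.zero) = s WalkingParallelPair.one :=
      hs WalkingParallelPairHom.left
    have h2 : G.map β (s WalkingParallelPair.zero) = s WalkingParallelPair.one :=
      hs WalkingParallelPairHom.right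
    obtain ⟨t, ht, htu⟩ := existsUnique_of_coequalizer G hG α.unop β.unop
      (s WalkingParallelPair.zero) (h1.trans h2.symm)
    refine ⟨t, ?_, fun t' ht' => htu t' (ht' WalkingParallelPair.zero)⟩
    intro j
    cases j
    · exact ht
    · show G.map ((coequalizer.π α.unop β.unop).op ≫ α) t = s WalkingParallelPair.one
      rw [Functor.map_comp]
      show G.map α (G.map (coequalizer.π α.unop β.unop).op t) = _
      rw [ht, h1]
  exact preservesLimit_of_iso_diagram G (diagramIsoParallelPair K).symm

theorem preserves_of_isSheaf : PreservesLimitsOfSize.{u, u} G := by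
  haveI := preservesEqualizers G hG
  haveI : ∀ I : Type u, PreservesLimitsOfShape (Discrete I) G := preservesProducts G hG
  exact preservesLimits_of_preservesEqualizers_and_products G

end sheaf

/-! ### Functors turning small colimits into limits are sheaves -/

section preserves

variable [hG : PreservesLimitsOfSize.{u, u} G]

omit hG in
lemma existsUnique_of_isColimit {𝒥 : Type*} [Category 𝒥] [PreservesLimitsOfShape 𝒥ᵒᵖ G]
    {D : 𝒥 ⥤ Sheaf J (Type u)} (c : Cocone D) (hc : IsColimit c)
    (x : ∀ j, G.obj (op (D.obj j)))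
    (hx : ∀ {j j' : 𝒥} (φ : j ⟶ j'), G.map (D.map φ).op (x j') = x j) :
    ∃! t : G.obj (op c.pt), ∀ j, G.map (c.ι.app j).op t = x j := by
  have hl : IsLimit (G.mapCone c.op) := isLimitOfPreserves G hc.op
  obtain ⟨t, ht, htu⟩ := (Types.isLimit_iff _).1 ⟨hl⟩ (fun j => x j.unop)
    (by intro j j' f; exact hx f.unop)
  exact ⟨t, fun j => ht (op j), fun t' ht' => htu t' (fun j => ht' j.unop)⟩

lemma existsUnique_of_coproduct' {I : Type u} (Y : I → Sheaf J (Type u))
    (x : ∀ i, G.obj (op (Y i))) :
    ∃! t : G.obj (op (∐ Y)), ∀ i, G.map (Sigma.ι Y i).op t = x i := by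
  obtain ⟨t, ht, htu⟩ := existsUnique_of_isColimit G (Cofan.mk (∐ Y) (Sigma.ι Y))
    (coproductIsCoproduct Y) (fun j => x j.as) (by
      intro j j' φ
      obtain rfl : j = j' := Discrete.ext (Discrete.eq_of_hom φ)
      have : φ = 𝟙 j := Subsingleton.elim _ _
      subst this
      simp)
  exact ⟨t, fun i => ht ⟨i⟩, fun t' ht' => htu t' (fun j => ht' j.as)⟩

lemma existsUnique_of_epi' {B X : Sheaf J (Type u)} (f : B ⟶ X) [Epi f] (s : G.obj (op B))
    (hs : G.map (pullback.fst f f).op s = G.map (pullback.snd f f).op s) :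
    ∃! t : G.obj (op X), G.map f.op t = s := by
  haveI : IsRegularEpi f := IsRegularEpiCategory.regularEpiOfEpi _
  haveI : PreservesLimitsOfSize.{0, 0} G := preservesLimitsOfSize_shrink.{0, u, 0, u} G
  have hc := isColimitCoforkOfEffectiveEpi f (pullback.cone f f) (pullback.isLimit f f)
  obtain ⟨t, ht, htu⟩ := existsUnique_of_isColimit G _ hc
    (fun j => match j with
      | WalkingParallelPair.zero => G.map (pullback.fst f f).op s
      | WalkingParallelPair.one => s)
    (by
      intro j j' φ
      cases φ with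
      | left => rfl
      | right => exact hs.symm
      | id j => cases j <;> simp)
  refine ⟨t, ht WalkingParallelPair.one, fun t' ht' => htu t' ?_⟩
  intro j
  cases j
  · show G.map (pullback.fst f f ≫ f).op t' = G.map (pullback.fst f f).op s
    rw [Gcomp, ht']
  · exact ht'

lemma sep_of_je' {ι : Type u} {X : Sheaf J (Type u)} {F : ι → Sheaf J (Type u)}
    (π : ∀ i, F i ⟶ X) (h : JE π) {t₁ t₂ : G.obj (op X)}
    (ht : ∀ i, G.map (π i).op t₁ = G.map (π i).op t₂) : t₁ = t₂ := by
  haveI : Epi (Sigma.desc π) := (epi_sigmaDesc_iff π).2 h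
  have h1 : G.map (Sigma.desc π).op t₁ = G.map (Sigma.desc π).op t₂ := by
    obtain ⟨t, -, htu⟩ := existsUnique_of_coproduct' G F (fun i => G.map (π i).op t₁)
    have e1 := htu (G.map (Sigma.desc π).op t₁) (fun i => by rw [← Gcomp, Sigma.ι_desc])
    have e2 := htu (G.map (Sigma.desc π).op t₂) (fun i => by rw [← Gcomp, Sigma.ι_desc, ht i])
    rw [e1, e2]
  obtain ⟨t, -, htu⟩ := existsUnique_of_epi' G (Sigma.desc π) (G.map (Sigma.desc π).op t₁)
    (by rw [← Gcomp, ← Gcomp, pullback.condition])
  rw [htu t₁ rfl, htu t₂ h1.symm]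

lemma isSheafFor_of_je' {ι : Type u} {X : Sheaf J (Type u)} {F : ι → Sheaf J (Type u)}
    (π : ∀ i, F i ⟶ X) (hπ : JE π) : Presieve.IsSheafFor G (Presieve.ofArrows F π) := by
  rw [Presieve.isSheafFor_arrows_iff]
  intro x hx
  obtain ⟨f, hf⟩ : ∃ f : (∐ F) ⟶ X, f = Sigma.desc π := ⟨_, rfl⟩
  have hιf : ∀ i, Sigma.ι F i ≫ f = π i := fun i => by rw [hf, Sigma.ι_desc]
  haveI : Epi f := by rw [hf]; exact (epi_sigmaDesc_iff π).2 hπ
  obtain ⟨s₀, hs₀, hs₀u⟩ := existsUnique_of_coproduct' G F x
  have hι : JE (Sigma.ι F) := fun Z a b h => Sigma.hom_ext _ _ h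
  have hκ := hι.prod_map f
  have hkp : G.map (pullback.fst f f).op s₀ = G.map (pullback.snd f f).op s₀ := by
    apply sep_of_je' G _ hκ
    rintro ⟨i, j⟩
    dsimp only
    rw [← Gcomp, ← Gcomp, pullback.lift_fst, pullback.lift_snd, Gcomp, Gcomp, hs₀ i, hs₀ j]
    exact hx i j _ _ _ (by rw [← hιf i, ← hιf j]; exact pullback.condition)
  obtain ⟨t, ht, htu⟩ := existsUnique_of_epi' G f s₀ hkp
  refine ⟨t, fun i => ?_, fun t' ht' => ?_⟩
  · rw [← hιf i, Gcomp, ht, hs₀ i]
  · apply htu
    apply hs₀u
    intro i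
    rw [← Gcomp, hιf i, ht' i]

theorem isSheaf_of_preserves :
    Presieve.IsSheaf (Sheaf.canonicalTopology (Sheaf J (Type u))) G := by
  intro X S hS
  have hπ : JE (fun p : Σ V : C, {t : X.obj.obj (op V) // S (sec t)} => sec p.2.1) := by
    intro Z a b hab
    apply je_of_mem_canonical S hS
    intro Y g hg
    apply je_sec Y
    rintro ⟨V, y⟩
    dsimp only
    have hmem : S (sec (g.hom.app (op V) y)) := by
      rw [← sec_comp]
      exact S.downward_closed hg _
    have := hab ⟨V, g.hom.app (op V) y, hmem⟩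
    dsimp only at this
    rw [← Category.assoc, ← Category.assoc, sec_comp]
    exact this
  have hle : (Sieve.ofArrows _ (fun p : Σ V : C, {t : X.obj.obj (op V) // S (sec t)} =>
      sec p.2.1) : Presieve X) ≤ S.arrows := by
    rintro Y g ⟨Z, h, _, ⟨p⟩, rfl⟩
    exact S.downward_closed p.2.2 h
  apply Presieve.isSheafFor_subsieve G hle
  intro Y g
  rw [pullback_ofArrows]
  exact (Presieve.isSheafFor_iff_generate _).1 (isSheafFor_of_je' G _ (hπ.pullback g))

end preserves

end Groth.Agent.H30.CanSheaf
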