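import Groth.Agent.H30.RpushLocal
import Groth.Agent.H30.PushEdge
import Groth.Agent.H42.CohTopDirIm0
import Groth.Agent.H42.QcqsPush
import Groth.Agent.H45.CohTopRestr2
import Groth.Agent.H45.ExtAdj
import Groth.Agent.H8.QCohPush

/-!
# Cohomological dimension of a qcqs morphism is stable under base change (helper30)
-/

set_option autoImplicit false
universe u
open CategoryTheory CategoryTheory.Limits AlgebraicGeometry TopologicalSpace Opposite

namespace Groth.Agent.H30.CdBC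

open Scheme.Modules

variable {X Y X' Y' : Scheme.{u}} (f : X ⟶ Y) (g : Y' ⟶ Y) (f' : X' ⟶ Y') (g' : X' ⟶ X)

theorem key [QuasiCompact f] [QuasiSeparated f] [QuasiSeparatedSpace X]
    (sq : IsPullback g' f' f g) (V : Y.Opens) (hV : IsAffineOpen V)
    (V' : Y'.Opens) (hV' : IsAffineOpen V') (hle : V' ≤ g ⁻¹ᵁ V)
    (M' : X'.Modules) [M'.IsQuasicoherent] (p : ℕ)
    (hvan : ∀ (M : X.Modules), M.IsQuasicoherent →
      IsZero ((Coh.RpushAb f (p + 1)).obj (Coh.toAb M))) :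
    Subsingleton (Coh.HHon X' M' (f' ⁻¹ᵁ V') (p + 1)) := by
  let W : X.Opens := f ⁻¹ᵁ V
  let W' : X'.Opens := f' ⁻¹ᵁ V'
  have hWW' : W' ≤ g' ⁻¹ᵁ W := by
    change f' ⁻¹ᵁ V' ≤ g' ⁻¹ᵁ (f ⁻¹ᵁ V)
    rw [← Scheme.Hom.comp_preimage, sq.w, Scheme.Hom.comp_preimage]
    exact f'.preimage_mono hle
  let a : W'.toScheme ⟶ W.toScheme := g'.resLE W W' hWW'
  have pb : IsPullback a (f'.resLE V' W' le_rfl) (f.resLE V W le_rfl) (g.resLE V V' hle) :=
    Scheme.Hom.isPullback_resLE sq hle le_rfl (by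
      change f' ⁻¹ᵁ V' = g' ⁻¹ᵁ (f ⁻¹ᵁ V) ⊓ f' ⁻¹ᵁ V'
      exact (inf_eq_right.2 hWW').symm)
  haveI : IsAffine V'.toScheme := hV'
  haveI : IsAffine V.toScheme := hV
  haveI : IsAffineHom (g.resLE V V' hle) := inferInstance
  haveI : IsAffineHom a := MorphismProperty.of_isPullback pb.flip inferInstance
  -- the modules
  let N' : W'.toScheme.Modules := (restrictFunctor W'.ι).obj M'
  haveI : N'.IsQuasicoherent := inferInstance
  let N'' : W.toScheme.Modules := (pushforward a).obj N'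
  haveI : N''.IsQuasicoherent := Groth.Agent.H8.isQuasicoherent_pushforward a N'
  have hc : IsCompact ((f ⁻¹ᵁ V : X.Opens) : Set X) :=
    QuasiCompact.isCompact_preimage (f := f) _ V.2 hV.isCompact
  haveI : CompactSpace (f ⁻¹ᵁ V : X.Opens) := isCompact_iff_compactSpace.1 hc
  haveI : QuasiCompact W.ι := inferInstanceAs (QuasiCompact (f ⁻¹ᵁ V).ι)
  let N : X.Modules := (pushforward W.ι).obj N''
  haveI : N.IsQuasicoherent := Groth.Agent.H8.isQuasicoherent_pushforward W.ι N''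
  have hz := hvan N inferInstance
  have h1 : Subsingleton (Coh.HHon X N W (p + 1)) :=
    Groth.Agent.H30.RpushLocal.subsingleton_HHon_preimage_of_isZero_RpushAb f hV N p hz
  let e : (restrictFunctor W.ι).obj N ≅ N'' := asIso ((restrictAdjunction W.ι).counit.app N'')
  have h2 : Subsingleton (Coh.HH W.toScheme N'' (p + 1)) :=
    (Groth.Agent.H45.ExtAdj.addEquivOfIsoRight _
      ((SheafOfModules.toSheaf _).mapIso e) (p + 1)).symm.subsingleton
  have h3 : Function.Bijective (CohPull.pushEdge a N' (p + 1)) :=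
    Groth.Agent.H30.PushEdge.pushEdge_bijective a N'
      (fun q => Groth.Agent.S0028.result a N' (q + 1) (Nat.succ_pos q)) (p + 1)
  exact h3.2.subsingleton

/-- affine opens of `Y'` mapping into an affine open of `Y` form a basis. -/
theorem isBasis_affine_over : Opens.IsBasis
    {V' : Y'.Opens | IsAffineOpen V' ∧ ∃ V : Y.Opens, IsAffineOpen V ∧ V' ≤ g ⁻¹ᵁ V} := by
  rw [Opens.isBasis_iff_nbhd]
  intro U y hy
  obtain ⟨V, hVaff, hyV, -⟩ := Opens.isBasis_iff_nbhd.1 (Scheme.isBasis_affineOpens Y)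
    (show g y ∈ (⊤ : Y.Opens) from trivial)
  have hy' : y ∈ U ⊓ g ⁻¹ᵁ V := ⟨hy, hyV⟩
  obtain ⟨V', hV'aff, hyV', hV'le⟩ := Opens.isBasis_iff_nbhd.1 (Scheme.isBasis_affineOpens Y') hy'
  exact ⟨V', ⟨hV'aff, V, hVaff, hV'le.trans inf_le_right⟩, hyV', hV'le.trans inf_le_left⟩

theorem main [QuasiCompact f] [QuasiSeparated f] [QuasiSeparatedSpace X]
    (sq : IsPullback g' f' f g) (p : ℕ)
    (hvan : ∀ (M : X.Modules), M.IsQuasicoherent →
      IsZero ((Coh.RpushAb f (p + 1)).obj (Coh.toAb M)))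
    (M' : X'.Modules) [M'.IsQuasicoherent] :
    IsZero ((Coh.RpushAb f' (p + 1)).obj (Coh.toAb M')) := by
  obtain ⟨e⟩ := Groth.Agent.H42.CohTopLib.nonempty_Rpush_iso f'.base (F := Coh.toAb M') (p + 1)
  refine IsZero.of_iso ?_ e
  apply Groth.Agent.H42.QcqsPush.isZero_sheafify_of_basis _ _ (isBasis_affine_over g)
  rintro V' ⟨hV'aff, V, hVaff, hle⟩
  obtain ⟨eq⟩ := Groth.Agent.H45.CohTopRestr.nonempty_HU_addEquiv_H_restr (X := X'.carrier)
    (f' ⁻¹ᵁ V') (Coh.toAb M') (p + 1)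
  have hk := key f g f' g' sq V hVaff V' hV'aff hle M' p hvan
  have : Subsingleton (CohTop.H (CohTop.restr (X := X'.carrier) (Coh.toAb M') (f' ⁻¹ᵁ V'))
      (p + 1)) := hk
  exact eq.subsingleton

end Groth.Agent.H30.CdBC
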