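import Mathlib.AlgebraicTopology.ExtraDegeneracy
import Mathlib.AlgebraicTopology.CechNerve
import Mathlib.AlgebraicTopology.AlternatingFaceMapComplex
import Mathlib.Algebra.Category.Grp.Adjunctions
import Mathlib.Algebra.Category.Grp.Abelian
import Mathlib.Algebra.Homology.QuasiIso
import Mathlib.Algebra.Homology.SingleHomology

/-!
# Sectionwise extra degeneracy of a Čech nerve (helper30)

For an arrow `f` of a category with the relevant wide pullbacks and an object `H`, the simplicial
set `n ↦ Hom(H, Čech_n(f))`, augmented over the set of maps `H ⟶ f.right` which lift through `f`,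
has an extra degeneracy.  Consequently the alternating face map complex of the free abelian groups
on `Hom(H, Čech_n(f))` is exact in positive degrees.
-/

set_option autoImplicit false

namespace Groth.Agent.H30.CechRes

open CategoryTheory Limits Opposite Simplicial AlgebraicTopology

universe v' u'

section ED

variable {𝒞 : Type u'} [Category.{v'} 𝒞] (f : Arrow 𝒞)
  [∀ n : ℕ, HasWidePullback.{0} f.right (fun _ : Fin (n + 1) => f.left) fun _ => f.hom] (H : 𝒞)

/-- maps `H ⟶ f.right` which lift through `f` -/
def Img : Type v' := {t : H ⟶ f.right // ∃ s : H ⟶ f.left, s ≫ f.hom = t}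

variable {f H} in
/-- a chosen lift -/
noncomputable def Img.sec (t : Img f H) : H ⟶ f.left := t.2.choose

variable {f H} in
@[reassoc (attr := simp)]
lemma Img.sec_comp (t : Img f H) : t.sec ≫ f.hom = t.1 := t.2.choose_spec

/-- the image point of a simplex -/
noncomputable def imgOf (n : SimplexCategoryᵒᵖ) (x : H ⟶ f.cechNerve.obj n) : Img f H :=
  ⟨x ≫ WidePullback.base _, x ≫ WidePullback.π _ 0, by simp⟩

@[simp]
lemma imgOf_val (n : SimplexCategoryᵒᵖ) (x : H ⟶ f.cechNerve.obj n) :
    (imgOf f H n x).1 = x ≫ WidePullback.base _ := rfl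

set_option backward.isDefEq.respectTransparency false in
lemma imgOf_map {m n : SimplexCategoryᵒᵖ} (g : m ⟶ n) (x : H ⟶ f.cechNerve.obj m) :
    imgOf f H n (x ≫ f.cechNerve.map g) = imgOf f H m x := by
  apply Subtype.ext
  simp [imgOf]

/-- the augmented simplicial set `Hom(H, Čech(f))` over the image -/
noncomputable def homAug : SimplicialObject.Augmented (Type v') where
  left := f.cechNerve ⋙ coyoneda.obj (op H)
  right := Img f H
  hom :=
    { app := fun n => TypeCat.ofHom (fun x => imgOf f H n x)
      naturality := by
        intro m n g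
        refine ConcreteCategory.hom_ext _ _ (fun x => ?_)
        exact imgOf_map f H g x }

/-- the extra degeneracy on simplices -/
noncomputable def edS (n : ℕ) (x : H ⟶ f.cechNerve.obj (op ⦋n⦌)) :
    H ⟶ f.cechNerve.obj (op ⦋n + 1⦌) :=
  WidePullback.lift (x ≫ WidePullback.base _)
    (Fin.cases (imgOf f H _ x).sec (fun j => x ≫ WidePullback.π _ j))
    (fun i => by cases i using Fin.cases <;> simp)

set_option backward.isDefEq.respectTransparency false in
@[reassoc (attr := simp)]
lemma edS_π_zero (n : ℕ) (x : H ⟶ f.cechNerve.obj (op ⦋n⦌)) :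
    edS f H n x ≫ WidePullback.π (fun _ : Fin (n + 1 + 1) => f.hom) 0 = (imgOf f H _ x).sec := by
  simp [edS]

set_option backward.isDefEq.respectTransparency false in
@[reassoc (attr := simp)]
lemma edS_π_succ (n : ℕ) (x : H ⟶ f.cechNerve.obj (op ⦋n⦌)) (j : Fin (n + 1)) :
    edS f H n x ≫ WidePullback.π (fun _ : Fin (n + 1 + 1) => f.hom) j.succ =
      x ≫ WidePullback.π (fun _ : Fin (n + 1) => f.hom) j := by
  simp [edS]

set_option backward.isDefEq.respectTransparency false in
@[reassoc (attr := simp)]
lemma edS_base (n : ℕ) (x : H ⟶ f.cechNerve.obj (op ⦋n⦌)) :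
    edS f H n x ≫ WidePullback.base (fun _ : Fin (n + 1 + 1) => f.hom) =
      x ≫ WidePullback.base (fun _ : Fin (n + 1) => f.hom) := by
  simp [edS]

set_option backward.isDefEq.respectTransparency false in
/-- the extra degeneracy of `homAug` -/
noncomputable def extraDeg : SimplicialObject.Augmented.ExtraDegeneracy (homAug f H) where
  s' := TypeCat.ofHom (fun t : Img f H =>
    (WidePullback.lift t.1 (fun _ => t.sec) (fun _ => t.sec_comp) : H ⟶ f.cechNerve.obj (op ⦋0⦌)))
  s n := TypeCat.ofHom (fun x => edS f H n x)
  s'_comp_ε := by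
    refine ConcreteCategory.hom_ext _ _ (fun t => ?_)
    apply Subtype.ext
    exact WidePullback.lift_base _ _ _ _
  s₀_comp_δ₁ := by
    refine ConcreteCategory.hom_ext _ _ (fun x => ?_)
    show edS f H 0 x ≫ f.cechNerve.map (SimplexCategory.δ 1).op =
      WidePullback.lift (imgOf f H _ x).1 (fun _ => (imgOf f H _ x).sec) (fun _ => (imgOf f H _ x).sec_comp)
    apply WidePullback.hom_ext
    · intro j
      obtain rfl : j = 0 := @Subsingleton.elim (Fin 1) _ j 0
      simp [SimplexCategory.δ]
    · simp
  s_comp_δ₀ n := by
    refine ConcreteCategory.hom_ext _ _ (fun x => ?_)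
    show edS f H n x ≫ f.cechNerve.map (SimplexCategory.δ 0).op = x
    apply WidePullback.hom_ext
    · intro j
      simp [SimplexCategory.δ]
    · simp
  s_comp_δ n i := by
    refine ConcreteCategory.hom_ext _ _ (fun x => ?_)
    show edS f H (n + 1) x ≫ f.cechNerve.map (SimplexCategory.δ i.succ).op =
      edS f H n (x ≫ f.cechNerve.map (SimplexCategory.δ i).op)
    apply WidePullback.hom_ext
    · intro j
      induction j using Fin.cases with
      | zero =>
        simp [SimplexCategory.δ]
        congr 1
        apply Subtype.ext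
        simp
      | succ k => simp [SimplexCategory.δ]
    · simp
  s_comp_σ n i := by
    refine ConcreteCategory.hom_ext _ _ (fun x => ?_)
    show edS f H n x ≫ f.cechNerve.map (SimplexCategory.σ i.succ).op =
      edS f H (n + 1) (x ≫ f.cechNerve.map (SimplexCategory.σ i).op)
    apply WidePullback.hom_ext
    · intro j
      induction j using Fin.cases with
      | zero =>
        simp [SimplexCategory.σ]
        congr 1
        apply Subtype.ext
        simp
      | succ k => simp [SimplexCategory.σ]
    · simp

/-- the free abelian groups on `Hom(H, Čech_n(f))` form a complex exact in positive degrees -/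
theorem exactAt_free_hom (n : ℕ) :
    (AlternatingFaceMapComplex.obj
      ((f.cechNerve ⋙ coyoneda.obj (op H)) ⋙ AddCommGrpCat.free.{v'})).ExactAt (n + 1) := by
  let he := ((extraDeg f H).map AddCommGrpCat.free.{v'}).homotopyEquiv
  have h1 : QuasiIsoAt he.hom (n + 1) := inferInstance
  exact (quasiIsoAt_iff_exactAt' he.hom (n + 1)
    (ChainComplex.exactAt_succ_single_obj _ n)).1 h1

end ED

end Groth.Agent.H30.CechRes
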