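import Groth.Agent.H30.CechRes1
import Mathlib.CategoryTheory.Sites.Adjunction
import Mathlib.CategoryTheory.Sites.RegularEpi
import Mathlib.CategoryTheory.Sites.Abelian
import Mathlib.CategoryTheory.Sites.LeftExact
import Mathlib.CategoryTheory.Sites.PreservesSheafification
import Mathlib.Algebra.Homology.ShortComplex.ExactFunctor
import Mathlib.Algebra.Homology.ShortComplex.PreservesHomology
import Mathlib.CategoryTheory.Abelian.FunctorCategory
import Mathlib.CategoryTheory.Preadditive.AdditiveFunctor
import Mathlib.CategoryTheory.Sites.SheafCohomology.Basic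
import Mathlib.Algebra.Category.Grp.AB
import Mathlib.CategoryTheory.Abelian.GrothendieckAxioms.Sheaf

/-!
# The free Čech nerve resolution of an epimorphism of sheaves of sets (helper30)
-/

set_option autoImplicit false

namespace Groth.Agent.H30.CechRes

open CategoryTheory Limits Opposite Simplicial AlgebraicTopology

universe u

section General

/-- exactness in a functor category is checked pointwise -/
theorem exact_of_evaluation {D : Type*} [Category D] [Abelian D] {I : Type*} [Category I]
    (S : ShortComplex (I ⥤ D)) (h : ∀ i, (S.map ((evaluation I D).obj i)).Exact) : S.Exact := by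
  rw [ShortComplex.exact_iff_isZero_homology, Functor.isZero_iff]
  intro i
  have e := S.mapHomologyIso ((evaluation I D).obj i)
  exact IsZero.of_iso ((ShortComplex.exact_iff_isZero_homology _).1 (h i)) e.symm

theorem exactAt_whiskering {𝒜 ℬ : Type*} [Category 𝒜] [Category ℬ] [Abelian 𝒜] [Abelian ℬ]
    (F : 𝒜 ⥤ ℬ) [F.Additive] [F.PreservesHomology] (Z : SimplicialObject 𝒜) (m : ℕ)
    (h : (AlternatingFaceMapComplex.obj Z).ExactAt m) :
    (AlternatingFaceMapComplex.obj (((SimplicialObject.whiskering 𝒜 ℬ).obj F).obj Z)).ExactAt m := by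
  have h1 := Functor.congr_obj (map_alternatingFaceMapComplex F) Z
  have h2 : ((F.mapHomologicalComplex _).obj (AlternatingFaceMapComplex.obj Z)).ExactAt m := by
    rw [HomologicalComplex.exactAt_iff] at h ⊢
    exact h.map F
  exact h2.of_iso (eqToIso h1)

theorem exactAt_of_evaluation {D : Type*} [Category D] [Abelian D] {I : Type*} [Category I]
    (Z : SimplicialObject (I ⥤ D)) (m : ℕ)
    (h : ∀ i : I, (AlternatingFaceMapComplex.obj
      (((SimplicialObject.whiskering _ _).obj ((evaluation I D).obj i)).obj Z)).ExactAt m) :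
    (AlternatingFaceMapComplex.obj Z).ExactAt m := by
  rw [HomologicalComplex.exactAt_iff]
  apply exact_of_evaluation
  intro i
  have h1 := Functor.congr_obj (map_alternatingFaceMapComplex ((evaluation I D).obj i)) Z
  have h2 := (h i).of_iso (eqToIso h1.symm)
  rw [HomologicalComplex.exactAt_iff] at h2
  exact h2

end General

variable {C : Type u} [SmallCategory C] (J : GrothendieckTopology C)

/-- the representable sheaf -/
noncomputable abbrev hh (U : C) : Sheaf J (Type u) :=
  (presheafToSheaf J (Type u)).obj (yoneda.obj U)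

/-- sections over `U` are maps from the representable sheaf -/
noncomputable def secEquiv (U : C) (T : Sheaf J (Type u)) : (hh J U ⟶ T) ≃ T.obj.obj (op U) :=
  ((sheafificationAdjunction J (Type u)).homEquiv (yoneda.obj U) T).trans yonedaEquiv

lemma secEquiv_naturality (U : C) {T T' : Sheaf J (Type u)} (ψ : T ⟶ T') (φ : hh J U ⟶ T) :
    secEquiv J U T' (φ ≫ ψ) = ψ.hom.app (op U) (secEquiv J U T φ) := by
  simp only [secEquiv, Equiv.trans_apply]
  rw [Adjunction.homEquiv_naturality_right, yonedaEquiv_comp]
  rfl

/-- `secEquiv` as a natural isomorphism -/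
noncomputable def secIso (U : C) : coyoneda.obj (op (hh J U)) ≅
    sheafToPresheaf J (Type u) ⋙ (evaluation Cᵒᵖ (Type u)).obj (op U) :=
  NatIso.ofComponents (fun T => (secEquiv J U T).toIso) (by
    intro T T' ψ
    refine ConcreteCategory.hom_ext _ _ (fun φ => ?_)
    exact secEquiv_naturality J U ψ φ)

/-- the free abelian presheaf on the underlying presheaf of a sheaf of sets -/
noncomputable abbrev GG : Sheaf J (Type u) ⥤ (Cᵒᵖ ⥤ AddCommGrpCat.{u}) :=
  sheafToPresheaf J (Type u) ⋙
    (Functor.whiskeringRight Cᵒᵖ (Type u) AddCommGrpCat.{u}).obj AddCommGrpCat.free.{u}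

/-- sections of `GG` over `U` -/
noncomputable def evIso (U : C) : GG J ⋙ (evaluation Cᵒᵖ AddCommGrpCat.{u}).obj (op U) ≅
    coyoneda.obj (op (hh J U)) ⋙ AddCommGrpCat.free.{u} :=
  NatIso.ofComponents (fun T => AddCommGrpCat.free.mapIso ((secIso J U).app T).symm) (by
    intro T T' ψ
    show AddCommGrpCat.free.map (ψ.hom.app (op U)) ≫
        AddCommGrpCat.free.map ((secIso J U).inv.app T') =
      AddCommGrpCat.free.map ((secIso J U).inv.app T) ≫
        AddCommGrpCat.free.map ((coyoneda.obj (op (hh J U))).map ψ)
    rw [← Functor.map_comp, ← Functor.map_comp]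
    congr 1
    exact ((secIso J U).inv.naturality ψ))

set_option maxHeartbeats 400000 in
/-- sectionwise exactness -/
theorem exactAt_succ_sections (g : Arrow (Sheaf J (Type u))) (n : ℕ) (U : C) :
    (AlternatingFaceMapComplex.obj
      ((g.cechNerve ⋙ GG J) ⋙ (evaluation Cᵒᵖ AddCommGrpCat.{u}).obj (op U))).ExactAt (n + 1) := by
  have h1 := exactAt_free_hom g (hh J U) n
  let e : (g.cechNerve ⋙ coyoneda.obj (op (hh J U))) ⋙ AddCommGrpCat.free.{u} ≅
      (g.cechNerve ⋙ GG J) ⋙ (evaluation Cᵒᵖ AddCommGrpCat.{u}).obj (op U) :=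
    Functor.associator _ _ _ ≪≫ Functor.isoWhiskerLeft g.cechNerve (evIso J U).symm ≪≫
      (Functor.associator _ _ _).symm
  exact h1.of_iso ((alternatingFaceMapComplex AddCommGrpCat.{u}).mapIso e)

set_option maxHeartbeats 400000 in
/-- presheaf-level exactness -/
theorem exactAt_succ_presheaf (g : Arrow (Sheaf J (Type u))) (n : ℕ) :
    (AlternatingFaceMapComplex.obj (g.cechNerve ⋙ GG J)).ExactAt (n + 1) := by
  apply exactAt_of_evaluation
  intro U'
  exact exactAt_succ_sections J g n U'.unop

set_option maxHeartbeats 400000 in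
/-- exactness of the free Čech complex in positive degrees -/
theorem exactAt_succ (g : Arrow (Sheaf J (Type u))) (n : ℕ) :
    (AlternatingFaceMapComplex.obj
      (g.cechNerve ⋙ Sheaf.composeAndSheafify J AddCommGrpCat.free.{u})).ExactAt (n + 1) := by
  have h1 := exactAt_whiskering (presheafToSheaf J AddCommGrpCat.{u}) _ (n + 1)
    (exactAt_succ_presheaf J g n)
  let e : ((SimplicialObject.whiskering _ _).obj (presheafToSheaf J AddCommGrpCat.{u})).obj
        (g.cechNerve ⋙ GG J) ≅
      g.cechNerve ⋙ Sheaf.composeAndSheafify J AddCommGrpCat.free.{u} :=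
    Functor.associator g.cechNerve (GG J) (presheafToSheaf J AddCommGrpCat.{u}) ≪≫
      Functor.isoWhiskerLeft g.cechNerve (Functor.associator _ _ _)
  exact h1.of_iso ((alternatingFaceMapComplex (Sheaf J AddCommGrpCat.{u})).mapIso e)

section Deg0

variable {J}
variable (g : Arrow (Sheaf J (Type u)))

/-- projections of the kernel pair -/
noncomputable abbrev q0 : g.cechNerve.obj (op ⦋1⦌) ⟶ g.left :=
  WidePullback.π (fun _ : Fin (1 + 1) => g.hom) 0

/-- projections of the kernel pair -/
noncomputable abbrev q1 : g.cechNerve.obj (op ⦋1⦌) ⟶ g.left :=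
  WidePullback.π (fun _ : Fin (1 + 1) => g.hom) 1

/-- the projection from the `0`-th term -/
noncomputable abbrev p0 : g.cechNerve.obj (op ⦋0⦌) ⟶ g.left :=
  WidePullback.π (fun _ : Fin (0 + 1) => g.hom) 0

set_option maxHeartbeats 400000 in
set_option backward.isDefEq.respectTransparency false in
/-- the `0`-th term of the Čech nerve is the source -/
noncomputable def p0Iso : g.cechNerve.obj (op ⦋0⦌) ≅ g.left where
  hom := p0 g
  inv := WidePullback.lift g.hom (fun _ => 𝟙 _) (by intro; simp)
  hom_inv_id := by
    apply WidePullback.hom_ext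
    · intro j
      obtain rfl : j = 0 := @Subsingleton.elim (Fin 1) _ j 0
      simp
    · simp
  inv_hom_id := by simp

lemma q_cond : q1 g ≫ g.hom = q0 g ≫ g.hom := by simp

set_option maxHeartbeats 400000 in
set_option backward.isDefEq.respectTransparency false in
/-- the first term of the Čech nerve is the kernel pair -/
noncomputable def kp : IsLimit (PullbackCone.mk (q1 g) (q0 g) (q_cond g)) :=
  PullbackCone.IsLimit.mk _
    (fun s => WidePullback.lift (s.fst ≫ g.hom) (fun i : Fin (1 + 1) => ![s.snd, s.fst] i)
      (by intro i; fin_cases i <;> simp [s.condition]))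
    (fun s => by simp)
    (fun s => by simp)
    (fun s m h1 h2 => by
      apply WidePullback.hom_ext
      · refine Fin.forall_fin_two.2 ⟨?_, ?_⟩
        · simpa using h2
        · simpa using h1
      · have h3 : m ≫ WidePullback.base _ = (m ≫ q1 g) ≫ g.hom := by simp
        rw [h3, h1]
        simp)

set_option maxHeartbeats 400000 in
theorem deg0_exact [Epi g.hom] :
    (ShortComplex.mk
      ((Sheaf.composeAndSheafify J AddCommGrpCat.free.{u}).map (q1 g) -
        (Sheaf.composeAndSheafify J AddCommGrpCat.free.{u}).map (q0 g))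
      ((Sheaf.composeAndSheafify J AddCommGrpCat.free.{u}).map g.hom)
      (by rw [Preadditive.sub_comp, ← Functor.map_comp, ← Functor.map_comp, q_cond,
        sub_self])).Exact := by
  have hreg : IsRegularEpi g.hom := IsRegularEpiCategory.regularEpiOfEpi g.hom
  have heff : EffectiveEpi g.hom := inferInstance
  have hcoeq := isColimitCoforkOfEffectiveEpi g.hom _ (kp g)
  haveI := (Sheaf.adjunction J AddCommGrpCat.adj.{u}).leftAdjoint_preservesColimits
  have hΦ := isColimitCoforkMapOfIsColimit
    (Sheaf.composeAndSheafify J AddCommGrpCat.free.{u}) _ hcoeq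
  have hcok := Preadditive.isColimitCokernelCoforkOfCofork hΦ
  exact ShortComplex.exact_of_g_is_cokernel _ hcok

set_option maxHeartbeats 400000 in
set_option backward.isDefEq.respectTransparency false in
lemma δ0_p0 : g.cechNerve.map (SimplexCategory.δ (0 : Fin 2)).op ≫ p0 g = q1 g := by
  simp [SimplexCategory.δ]

set_option maxHeartbeats 400000 in
set_option backward.isDefEq.respectTransparency false in
lemma δ1_p0 : g.cechNerve.map (SimplexCategory.δ (1 : Fin 2)).op ≫ p0 g = q0 g := by
  simp [SimplexCategory.δ]

set_option maxHeartbeats 400000 in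
lemma d10_eq :
    (AlternatingFaceMapComplex.obj
      (g.cechNerve ⋙ Sheaf.composeAndSheafify J AddCommGrpCat.free.{u})).d 1 0 =
      (Sheaf.composeAndSheafify J AddCommGrpCat.free.{u}).map
        (g.cechNerve.map (SimplexCategory.δ (0 : Fin 2)).op) -
      (Sheaf.composeAndSheafify J AddCommGrpCat.free.{u}).map
        (g.cechNerve.map (SimplexCategory.δ (1 : Fin 2)).op) := by
  have h := AlternatingFaceMapComplex.obj_d_eq
    (g.cechNerve ⋙ Sheaf.composeAndSheafify J AddCommGrpCat.free.{u}) 0
  rw [Fin.sum_univ_two] at h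
  simp only [Fin.val_zero, pow_zero, one_smul, Fin.val_one, pow_one, neg_smul] at h
  rw [← sub_eq_add_neg] at h
  exact h

end Deg0

end Groth.Agent.H30.CechRes
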