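import Groth.Agent.H30.CechRes2

/-!
# Čech resolution, degree `0` in the form needed for the augmentation

`deg0_exact_base`: for an arrow `g` of sheaves of sets with `g.hom` epi, the sequence
`ℤ[g ×_K g] ⟶ ℤ[Čech_0(g)] ⟶ ℤ[K]` (first map the degree-one differential of the alternating
face map complex of the free Čech nerve, second map induced by `WidePullback.base`) is exact
and the second map is an epimorphism.
-/

set_option autoImplicit false
universe u
open CategoryTheory CategoryTheory.Limits Opposite AlgebraicTopology Simplicial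

namespace Groth.Agent.H30.CechRes

variable {C : Type u} [SmallCategory C] {J : GrothendieckTopology C}
variable (g : Arrow (Sheaf J (Type u)))

lemma base_eq : WidePullback.base (fun _ : Fin (0 + 1) => g.hom) = p0 g ≫ g.hom :=
  (WidePullback.π_arrow _ _).symm

set_option maxHeartbeats 400000 in
set_option backward.isDefEq.respectTransparency false in
theorem deg0_exact_base [Epi g.hom]
    (τ : (AlternatingFaceMapComplex.obj
      (g.cechNerve ⋙ Sheaf.composeAndSheafify J AddCommGrpCat.free.{u})).X 0 ⟶
        (Sheaf.composeAndSheafify J AddCommGrpCat.free.{u}).obj g.right)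
    (hτ : τ = (Sheaf.composeAndSheafify J AddCommGrpCat.free.{u}).map
      (WidePullback.base (fun _ : Fin (0 + 1) => g.hom)))
    (w : (AlternatingFaceMapComplex.obj
      (g.cechNerve ⋙ Sheaf.composeAndSheafify J AddCommGrpCat.free.{u})).d 1 0 ≫ τ = 0) :
    (ShortComplex.mk _ τ w).Exact ∧ Epi τ := by
  subst hτ
  constructor
  · refine (ShortComplex.exact_iff_of_iso ?_).2 (deg0_exact g)
    refine ShortComplex.isoMk (Iso.refl _)
      ((Sheaf.composeAndSheafify J AddCommGrpCat.free.{u}).mapIso (p0Iso g)) (Iso.refl _) ?_ ?_
    · change 𝟙 _ ≫ ((Sheaf.composeAndSheafify J AddCommGrpCat.free.{u}).map (q1 g) -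
          (Sheaf.composeAndSheafify J AddCommGrpCat.free.{u}).map (q0 g)) =
        (AlternatingFaceMapComplex.obj
        (g.cechNerve ⋙ Sheaf.composeAndSheafify J AddCommGrpCat.free.{u})).d 1 0 ≫
          (Sheaf.composeAndSheafify J AddCommGrpCat.free.{u}).map (p0 g)
      rw [Category.id_comp, d10_eq, Preadditive.sub_comp, ← Functor.map_comp,
        ← Functor.map_comp, δ0_p0, δ1_p0]
    · change (Sheaf.composeAndSheafify J AddCommGrpCat.free.{u}).map (p0 g) ≫
          (Sheaf.composeAndSheafify J AddCommGrpCat.free.{u}).map g.hom =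
        (Sheaf.composeAndSheafify J AddCommGrpCat.free.{u}).map
          (WidePullback.base (fun _ : Fin (0 + 1) => g.hom)) ≫ 𝟙 _
      rw [Category.comp_id, ← Functor.map_comp, ← base_eq]
  · have hΦ : (Sheaf.composeAndSheafify J AddCommGrpCat.free.{u}).PreservesEpimorphisms :=
      Functor.preservesEpimorphisms_of_adjunction (Sheaf.adjunction J AddCommGrpCat.adj.{u})
    rw [base_eq, Functor.map_comp]
    have hiso : IsIso ((Sheaf.composeAndSheafify J AddCommGrpCat.free.{u}).map (p0 g)) :=
      ((Sheaf.composeAndSheafify J AddCommGrpCat.free.{u}).mapIso (p0Iso g)).isIso_hom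
    infer_instance

end Groth.Agent.H30.CechRes
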