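import Groth.Prelude.Def_FibClv

/-! Helper lemmas for `FibCat.Cleavage` (helper30). -/

set_option autoImplicit false
set_option backward.isDefEq.respectTransparency false
set_option backward.isDefEq.respectTransparency.types false

universe v₁ v₂ u₁ u₂

open CategoryTheory CategoryTheory.Functor

namespace Groth.Agent.H30

variable {𝒮 : Type u₁} {𝒳 : Type u₂} [Category.{v₁} 𝒮] [Category.{v₂} 𝒳]
variable {p : 𝒳 ⥤ 𝒮} (K : FibCat.Cleavage p)

/-- The component of `inverseImageCongr` followed by the chosen lift is the chosen lift. -/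
theorem inverseImageCongr_hom_app_lift {R S : 𝒮} {f f' : R ⟶ S} (h : f = f') (a : p.Fiber S) :
    Fiber.fiberInclusion.map ((K.inverseImageCongr h).hom.app a) ≫ K.lift a.2 f' = K.lift a.2 f := by
  subst h
  simp [FibCat.Cleavage.inverseImageCongr]

/-- Two morphisms of the fibre into a chosen inverse image agree when they agree after the lift. -/
theorem hom_ext_lift {R S : 𝒮} (f : R ⟶ S) (a : p.Fiber S) {b : p.Fiber R}
    (φ ψ : b ⟶ (K.inverseImage f).obj a)
    (h : Fiber.fiberInclusion.map φ ≫ K.lift a.2 f = Fiber.fiberInclusion.map ψ ≫ K.lift a.2 f) :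
    φ = ψ := by
  apply Fiber.hom_ext
  exact IsCartesian.ext p f (K.lift a.2 f) _ _ h

@[reassoc]
theorem comp_app_lift {R S T : 𝒮} (f : T ⟶ S) (g : R ⟶ T) (a : p.Fiber S) :
    Fiber.fiberInclusion.map ((K.comp f g).app a) ≫ K.lift a.2 (g ≫ f) =
      K.lift (K.obj_proj a.2 f) g ≫ K.lift a.2 f := by
  rw [FibCat.Cleavage.comp_app]
  exact IsCartesian.fac _ _ _ _

@[reassoc]
theorem inverseImage_map_lift {R S : 𝒮} (f : R ⟶ S) {a b : p.Fiber S} (φ : a ⟶ b) :
    Fiber.fiberInclusion.map ((K.inverseImage f).map φ) ≫ K.lift b.2 f =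
      K.lift a.2 f ≫ Fiber.fiberInclusion.map φ := by
  rw [FibCat.Cleavage.inverseImage_map]
  exact IsCartesian.fac _ _ _ _

end Groth.Agent.H30
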