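import Groth.Agent.H30.OpenClosed
import Mathlib.CategoryTheory.Sites.LeftExact
import Mathlib.CategoryTheory.Sites.Sheafification
import Mathlib.CategoryTheory.Limits.Yoneda
import Mathlib.CategoryTheory.Limits.FunctorCategory.Basic
import Mathlib.CategoryTheory.Limits.Preserves.Shapes.BinaryProducts
import Mathlib.CategoryTheory.Adjunction.FullyFaithful
import Mathlib.CategoryTheory.Adjunction.Unique

/-!
# The closed complement of an open of a sheaf topos is a left exact reflective subcategory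

The reflector is constructed as the sheafification of the presheaf
`V ↦ (¬ U(V) → X(V))`, which is visibly left exact.
-/

set_option autoImplicit false
universe u

namespace Groth.Agent.H30.ClosedRefl

open CategoryTheory Limits Opposite
open Groth.Agent.H30

variable {C : Type u} [SmallCategory C]

section presheaf

variable (U : Cᵒᵖ ⥤ Type u)

/-- Pointwise negation of `U`. -/
def N (V : Cᵒᵖ) : Type u := U.obj V → PEmpty.{u+1}

instance (V : Cᵒᵖ) : Subsingleton (N U V) := ⟨fun a _ => funext fun x => (a x).elim⟩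

/-- Functoriality of the negation. -/
def Nmap {V V' : Cᵒᵖ} (f : V ⟶ V') : N U V' ⟶ N U V := ↾(fun h x => h (U.map f x))

lemma Nmap_id (V : Cᵒᵖ) : Nmap U (𝟙 V) = 𝟙 _ := by
  ext h
  exact Subsingleton.elim _ _

lemma Nmap_comp {V V' V'' : Cᵒᵖ} (f : V ⟶ V') (g : V' ⟶ V'') :
    Nmap U (f ≫ g) = Nmap U g ≫ Nmap U f := by
  ext h
  exact Subsingleton.elim _ _

/-- The presheaf `V ↦ (¬ U(V) → X(V))`. -/
@[simps]
def PfObj (X : Cᵒᵖ ⥤ Type u) : Cᵒᵖ ⥤ Type u where
  obj V := N U V ⟶ X.obj V
  map {V V'} f := ↾(fun s => Nmap U f ≫ s ≫ X.map f)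
  map_id V := by
    ext s
    simp [Nmap_id]
  map_comp f g := by
    ext s
    simp [Nmap_comp]

/-- The functor `X ↦ (V ↦ (¬ U(V) → X(V)))`. -/
@[simps]
def Pf : (Cᵒᵖ ⥤ Type u) ⥤ (Cᵒᵖ ⥤ Type u) where
  obj X := PfObj U X
  map {X Y} φ :=
    { app := fun V => ↾(fun s => s ≫ φ.app V)
      naturality := by
        intro V V' f
        have key : ∀ s : N U V ⟶ X.obj V, (Nmap U f ≫ s ≫ X.map f) ≫ φ.app V' =
            Nmap U f ≫ (s ≫ φ.app V) ≫ Y.map f := fun s => by
          rw [Category.assoc, Category.assoc, Category.assoc, φ.naturality]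
        ext s
        exact key s }
  map_id X := by
    ext V s
    exact Category.comp_id (X := N U V) (Y := X.obj V) s
  map_comp {X Y Z} φ ψ := by
    ext V s
    exact (Category.assoc (W := N U V) (X := X.obj V) s (φ.app V) (ψ.app V)).symm

instance : PreservesLimitsOfSize.{u, u} (Pf U) := by
  apply preservesLimits_of_evaluation
  intro V
  change PreservesLimitsOfSize ((evaluation _ _).obj V ⋙ coyoneda.obj (op (N U V)))
  infer_instance

instance : PreservesFiniteLimits (Pf U) := PreservesLimitsOfSize.preservesFiniteLimits.{u, u} _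

variable {U}

lemma hom_ext_N {A : Type u} {V : Cᵒᵖ} (s s' : N U V ⟶ A) (h : ∀ n, s n = s' n) : s = s' := by
  ext n
  exact h n

lemma PfObj_subsingleton (X : Cᵒᵖ ⥤ Type u) {V : Cᵒᵖ} (u₀ : U.obj V) :
    Subsingleton (((Pf U).obj X).obj V) :=
  ⟨fun s s' => hom_ext_N (U := U) (A := X.obj V) s s' fun h => (h u₀).elim⟩

/-- A section of `PfObj U X`, seen as a function. -/
abbrev asHom {X : Cᵒᵖ ⥤ Type u} {V : Cᵒᵖ} (s : ((Pf U).obj X).obj V) : N U V ⟶ X.obj V := s

variable (U) in
/-- The canonical map `X ⟶ PfObj U X` (constant functions). -/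
def toPf (X : Cᵒᵖ ⥤ Type u) : X ⟶ (Pf U).obj X where
  app V := ↾(fun x => (↾(fun _ => x) : N U V ⟶ X.obj V))
  naturality V V' f := by
    ext x
    exact hom_ext_N (U := U) (A := X.obj V') _ _ fun _ => rfl

lemma toPf_naturality {X Y : Cᵒᵖ ⥤ Type u} (φ : X ⟶ Y) :
    toPf U X ≫ (Pf U).map φ = φ ≫ toPf U Y := by
  ext V x
  exact hom_ext_N (U := U) (A := Y.obj V) _ _ fun _ => rfl

variable (U) in
/-- Either `U(V)` is empty or it has an element. -/
noncomputable def dec (V : Cᵒᵖ) : N U V ⊕ U.obj V := by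
  classical
  exact if h : Nonempty (U.obj V) then Sum.inr h.some else Sum.inl (fun x => (h ⟨x⟩).elim)

/-- The pointwise extension of `φ : X ⟶ Y` to `PfObj U X`, where `Y` is trivial over `U`. -/
noncomputable def extFun {X Y : Cᵒᵖ ⥤ Type u} (φ : X ⟶ Y) (t : U ⟶ Y) (V : Cᵒᵖ)
    (s : N U V ⟶ X.obj V) : Y.obj V :=
  Sum.elim (fun h => φ.app V (s h)) (fun u => t.app V u) (dec U V)

lemma extFun_of_N {X Y : Cᵒᵖ ⥤ Type u} (φ : X ⟶ Y) (t : U ⟶ Y) {V : Cᵒᵖ}
    (s : N U V ⟶ X.obj V) (h : N U V) : extFun φ t V s = φ.app V (s h) := by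
  unfold extFun
  generalize dec U V = d
  cases d with
  | inl h' =>
    show φ.app V (s h') = φ.app V (s h)
    rw [Subsingleton.elim h' h]
  | inr u => exact (h u).elim

/-- The extension of `φ : X ⟶ Y` to `PfObj U X`, where `Y` is trivial over `U`. -/
noncomputable def extPf {X Y : Cᵒᵖ ⥤ Type u} (φ : X ⟶ Y) (t : U ⟶ Y)
    (hY : ∀ V, U.obj V → Subsingleton (Y.obj V)) : (Pf U).obj X ⟶ Y where
  app V := ↾(extFun φ t V)
  naturality V V' f := by
    ext s
    show extFun φ t V' (Nmap U f ≫ asHom s ≫ X.map f) = Y.map f (extFun φ t V (asHom s))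
    rcases dec U V' with h' | u'
    · rw [extFun_of_N φ t _ h', extFun_of_N φ t s (Nmap U f h')]
      exact NatTrans.naturality_apply φ f _
    · haveI := hY V' u'
      exact Subsingleton.elim _ _

lemma toPf_extPf {X Y : Cᵒᵖ ⥤ Type u} (φ : X ⟶ Y) (t : U ⟶ Y)
    (hY : ∀ V, U.obj V → Subsingleton (Y.obj V)) : toPf U X ≫ extPf φ t hY = φ := by
  ext V x
  show extFun φ t V ((toPf U X).app V x) = φ.app V x
  rcases dec U V with h | u
  · rw [extFun_of_N φ t _ h]
    rfl
  · haveI := hY V u
    exact Subsingleton.elim _ _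

lemma Pf_hom_ext {X Y : Cᵒᵖ ⥤ Type u} (hY : ∀ V, U.obj V → Subsingleton (Y.obj V))
    {g g' : (Pf U).obj X ⟶ Y} (h : toPf U X ≫ g = toPf U X ≫ g') : g = g' := by
  ext V s
  show g.app V s = g'.app V s
  rcases dec U V with n | u
  · have hs : s = (toPf U X).app V (asHom s n) :=
      hom_ext_N (U := U) (A := X.obj V) _ _ fun n' => by
        rw [Subsingleton.elim n' n]
        rfl
    have e1 : g.app V s = (toPf U X ≫ g).app V (asHom s n) := by
      show g.app V s = g.app V ((toPf U X).app V (asHom s n))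
      exact congrArg (g.app V) hs
    have e2 : g'.app V s = (toPf U X ≫ g').app V (asHom s n) := by
      show g'.app V s = g'.app V ((toPf U X).app V (asHom s n))
      exact congrArg (g'.app V) hs
    have e3 : (toPf U X ≫ g).app V (asHom s n) = (toPf U X ≫ g').app V (asHom s n) := by
      rw [h]
    exact e1.trans (e3.trans e2.symm)
  · haveI := hY V u
    exact Subsingleton.elim _ _

/-- The map `U ⟶ PfObj U X`. -/
def fromUPf (X : Cᵒᵖ ⥤ Type u) : U ⟶ (Pf U).obj X where
  app V := ↾(fun u₀ => (↾(fun h => (h u₀).elim) : N U V ⟶ X.obj V))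
  naturality V V' f := by
    ext u₀
    haveI := PfObj_subsingleton X (U.map f u₀)
    exact Subsingleton.elim _ _

end presheaf

section general

variable {𝒞 : Type*} [Category 𝒞] [HasBinaryProducts 𝒞]

lemma isIso_prod_fst_of {A B : 𝒞} (t : A ⟶ B) (h : (prod.snd : A ⨯ B ⟶ B) = prod.fst ≫ t) :
    IsIso (prod.fst : A ⨯ B ⟶ A) := by
  refine ⟨⟨prod.lift (𝟙 A) t, ?_, ?_⟩⟩
  · apply Limits.prod.hom_ext
    · rw [Category.assoc, prod.lift_fst, Category.comp_id, Category.id_comp]
    · rw [Category.assoc, prod.lift_snd, Category.id_comp, h]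
  · rw [prod.lift_fst]

lemma isIso_prod_fst_map {𝒟 : Type*} [Category 𝒟] [HasBinaryProducts 𝒟] (G : 𝒞 ⥤ 𝒟)
    {A B : 𝒞} [PreservesLimit (pair A B) G] (h : IsIso (prod.fst : A ⨯ B ⟶ A)) :
    IsIso (prod.fst : G.obj A ⨯ G.obj B ⟶ G.obj A) := by
  have e : (prod.fst : G.obj A ⨯ G.obj B ⟶ G.obj A) =
      inv (prodComparison G A B) ≫ G.map prod.fst := by
    rw [IsIso.eq_inv_comp, prodComparison_fst]
  rw [e]
  infer_instance

lemma isIso_prod_fst_of_iso {A A' B : 𝒞} (e : A ≅ A') (h : IsIso (prod.fst : A ⨯ B ⟶ A)) :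
    IsIso (prod.fst : A' ⨯ B ⟶ A') := by
  have e' : (prod.fst : A' ⨯ B ⟶ A') = prod.map e.inv (𝟙 B) ≫ prod.fst ≫ e.hom := by
    rw [← Category.assoc, prod.map_fst, Category.assoc, e.inv_hom_id, Category.comp_id]
  rw [e']
  infer_instance

end general

section sheaf

variable {J : GrothendieckTopology C}

open OpenClosed

/-- The sheafification adjunction. -/
noncomputable abbrev adjS (J : GrothendieckTopology C) :=
  sheafificationAdjunction J (Type u)

/-- The unit of sheafification, with normalised target. -/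
noncomputable def ts (P : Cᵒᵖ ⥤ Type u) : P ⟶ ((presheafToSheaf J (Type u)).obj P).obj :=
  (adjS J).unit.app P

lemma ts_naturality {P Q : Cᵒᵖ ⥤ Type u} (η : P ⟶ Q) :
    η ≫ ts (J := J) Q = ts P ≫ ((presheafToSheaf J (Type u)).map η).hom :=
  (adjS J).unit.naturality η

lemma sheafify_ext {P : Cᵒᵖ ⥤ Type u} {Y : Sheaf J (Type u)}
    {g g' : (presheafToSheaf J (Type u)).obj P ⟶ Y} (h : ts P ≫ g.hom = ts P ≫ g'.hom) :
    g = g' := by
  apply ((adjS J).homEquiv P Y).injective
  rw [Adjunction.homEquiv_unit, Adjunction.homEquiv_unit]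
  exact h

/-- Extension of a presheaf map to the sheafification. -/
noncomputable def sheafLift {P : Cᵒᵖ ⥤ Type u} {Y : Sheaf J (Type u)} (η : P ⟶ Y.obj) :
    (presheafToSheaf J (Type u)).obj P ⟶ Y :=
  ((adjS J).homEquiv P Y).symm η

lemma ts_sheafLift {P : Cᵒᵖ ⥤ Type u} {Y : Sheaf J (Type u)} (η : P ⟶ Y.obj) :
    ts P ≫ (sheafLift (J := J) η).hom = η := by
  have := ((adjS J).homEquiv P Y).apply_symm_apply η
  rw [Adjunction.homEquiv_unit] at this
  exact this

lemma sheafLift_injective {P : Cᵒᵖ ⥤ Type u} {Y : Sheaf J (Type u)} {η η' : P ⟶ Y.obj}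
    (h : sheafLift (J := J) η = sheafLift η') : η = η' :=
  ((adjS J).homEquiv P Y).symm.injective h

variable {U : Sheaf J (Type u)}

/-- The sections of an object of the closed complement over an object where `U` has a section
form a subsingleton. -/
lemma subsingleton_of_closedCompl {Y : Sheaf J (Type u)} (hY : SGA4.closedCompl U Y)
    (V : Cᵒᵖ) (u₀ : U.obj.obj V) : Subsingleton (Y.obj.obj V) := by
  constructor
  intro y₁ y₂
  have h := hom_eq_of_closedCompl hY
    (sheafLift (J := J) (P := yoneda.obj V.unop) (yonedaEquiv.symm u₀))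
    (sheafLift (J := J) (P := yoneda.obj V.unop) (yonedaEquiv.symm y₁))
    (sheafLift (J := J) (P := yoneda.obj V.unop) (yonedaEquiv.symm y₂))
  exact yonedaEquiv.symm.injective (sheafLift_injective h)

variable (U) in
/-- The reflector to the closed complement, as an endofunctor of the topos. -/
noncomputable def G₀ : Sheaf J (Type u) ⥤ Sheaf J (Type u) :=
  sheafToPresheaf J (Type u) ⋙ Pf U.obj ⋙ presheafToSheaf J (Type u)

instance : PreservesFiniteLimits (G₀ U) := by
  unfold G₀
  infer_instance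

lemma G₀_mem (X : Sheaf J (Type u)) : SGA4.closedCompl U ((G₀ U).obj X) := by
  have h₁ : IsIso (prod.fst : U.obj ⨯ (Pf U.obj).obj X.obj ⟶ U.obj) := by
    apply isIso_prod_fst_of (fromUPf X.obj)
    ext V x
    haveI := PfObj_subsingleton X.obj
      ((prod.fst : U.obj ⨯ (Pf U.obj).obj X.obj ⟶ U.obj).app V x)
    exact Subsingleton.elim _ _
  have h₂ := isIso_prod_fst_map (presheafToSheaf J (Type u)) h₁
  exact isIso_prod_fst_of_iso (asIso ((adjS J).counit.app U)) h₂

variable (U) in
/-- The unit `X ⟶ G₀ X`. -/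
noncomputable def ζ (X : Sheaf J (Type u)) : X ⟶ (G₀ U).obj X :=
  ObjectProperty.homMk (toPf U.obj X.obj ≫ ts ((Pf U.obj).obj X.obj))

lemma ζ_naturality {X X' : Sheaf J (Type u)} (m : X' ⟶ X) :
    ζ U X' ≫ (G₀ U).map m = m ≫ ζ U X := by
  apply Sheaf.hom_ext
  show (toPf U.obj X'.obj ≫ ts ((Pf U.obj).obj X'.obj)) ≫
    ((presheafToSheaf J (Type u)).map ((Pf U.obj).map m.hom)).hom =
    m.hom ≫ toPf U.obj X.obj ≫ ts ((Pf U.obj).obj X.obj)
  rw [Category.assoc, ← ts_naturality, ← Category.assoc, toPf_naturality, Category.assoc]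

/-- The extension of `f : X ⟶ Y` to `G₀ X`, for `Y` in the closed complement. -/
noncomputable def liftG {X Y : Sheaf J (Type u)} (hY : SGA4.closedCompl U Y) (f : X ⟶ Y) :
    (G₀ U).obj X ⟶ Y :=
  sheafLift (extPf f.hom (fromU hY).hom (subsingleton_of_closedCompl hY))

lemma ζ_liftG {X Y : Sheaf J (Type u)} (hY : SGA4.closedCompl U Y) (f : X ⟶ Y) :
    ζ U X ≫ liftG hY f = f := by
  apply Sheaf.hom_ext
  show (toPf U.obj X.obj ≫ ts ((Pf U.obj).obj X.obj)) ≫
    (sheafLift (extPf f.hom (fromU hY).hom (subsingleton_of_closedCompl hY))).hom = f.hom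
  rw [Category.assoc, ts_sheafLift, toPf_extPf]

lemma G₀_hom_ext {X Y : Sheaf J (Type u)} (hY : SGA4.closedCompl U Y)
    {g g' : (G₀ U).obj X ⟶ Y} (h : ζ U X ≫ g = ζ U X ≫ g') : g = g' := by
  have h' : (toPf U.obj X.obj ≫ ts ((Pf U.obj).obj X.obj)) ≫ g.hom =
      (toPf U.obj X.obj ≫ ts ((Pf U.obj).obj X.obj)) ≫ g'.hom := congrArg (fun t => t.hom) h
  rw [Category.assoc, Category.assoc] at h'
  exact sheafify_ext (Pf_hom_ext (subsingleton_of_closedCompl hY) h')

variable (U) in
/-- The reflector to the closed complement. -/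
noncomputable def L₀ : Sheaf J (Type u) ⥤ (SGA4.closedCompl U).FullSubcategory :=
  (SGA4.closedCompl U).lift (G₀ U) G₀_mem

variable (U) in
/-- The reflector is left adjoint to the inclusion. -/
noncomputable def adj₀ : L₀ U ⊣ (SGA4.closedCompl U).ι :=
  Adjunction.mkOfHomEquiv
    { homEquiv := fun X Y =>
        { toFun := fun g => ζ U X ≫ g.hom
          invFun := fun f => ObjectProperty.homMk (liftG Y.property f)
          left_inv := fun g => by
            apply ObjectProperty.hom_ext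
            apply G₀_hom_ext Y.property
            exact ζ_liftG Y.property _
          right_inv := fun f => ζ_liftG Y.property f }
      homEquiv_naturality_left_symm := by
        intro X' X Y m f
        apply ObjectProperty.hom_ext
        apply G₀_hom_ext Y.property
        show ζ U X' ≫ liftG Y.property (m ≫ f) = ζ U X' ≫ (G₀ U).map m ≫ liftG Y.property f
        rw [ζ_liftG, ← Category.assoc, ζ_naturality, Category.assoc, ζ_liftG]
      homEquiv_naturality_right := by
        intro X Y Y' g k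
        show ζ U X ≫ g.hom ≫ k.hom = (ζ U X ≫ g.hom) ≫ k.hom
        rw [Category.assoc] }

instance : PreservesFiniteLimits (L₀ U) where
  preservesFiniteLimits K _ _ := by
    haveI : PreservesLimitsOfShape K (L₀ U ⋙ (SGA4.closedCompl U).ι) :=
      (inferInstance : PreservesLimitsOfShape K (G₀ U))
    exact preservesLimitsOfShape_of_reflects_of_preserves (L₀ U) (SGA4.closedCompl U).ι

/-- Any left adjoint of the inclusion of the closed complement is left exact. -/
lemma preservesFiniteLimits_of_adj {L : Sheaf J (Type u) ⥤ (SGA4.closedCompl U).FullSubcategory}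
    (adj : L ⊣ (SGA4.closedCompl U).ι) : PreservesFiniteLimits L :=
  preservesFiniteLimits_of_natIso ((adj₀ U).leftAdjointUniq adj)

end sheaf

end Groth.Agent.H30.ClosedRefl
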