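import Groth.Agent.H30.Cop
import Mathlib.CategoryTheory.Sites.Subcanonical
import Mathlib.CategoryTheory.Limits.VanKampen

/-!
# Coproducts and the canonical topology
-/

set_option autoImplicit false
universe w w' u v₁ u₁

namespace Groth.Agent.H30.Cop

open CategoryTheory Limits Opposite
open Groth.Agent.H30.TFin

section general

variable {𝒞 : Type u₁} [Category.{v₁} 𝒞]

lemma nonempty_isColimit_of_isUniversal {ι : Type w} {A : 𝒞} {F : ι → 𝒞} {f : ∀ i, F i ⟶ A}
    (hu : IsUniversalColimit (Cofan.mk A f)) {A' : 𝒞} (g : A' ⟶ A) (P : ι → 𝒞)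
    (q : ∀ i, P i ⟶ F i) (p : ∀ i, P i ⟶ A') (hP : ∀ i, IsPullback (p i) (q i) g (f i)) :
    Nonempty (IsColimit (Cofan.mk A' p)) :=
  hu (Cofan.mk A' p) (Discrete.natTrans fun i => q i.as) g
    (by ext ⟨i⟩; simp [(hP i).w]) (.of_discrete _) (fun ⟨i⟩ => hP i)

/-- If `T` maps compatibly to two distinct summands of a universal coproduct, then `T` has at
most one map to any object. -/
lemma hom_eq_of_universal {ι : Type w} {X : 𝒞} {Y : ι → 𝒞} {s : ∀ i, Y i ⟶ X}
    [∀ (i : ι) (Z : 𝒞) (g : Z ⟶ X), HasPullback (s i) g]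
    (hu : IsUniversalColimit (Cofan.mk X s)) {i j : ι} (hij : i ≠ j) {T : 𝒞}
    (ti : T ⟶ Y i) (tj : T ⟶ Y j) (h : ti ≫ s i = tj ≫ s j) {V : 𝒞} (u v : T ⟶ V) :
    u = v := by
  classical
  obtain ⟨g, hg⟩ : ∃ g : T ⟶ X, g = ti ≫ s i := ⟨_, rfl⟩
  obtain ⟨hc⟩ := nonempty_isColimit_of_isUniversal hu g (fun k => pullback (s k) g)
    (fun k => pullback.fst _ _) (fun k => pullback.snd _ _)
    (fun k => (IsPullback.of_hasPullback (s k) g).flip)
  let x : ∀ k, pullback (s k) g ⟶ V := fun k =>
    if k = j then pullback.snd _ _ ≫ v else pullback.snd _ _ ≫ u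
  have hd : ∀ k, pullback.snd (s k) g ≫ Cofan.IsColimit.desc hc x = x k :=
    fun k => Cofan.IsColimit.fac hc x k
  have h1 : Cofan.IsColimit.desc hc x = u := by
    have e := hd i
    simp only [x, if_neg hij] at e
    have σ : pullback.lift ti (𝟙 T) (by rw [hg, Category.id_comp]) ≫ pullback.snd (s i) g = 𝟙 T :=
      pullback.lift_snd _ _ _
    have := congrArg (fun t => pullback.lift ti (𝟙 T) (by rw [hg, Category.id_comp]) ≫ t) e
    simpa only [reassoc_of% σ] using this
  have h2 : Cofan.IsColimit.desc hc x = v := by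
    have e := hd j
    simp only [x, if_pos] at e
    have σ : pullback.lift tj (𝟙 T) (by rw [hg, Category.id_comp, h]) ≫
        pullback.snd (s j) g = 𝟙 T := pullback.lift_snd _ _ _
    have := congrArg (fun t => pullback.lift tj (𝟙 T) (by rw [hg, Category.id_comp, h]) ≫ t) e
    simpa only [reassoc_of% σ] using this
  exact h1.symm.trans h2

end general

section canonical

variable {C : Type u} [SmallCategory C]

/-- A universal coproduct cofan is covering for the canonical topology. -/
lemma ofArrows_mem_canonical {X : C} {ι : Type w} {Y : ι → C} {s : ∀ i, Y i ⟶ X}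
    [∀ (i : ι) (Z : C) (g : Z ⟶ X), HasPullback (s i) g]
    (hu : IsUniversalColimit (Cofan.mk X s)) :
    Sieve.ofArrows Y s ∈ Sheaf.canonicalTopology C X := by
  apply Sheaf.mem_finestTopology_of_forall_isSheafFor
  rintro _ ⟨V, rfl⟩ X' g
  rw [← Sieve.ofArrows_eq_pullback_of_isPullback s
    (fun i => (IsPullback.of_hasPullback (s i) g).flip)]
  obtain ⟨hc⟩ := nonempty_isColimit_of_isUniversal hu g _ _ _
    (fun i => (IsPullback.of_hasPullback (s i) g).flip)
  show Presieve.IsSheafFor _ (Sieve.generate (Presieve.ofArrows _ _)).arrows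
  rw [← Presieve.isSheafFor_iff_generate, Presieve.isSheafFor_arrows_iff]
  intro x _
  exact ⟨Cofan.IsColimit.desc hc x, fun i => Cofan.IsColimit.fac hc x i,
    fun t ht => Cofan.IsColimit.hom_ext hc _ _
      (fun i => (ht i).trans (Cofan.IsColimit.fac hc x i).symm)⟩

/-- The intersection of two distinct summands of a disjoint universal coproduct is covered by
the empty sieve in the canonical topology. -/
lemma bot_mem_canonical {X : C} {ι : Type w} {Y : ι → C} {s : ∀ i, Y i ⟶ X}
    [∀ (i : ι) (Z : C) (g : Z ⟶ X), HasPullback (s i) g]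
    (hu : IsUniversalColimit (Cofan.mk X s)) {i j : ι} (hij : i ≠ j)
    (I0 : IsInitial (pullback (s i) (s j))) :
    (⊥ : Sieve (pullback (s i) (s j))) ∈ Sheaf.canonicalTopology C (pullback (s i) (s j)) := by
  apply Sheaf.mem_finestTopology_of_forall_isSheafFor
  rintro _ ⟨V, rfl⟩ T k
  have hbot : ((⊥ : Sieve (pullback (s i) (s j))).pullback k) = ⊥ := by
    ext Z l
    simp
  rw [hbot]
  intro x _
  refine ⟨k ≫ I0.to V, ?_, ?_⟩
  · intro Z l hl
    exact False.elim hl
  · intro t _
    exact hom_eq_of_universal hu hij (k ≫ pullback.fst _ _) (k ≫ pullback.snd _ _)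
      (by rw [Category.assoc, Category.assoc, pullback.condition]) _ _

variable (J : GrothendieckTopology C) [J.Subcanonical]

/-- For a subcanonical topology, the sheafified Yoneda embedding is the Yoneda embedding. -/
noncomputable def epsIso : yoneda ⋙ presheafToSheaf J (Type u) ≅ J.yoneda :=
  Functor.isoWhiskerRight J.yonedaCompSheafToPresheaf.symm (presheafToSheaf J (Type u)) ≪≫
    Functor.associator _ _ _ ≪≫
    Functor.isoWhiskerLeft J.yoneda (asIso (sheafificationAdjunction J (Type u)).counit) ≪≫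
    Functor.rightUnitor _

instance : (yoneda ⋙ presheafToSheaf J (Type u)).Full := Functor.Full.of_iso (epsIso J).symm

instance : (yoneda ⋙ presheafToSheaf J (Type u)).Faithful :=
  Functor.Faithful.of_iso (epsIso J).symm

/-- The canonical functor to sheaves. -/
noncomputable abbrev E : C ⥤ Sheaf J (Type u) := yoneda ⋙ presheafToSheaf J (Type u)

lemma reflect_cofan {ι : Type w} {A' : C} {P : ι → C} (p : ∀ i, P i ⟶ A')
    (h : Nonempty (IsColimit (Cofan.mk ((E J).obj A') (fun i => (E J).map (p i))))) :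
    Nonempty (IsColimit (Cofan.mk A' p)) := by
  obtain ⟨h⟩ := h
  exact ⟨isColimitOfReflects (E J) ((Cofan.isColimitMapCoconeEquiv (E J) P (Cofan.mk A' p)).symm h)⟩

theorem disjoint_universal_of_sheafify {X : C} {ι : Type u} (Y : ι → C) (s : ∀ i, Y i ⟶ X)
    [∀ (i : ι) (Z : C) (g : Z ⟶ X), HasPullback (s i) g]
    (hε : Nonempty (IsColimit (Cofan.mk ((presheafToSheaf J (Type u)).obj (yoneda.obj X))
      (fun i => (presheafToSheaf J (Type u)).map (yoneda.map (s i)))))) :
    Nonempty (IsColimit (Cofan.mk X s)) ∧ CoproductDisjoint Y ∧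
      IsUniversalColimit (Cofan.mk X s) := by
  obtain ⟨hje, hmono, hdisj⟩ := (nonempty_isColimit_cofan_iff_sheaf _).1 hε
  obtain ⟨hc⟩ := reflect_cofan J s hε
  refine ⟨⟨hc⟩, ?_, ?_⟩
  · have hm : ∀ i, Mono (s i) := fun i => (E J).mono_of_mono_map (hmono i)
    have hI : ∀ i j, i ≠ j → Nonempty (IsInitial (pullback (s i) (s j))) := fun i j hij => by
      obtain ⟨I0⟩ := hdisj i j hij
      have I1 : IsInitial ((E J).obj (pullback (s i) (s j))) :=
        I0.ofIso (PreservesPullback.iso (E J) (s i) (s j)).symm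
      exact ⟨IsInitial.ofUniqueHom (fun T => (E J).preimage (I1.to ((E J).obj T)))
        (fun T m => (E J).map_injective (I1.hom_ext _ _))⟩
    haveI : ∀ i, Mono ((Cofan.mk X s).inj i) := hm
    exact CoproductDisjoint.of_cofan hc (fun {i j} _ => pullback.cone (s i) (s j))
      (fun {i j} _ => pullback.isLimit (s i) (s j)) (fun {i j} hij => (hI i j hij).some)
  · exact isUniversalColimit_cofan_of s (fun g P q p hP => by
      apply reflect_cofan J
      exact nonempty_isColimit_of_isPullback hε ((E J).map g) (fun i => (E J).obj (P i))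
        (fun i => (E J).map (q i)) (fun i => (E J).map (p i)) (fun i => (hP i).map (E J)))

theorem sheafify_of_disjoint_universal {X : C} {ι : Type u} (Y : ι → C) (s : ∀ i, Y i ⟶ X)
    [∀ (i : ι) (Z : C) (g : Z ⟶ X), HasPullback (s i) g]
    (hc : IsColimit (Cofan.mk X s)) [CoproductDisjoint Y]
    (hu : IsUniversalColimit (Cofan.mk X s)) :
    Nonempty (IsColimit (Cofan.mk
      ((presheafToSheaf (Sheaf.canonicalTopology C) (Type u)).obj (yoneda.obj X))
      (fun i => (presheafToSheaf (Sheaf.canonicalTopology C) (Type u)).map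
        (yoneda.map (s i))))) := by
  have hm : ∀ i, Mono (s i) := fun i => CoproductDisjoint.mono_inj hc i
  refine (cofan_sheafify_yoneda_iff (Sheaf.canonicalTopology C) Y s).1
    ⟨ofArrows_mem_canonical hu, fun i => ?_, fun i j hij => ?_⟩
  · haveI := hm i
    infer_instance
  · have I0 : IsInitial (pullback (s i) (s j)) :=
      IsInitial.ofCoproductDisjointOfIsColimit hij hc
    have hb := bot_mem_canonical hu hij I0
    have I1 := isInitialSheafifyYoneda (Sheaf.canonicalTopology C) _ hb
    exact ⟨I1.ofIso ((presheafToSheaf (Sheaf.canonicalTopology C) (Type u)).mapIso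
      (PreservesPullback.iso yoneda (s i) (s j)))⟩

end canonical

end Groth.Agent.H30.Cop
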