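import Mathlib

/-!
# Extending derivations along formally étale algebras (helper30)
-/

set_option autoImplicit false
set_option linter.style.haveILetI false
set_option linter.unusedSectionVars false
set_option linter.unusedVariables false
universe u
open TensorProduct

namespace Groth.Agent.H30.DerEt

variable {A B : Type u} [CommRing A] [CommRing B] [Algebra A B]

/-- the extension of a derivation of `A` to a formally étale `A`-algebra. -/
noncomputable def extDer [Algebra.FormallyEtale A B] (θ : Derivation ℤ A A) : Derivation ℤ B B :=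
  ((((Algebra.linearMap A B).comp θ.liftKaehlerDifferential).liftBaseChange B).comp
    (KaehlerDifferential.tensorKaehlerEquivOfFormallyEtale ℤ A B).symm.toLinearMap).compDer
    (KaehlerDifferential.D ℤ B)

lemma extDer_algebraMap [Algebra.FormallyEtale A B] (θ : Derivation ℤ A A) (a : A) :
    extDer (B := B) θ (algebraMap A B a) = algebraMap A B (θ a) := by
  show (((Algebra.linearMap A B).comp θ.liftKaehlerDifferential).liftBaseChange B)
    ((KaehlerDifferential.tensorKaehlerEquivOfFormallyEtale ℤ A B).symm
      (KaehlerDifferential.D ℤ B (algebraMap A B a))) = _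
  rw [KaehlerDifferential.tensorKaehlerEquivOfFormallyEtale_symm_D_algebraMap,
    LinearMap.liftBaseChange_tmul, one_smul]
  simp

/-- Two "derivations along `ρ`" out of a formally unramified `A`-algebra which agree on `A`
are equal. -/
lemma eq_of_unramified [Algebra.FormallyUnramified A B] {C : Type u} [CommRing C] (ρ : B →+* C)
    (d₁ d₂ : B →+ C) (h₁ : ∀ x y, d₁ (x * y) = ρ x * d₁ y + ρ y * d₁ x)
    (h₂ : ∀ x y, d₂ (x * y) = ρ x * d₂ y + ρ y * d₂ x)
    (h : ∀ a, d₁ (algebraMap A B a) = d₂ (algebraMap A B a)) : d₁ = d₂ := by
  letI : Algebra B C := ρ.toAlgebra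
  letI : Algebra A C := (ρ.comp (algebraMap A B)).toAlgebra
  haveI : IsScalarTower A B C := IsScalarTower.of_algebraMap_eq (fun _ => rfl)
  obtain ⟨e0, he0⟩ : ∃ e0 : B →+ C, ∀ b, e0 b = d₁ b - d₂ b := ⟨d₁ - d₂, fun _ => rfl⟩
  have he : ∀ x y, e0 (x * y) = ρ x * e0 y + ρ y * e0 x := by
    intro x y
    simp only [he0, h₁, h₂]
    ring
  have h0 : ∀ a, e0 (algebraMap A B a) = 0 := by
    intro a
    rw [he0, h a, sub_self]
  have h1 : e0 1 = 0 := by
    have := he 1 1
    simp only [mul_one, map_one, one_mul] at this
    have h2 : e0 1 + e0 1 = e0 1 + 0 := by rw [add_zero]; exact this.symm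
    exact add_left_cancel h2
  let e : Derivation A B C :=
    { toFun := fun b => e0 b
      map_add' := fun x y => map_add e0 x y
      map_smul' := by
        intro a b
        simp only [RingHom.id_apply]
        rw [Algebra.smul_def, he, h0, mul_zero, add_zero, Algebra.smul_def]
        rfl
      map_one_eq_zero' := h1
      leibniz' := by
        intro x y
        show e0 (x * y) = x • e0 y + y • e0 x
        rw [he, Algebra.smul_def, Algebra.smul_def]
        rfl }
  apply AddMonoidHom.ext
  intro b
  have hb : e0 b = 0 := by
    have h3 := Derivation.liftKaehlerDifferential_comp_D e b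
    rw [Subsingleton.elim (KaehlerDifferential.D A B b) 0, map_zero] at h3
    exact h3.symm
  rw [he0, sub_eq_zero] at hb
  exact hb

end Groth.Agent.H30.DerEt
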