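import Groth.Agent.H30.DerEt
import Groth.Prelude.Def_Coh

/-!
# A derivation of `A` acts on `H^i(V, O_V)` for `V` étale over `Spec A` (helper30)
-/

set_option autoImplicit false
set_option linter.style.haveILetI false
set_option linter.unusedSectionVars false
set_option linter.unusedVariables false
universe u
open CategoryTheory AlgebraicGeometry TopologicalSpace Opposite

namespace Groth.Agent.H30.DerEtSch

open Groth.Agent.H30.DerEt

variable {A : Type u} [CommRing A] {V : Scheme.{u}} (f : V ⟶ Spec (CommRingCat.of A))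

/-- the structure map to sections over `W`. -/
noncomputable def φW (W : V.Opens) : A →+* Γ(V, W) :=
  (f.appLE ⊤ W le_top).hom.comp (Scheme.ΓSpecIso (CommRingCat.of A)).inv.hom

lemma res_φW {W W' : V.Opens} (h : W' ≤ W) (a : A) :
    (V.presheaf.map (homOfLE h).op).hom (φW f W a) = φW f W' a := by
  have := f.appLE_map (U := ⊤) (V := W) (V' := W') le_top (homOfLE h).op
  exact congr($this ((Scheme.ΓSpecIso (CommRingCat.of A)).inv.hom a))

lemma φW_etale [Etale f] (W : V.Opens) (hW : IsAffineOpen W) : (φW f W).Etale := by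
  have h1 := Etale.etale_appLE f (isAffineOpen_top (Spec (CommRingCat.of A))) hW le_top
  refine RingHom.Etale.stableUnderComposition _ _ (RingHom.Etale.of_bijective ?_) h1
  exact (ConcreteCategory.bijective_of_isIso (Scheme.ΓSpecIso (CommRingCat.of A)).inv)

variable [Etale f] (θ : Derivation ℤ A A)

/-- the extension of `θ` to sections over an affine open. -/
noncomputable def DW (W : V.Opens) (hW : IsAffineOpen W) : Γ(V, W) →+ Γ(V, W) :=
  letI := (φW f W).toAlgebra
  haveI : Algebra.Etale A Γ(V, W) := (φW_etale f W hW).toAlgebra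
  (extDer (B := Γ(V, W)) θ).toLinearMap.toAddMonoidHom

lemma DW_mul (W : V.Opens) (hW : IsAffineOpen W) (x y : Γ(V, W)) :
    DW f θ W hW (x * y) = x * DW f θ W hW y + y * DW f θ W hW x := by
  letI := (φW f W).toAlgebra
  haveI : Algebra.Etale A Γ(V, W) := (φW_etale f W hW).toAlgebra
  exact (extDer (B := Γ(V, W)) θ).leibniz x y

lemma DW_φW (W : V.Opens) (hW : IsAffineOpen W) (a : A) :
    DW f θ W hW (φW f W a) = φW f W (θ a) := by
  letI := (φW f W).toAlgebra
  haveI : Algebra.Etale A Γ(V, W) := (φW_etale f W hW).toAlgebra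
  exact extDer_algebraMap (B := Γ(V, W)) θ a

lemma DW_res {W W' : V.Opens} (h : W' ≤ W) (hW : IsAffineOpen W) (hW' : IsAffineOpen W')
    (x : Γ(V, W)) :
    DW f θ W' hW' ((V.presheaf.map (homOfLE h).op).hom x) =
      (V.presheaf.map (homOfLE h).op).hom (DW f θ W hW x) := by
  letI := (φW f W).toAlgebra
  haveI : Algebra.Etale A Γ(V, W) := (φW_etale f W hW).toAlgebra
  have key := eq_of_unramified (A := A) (B := Γ(V, W)) (V.presheaf.map (homOfLE h).op).hom
    ((DW f θ W' hW').comp (V.presheaf.map (homOfLE h).op).hom.toAddMonoidHom)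
    ((V.presheaf.map (homOfLE h).op).hom.toAddMonoidHom.comp (DW f θ W hW))
    (fun x y => by
      simp only [AddMonoidHom.comp_apply, RingHom.toAddMonoidHom_eq_coe, AddMonoidHom.coe_coe,
        map_mul, DW_mul])
    (fun x y => by
      simp only [AddMonoidHom.comp_apply, RingHom.toAddMonoidHom_eq_coe, AddMonoidHom.coe_coe,
        map_mul, map_add, DW_mul])
    (fun a => by
      show DW f θ W' hW' ((V.presheaf.map (homOfLE h).op).hom (φW f W a)) =
        (V.presheaf.map (homOfLE h).op).hom (DW f θ W hW (φW f W a))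
      rw [res_φW, DW_φW, DW_φW, res_φW])
  exact congrArg (fun d : Γ(V, W) →+ Γ(V, W') => d x) key

section sheaf

/-- the underlying abelian presheaf of the structure sheaf. -/
noncomputable abbrev F (V : Scheme.{u}) : (Opens V)ᵒᵖ ⥤ AddCommGrpCat.{u} :=
  (Coh.toAb (Coh.structureModule V)).obj

/-- sections of the underlying abelian sheaf of `O_V`, as elements of the ring of functions. -/
noncomputable def toR (W : V.Opens) : (F V).obj (op W) ≃+ Γ(V, W) := AddEquiv.refl _

lemma toR_map {W W' : V.Opens} (h : W' ≤ W) (x : (F V).obj (op W)) :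
    toR W' ((F V).map (homOfLE h).op x) = (V.presheaf.map (homOfLE h).op).hom (toR W x) := rfl

/-- the family of affine opens. -/
abbrev Baff (V : Scheme.{u}) : V.affineOpens → Opens V := fun W => W.1

lemma isBasis_Baff : Opens.IsBasis (Set.range (Baff V)) := by
  have : Set.range (Baff V) = V.affineOpens := by
    ext W
    simp
  rw [this]
  exact V.isBasis_affineOpens

/-- `θ` on sections of the underlying abelian presheaf over an affine open. -/
noncomputable def Dsec (W : V.affineOpens) : (F V).obj (op W.1) →+ (F V).obj (op W.1) :=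
  ((toR W.1).symm.toAddMonoidHom.comp (DW f θ W.1 W.2)).comp (toR W.1).toAddMonoidHom

lemma toR_Dsec (W : V.affineOpens) (x : (F V).obj (op W.1)) :
    toR W.1 (Dsec f θ W x) = DW f θ W.1 W.2 (toR W.1 x) := rfl

/-- the extension of `θ` on the basis of affine opens. -/
noncomputable def α : (inducedFunctor (Baff V)).op ⋙ F V ⟶ (inducedFunctor (Baff V)).op ⋙ F V where
  app W := AddCommGrpCat.ofHom (Dsec f θ W.unop)
  naturality W W' g := by
    ext x
    apply (toR W'.unop.1).injective
    have hle : W'.unop.1 ≤ W.unop.1 := leOfHom g.unop.hom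
    have h1 := DW_res f θ hle W.unop.2 W'.unop.2 (toR W.unop.1 x)
    exact h1

/-- the extension of `θ` to an endomorphism of the abelian sheaf `O_V`. -/
noncomputable def Dsh : Coh.toAb (Coh.structureModule V) ⟶ Coh.toAb (Coh.structureModule V) :=
  ⟨TopCat.Sheaf.restrictHomEquivHom (F V) (Coh.toAb (Coh.structureModule V)) isBasis_Baff (α f θ)⟩

lemma Dsh_app (W : V.affineOpens) (x : (F V).obj (op W.1)) :
    (Dsh f θ).hom.app (op W.1) x = Dsec f θ W x := by
  have := TopCat.Sheaf.extend_hom_app (F V) (Coh.toAb (Coh.structureModule V)) isBasis_Baff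
    (α f θ) W
  exact congr($this x)

lemma toR_smulAb (W : V.Opens) (a : A) (x : (F V).obj (op W)) :
    toR W ((Coh.smulAb (Coh.structureModule V) (Coh.toGlobal f a)).hom.app (op W) x) =
      φW f W a * toR W x := by
  rw [Coh.smulAb_app]
  rfl

lemma leibniz_sh (a : A) :
    Coh.smulAb (Coh.structureModule V) (Coh.toGlobal f a) ≫ Dsh f θ =
      Coh.smulAb (Coh.structureModule V) (Coh.toGlobal f (θ a)) +
        Dsh f θ ≫ Coh.smulAb (Coh.structureModule V) (Coh.toGlobal f a) := by
  apply Sheaf.hom_ext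
  apply TopCat.Sheaf.hom_ext (F V) (Coh.toAb (Coh.structureModule V)) isBasis_Baff
  intro W
  ext x
  apply (toR W.1).injective
  show toR W.1 ((Dsh f θ).hom.app (op W.1)
      ((Coh.smulAb (Coh.structureModule V) (Coh.toGlobal f a)).hom.app (op W.1) x)) =
    toR W.1 ((Coh.smulAb (Coh.structureModule V) (Coh.toGlobal f (θ a))).hom.app (op W.1) x +
      (Coh.smulAb (Coh.structureModule V) (Coh.toGlobal f a)).hom.app (op W.1)
        ((Dsh f θ).hom.app (op W.1) x))
  rw [map_add, toR_smulAb, toR_smulAb, Dsh_app, Dsh_app, toR_Dsec, toR_Dsec, toR_smulAb,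
    DW_mul, DW_φW]
  ring

theorem exists_D (i : ℕ) :
    ∃ D : Coh.HH V (Coh.structureModule V) i →+ Coh.HH V (Coh.structureModule V) i,
      ∀ (a : A) (ξ : Coh.HH V (Coh.structureModule V) i),
        D (Sheaf.H.map (Coh.smulAb (Coh.structureModule V) (Coh.toGlobal f a)) i ξ) =
          Sheaf.H.map (Coh.smulAb (Coh.structureModule V) (Coh.toGlobal f (θ a))) i ξ +
            Sheaf.H.map (Coh.smulAb (Coh.structureModule V) (Coh.toGlobal f a)) i (D ξ) := by
  refine ⟨Sheaf.H.map (Dsh f θ) i, fun a ξ => ?_⟩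
  rw [← Sheaf.H.map_comp_apply, leibniz_sh, Sheaf.H.map_add_apply, Sheaf.H.map_comp_apply]

end sheaf

end Groth.Agent.H30.DerEtSch
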