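import Mathlib
import Groth.Prelude
import Groth.Agent.H8.DevPw

set_option autoImplicit false
set_option linter.style.haveILetI false
universe u
open CategoryTheory CategoryTheory.Limits AlgebraicGeometry TopologicalSpace Opposite
open scoped ZeroObject
open Coherent Groth.Agent.H8.Dev

namespace Groth.Agent.H30.Dev3PWJ
variable {X : Scheme.{u}}

theorem PWJ_aux (J : X.IdealSheafData) (G G' : X.Modules) (ι' : G' ⟶ (Dual3.idealMul J).obj G) [Mono ι']
    (s : ℕ) : ∃ κ : pw G' s ⟶ (Dual3.idealMul J).obj (pw G s),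
      Mono (κ ≫ Dual3.idealMulι J (pw G s)) := by
  induction s with
  | zero =>
    refine ⟨0, ?_⟩
    constructor
    intro Z a b _
    exact (isZero_zero X.Modules).eq_of_tgt a b
  | succ s ih =>
    obtain ⟨κ, hκ⟩ := ih
    haveI := hκ
    let κ' : G' ⊞ pw G' s ⟶ (Dual3.idealMul J).obj (G ⊞ pw G s) :=
      biprod.desc (ι' ≫ (Dual3.idealMul J).map biprod.inl)
        (κ ≫ (Dual3.idealMul J).map biprod.inr)
    refine ⟨κ', ?_⟩
    have hcomp : κ' ≫ Dual3.idealMulι J (G ⊞ pw G s) =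
        biprod.map (ι' ≫ Dual3.idealMulι J G) (κ ≫ Dual3.idealMulι J (pw G s)) := by
      apply biprod.hom_ext'
      · simp only [κ', biprod.inl_desc_assoc, Category.assoc, Dual3.idealMul_map_ι, biprod.inl_map]
      · simp only [κ', biprod.inr_desc_assoc, Category.assoc, Dual3.idealMul_map_ι, biprod.inr_map]
    show Mono (κ' ≫ Dual3.idealMulι J (G ⊞ pw G s))
    rw [hcomp]
    haveI : Mono (ι' ≫ Dual3.idealMulι J G) := mono_comp _ _
    infer_instance

theorem PWJ (J : X.IdealSheafData) (G G' : X.Modules) (ι' : G' ⟶ (Dual3.idealMul J).obj G) [Mono ι']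
    (s : ℕ) : ∃ κ : pw G' s ⟶ (Dual3.idealMul J).obj (pw G s), Mono κ := by
  obtain ⟨κ, hκ⟩ := PWJ_aux J G G' ι' s
  haveI := hκ
  exact ⟨κ, mono_of_mono κ (Dual3.idealMulι J (pw G s))⟩

end Groth.Agent.H30.Dev3PWJ
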