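import Mathlib
import Groth.Prelude
import Groth.Agent.H8.DevMain2
import Groth.Agent.H8.DevIS
import Groth.Agent.H9.Dev_TF
import Groth.Agent.H60.Dev_PW
import Groth.Agent.H8.DevAR
import Groth.Agent.H30.Dev3PWJ

/-!
# Generic step of the coherent dévissage with extension-closed properties (S9522)
-/

set_option autoImplicit false
set_option linter.style.haveILetI false
universe u
open CategoryTheory CategoryTheory.Limits AlgebraicGeometry TopologicalSpace Opposite
open scoped ZeroObject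
open Coherent Groth.Agent.H8.Dev

namespace Groth.Agent.H30.Dev3
variable {X : Scheme.{u}}

open Groth.Agent.H30.Dev3PWJ

/-- A quasi-coherent subobject of a coherent module on a locally Noetherian scheme is coherent. -/
theorem isCoh_of_mono [IsLocallyNoetherian X] {F G : X.Modules}
    [hq : F.IsQuasicoherent] (hG : Coh.IsCoh G) (φ : F ⟶ G) [Mono φ] : Coh.IsCoh F := by
  refine ⟨hq, ?_⟩
  apply Groth.Agent.H8.isFiniteType_of_forall_affine_finite
  intro U
  haveI : IsNoetherianRing Γ(X, (U : X.Opens)) := IsLocallyNoetherian.component_noetherian U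
  haveI : Module.Finite Γ(X, (U : X.Opens)) Γ(G, (U : X.Opens)) :=
    Groth.Agent.H8.finite_sections_of_isCoh G hG U.2
  haveI : IsNoetherian Γ(X, (U : X.Opens)) Γ(G, (U : X.Opens)) :=
    isNoetherian_of_isNoetherianRing_of_finite _ _
  exact Module.Finite.of_injective (Groth.Agent.H8.appₗ φ (U : X.Opens))
    (Groth.Agent.H8.appₗ_injective_of_mono φ (U : X.Opens))

/-- extension-only version of `K_pw`. -/
theorem P_pw [IsLocallyNoetherian X] (P : X.Modules → Prop)
    (h₀ : ∀ M : X.Modules, IsZero M → P M)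
    (h₁ : ∀ S : ShortComplex X.Modules, S.ShortExact → Coh.IsCoh S.X₁ → Coh.IsCoh S.X₂ →
      Coh.IsCoh S.X₃ → P S.X₁ → P S.X₃ → P S.X₂)
    {G : X.Modules} (hG : Coh.IsCoh G) (hK : P G) (n : ℕ) : P (pw G n) := by
  induction n with
  | zero => exact h₀ _ (isZero_zero _)
  | succ n ih =>
    let S : ShortComplex X.Modules :=
      ShortComplex.mk (biprod.inl : G ⟶ G ⊞ pw G n) biprod.snd (by simp)
    have hS : S.ShortExact := (ShortComplex.Splitting.ofHasBinaryBiproduct G (pw G n)).shortExact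
    exact h₁ S hS hG (isCoh_biprod hG (isCoh_pw hG n)) (isCoh_pw hG n) hK ih

/-- the inclusion `I^e M ⟶ M` restricts to an isomorphism over the complement of `V(I)`. -/
theorem isIso_restrict_idealMulι (I : X.IdealSheafData) (e : ℕ) (M : X.Modules) [M.IsQuasicoherent]
    (U : X.Opens) (hU : (U : Set X) = (I.support : Set X)ᶜ) :
    IsIso ((Scheme.Modules.restrictFunctor U.ι).map (Dual3.idealMulι (I ^ e) M)) := by
  apply Groth.Agent.H8.isIso_restrict_of_stalks
  · intro y _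
    exact Groth.Agent.H8.subsingleton_stalk_of_isZero _ (isZero_kernel_of_mono _) y
  · intro y hy
    have hy' : y ∉ I.support := by
      intro h
      have h1 : y ∈ (U : Set X) := hy
      rw [hU] at h1
      exact h1 h
    exact KC I _ e (Groth.Agent.H31.Dev_B.killed_cokernel (I ^ e) M) y hy'

theorem generic_step (X : Scheme.{u}) [IsNoetherian X]
    (Z₀ : Set X) (hZ₀ : IsClosed Z₀) (ξ : X) (hξ : ξ ∈ Z₀ ∧ closure {ξ} = Z₀)
    (P : X.Modules → Prop) (hP : ∀ M N : X.Modules, Nonempty (M ≅ N) → P M → P N)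
    (h₀ : ∀ M : X.Modules, IsZero M → P M)
    (h₁ : ∀ S : ShortComplex X.Modules, S.ShortExact → Coh.IsCoh S.X₁ → Coh.IsCoh S.X₂ → Coh.IsCoh S.X₃ →
      P S.X₁ → P S.X₃ → P S.X₂)
    (h₂ : ∀ (F : X.Modules) (r : ℕ), Coh.IsCoh F → 1 ≤ r → P (∐ fun _ : Fin r => F) → P F)
    (small : ∀ N : X.Modules, Coh.IsCoh N → CohB1.support N ⊆ Z₀ →
      Subsingleton ↑(N.presheaf.stalk ξ) → P N)
    (h₄ : ∃ G : X.Modules, Coh.IsCoh G ∧ CohB1.support G = Z₀ ∧
      (∀ a ∈ IsLocalRing.maximalIdeal (X.presheaf.stalk ξ), ∀ m : ↑(G.presheaf.stalk ξ), a • m = 0) ∧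
      ∀ J : X.IdealSheafData, ξ ∉ (J.support : Set X) →
        ∃ (G' : X.Modules) (ι' : G' ⟶ (Dual3.idealMul J).obj G), Mono ι' ∧ Coh.IsQCoh G' ∧
          IsIso ((TopCat.Presheaf.stalkFunctor _ ξ).map (ι' ≫ Dual3.idealMulι J G).mapPresheaf) ∧ P G')
    (F : X.Modules) (hF : Coh.IsCoh F) (hsupp : CohB1.support F ⊆ Z₀) : P F := by
  obtain ⟨G, hG, hGs, hGk, hG4⟩ := h₄
  refine Groth.Agent.H31.Dev_B.B Z₀ hZ₀ P h₁ ?_ F hF hsupp
  intro M hM hMk hMT
  haveI := Groth.Agent.H8.finite_stalk_of_isCoh _ hM ξ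
  haveI := Groth.Agent.H8.finite_stalk_of_isCoh _ hG ξ
  have hMk' := Groth.Agent.H60.Dev.S1 Z₀ hZ₀ ξ hξ.2 M hMk
  have hfinM : Module.length (X.presheaf.stalk ξ) ↑(M.presheaf.stalk ξ) ≠ ⊤ := R1b _ _ hMk'
  have hfinG : Module.length (X.presheaf.stalk ξ) ↑(G.presheaf.stalk ξ) ≠ ⊤ := R1b _ _ hGk
  obtain ⟨s, hs⟩ := ENat.ne_top_iff_exists.mp hfinM
  obtain ⟨r, hr⟩ := ENat.ne_top_iff_exists.mp hfinG
  have hr1 : 1 ≤ r := by
    rcases Nat.eq_zero_or_pos r with h | h
    · exfalso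
      subst h
      have h0 : Module.length (X.presheaf.stalk ξ) ↑(G.presheaf.stalk ξ) = 0 := by
        rw [← hr]; rfl
      rw [Module.length_eq_zero_iff] at h0
      have hmem : ξ ∈ CohB1.support G := by rw [hGs]; exact hξ.1
      exact hmem h0
    · exact h
  have cA : Coh.IsCoh (pw G s) := isCoh_pw hG s
  have cB : Coh.IsCoh (pw M r) := isCoh_pw hM r
  haveI := Groth.Agent.H8.finite_stalk_of_isCoh _ cA ξ
  haveI := Groth.Agent.H8.finite_stalk_of_isCoh _ cB ξ
  obtain ⟨ψ⟩ := Groth.Agent.H60.Dev.R1 (X.presheaf.stalk ξ) ↑((pw G s).presheaf.stalk ξ)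
    ↑((pw M r).presheaf.stalk ξ) (stalk_killed_pw ξ hGk s) (stalk_killed_pw ξ hMk' r)
    (by rw [length_pw, length_pw, ← hr, ← hs, mul_comm])
  obtain ⟨Γ', p1, p2, hΓ, -, hb1, hb2⟩ := CL (pw G s) (pw M r) cA cB ξ ψ
  haveI : (pw M r).IsQuasicoherent := cB.1
  haveI : (pw G s).IsQuasicoherent := cA.1
  haveI : Γ'.IsQuasicoherent := hΓ.1
  have hs2 := (Groth.Agent.H8.stalkMap_bijective_iff p2 ξ).mp hb2
  -- Artin–Rees injectivity for `p2`
  obtain ⟨I₂, e, hξI₂, he⟩ := Groth.Agent.H8.Dev.AR hΓ cB p2 ξ hs2.1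
  have cΓ'' := Groth.Agent.H31.Dev_B.isCoh_idealMul (I₂ ^ e) Γ' hΓ
  let p1' := Dual3.idealMulι (I₂ ^ e) Γ' ≫ p1
  have hb1' : Function.Bijective (Groth.Agent.H8.stalkMap p1' ξ) := by
    have h2 : (Groth.Agent.H8.stalkMap p1' ξ : _ → _) =
        (Groth.Agent.H8.stalkMap p1 ξ) ∘ (Groth.Agent.H8.stalkMap (Dual3.idealMulι (I₂ ^ e) Γ') ξ) :=
      funext (stalkMap_comp (Dual3.idealMulι (I₂ ^ e) Γ') p1 ξ)
    rw [h2]
    exact hb1.comp (stalkMap_idealMulι_bijective I₂ e Γ' ξ hξI₂)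
  obtain ⟨I, N, β', hξI, hβ', -⟩ := DL cΓ'' cA p1' ξ hb1'
  haveI : Mono β' := by
    haveI : Mono (β' ≫ p1') := by rw [hβ']; infer_instance
    exact mono_of_mono β' p1'
  let φ := β' ≫ (Dual3.idealMulι (I₂ ^ e) Γ' ≫ p2)
  haveI : Mono φ := mono_comp _ _
  -- the submodule `G'`
  have hξJ : ξ ∉ ((I ^ N).support : Set X) := by
    rcases Nat.eq_zero_or_pos N with h | h
    · subst h
      intro hmem
      have h1 : (I ^ 0 : X.IdealSheafData) = ⊤ := pow_zero I
      rw [h1, Scheme.IdealSheafData.support_top] at hmem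
      exact hmem
    · rw [Scheme.IdealSheafData.support_pow I N (Nat.pos_iff_ne_zero.mp h)]
      exact hξI
  obtain ⟨G', ι', hι'mono, hG'q, hG'iso, hPG'⟩ := hG4 (I ^ N) hξJ
  haveI := hι'mono
  haveI : G'.IsQuasicoherent := hG'q
  have cJG := Groth.Agent.H31.Dev_B.isCoh_idealMul (I ^ N) G hG
  have cG' : Coh.IsCoh G' := isCoh_of_mono cJG ι'
  obtain ⟨κ, hκ⟩ := PWJ (I ^ N) G G' ι' s
  haveI := hκ
  let g := κ ≫ φ
  haveI : Mono g := mono_comp _ _
  have cA' : Coh.IsCoh (pw G' s) := isCoh_pw cG' s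
  have hPA' : P (pw G' s) := P_pw P h₀ h₁ cG' hPG' s
  -- the cokernel of `g` has zero stalk at `ξ`
  have cQ := Groth.Agent.H8.isCoh_cokernel cA' cB g
  let Sg : ShortComplex X.Modules := ShortComplex.mk g (cokernel.π g) (cokernel.condition g)
  have hSg : Sg.ShortExact :=
    { exact := ShortComplex.exact_cokernel g
      mono_f := inferInstanceAs (Mono g)
      epi_g := inferInstanceAs (Epi (cokernel.π g)) }
  have hlenG' : Module.length (X.presheaf.stalk ξ) ↑(G'.presheaf.stalk ξ) =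
      Module.length (X.presheaf.stalk ξ) ↑(G.presheaf.stalk ξ) := by
    let j := ι' ≫ Dual3.idealMulι (I ^ N) G
    haveI : Mono j := mono_comp _ _
    let Sj : ShortComplex X.Modules := ShortComplex.mk j (cokernel.π j) (cokernel.condition j)
    have hSj : Sj.ShortExact :=
      { exact := ShortComplex.exact_cokernel j
        mono_f := inferInstanceAs (Mono j)
        epi_g := inferInstanceAs (Epi (cokernel.π j)) }
    have hbij : Function.Bijective (Groth.Agent.H8.stalkMap j ξ) :=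
      (ConcreteCategory.isIso_iff_bijective _).mp hG'iso
    have hsub := ((Groth.Agent.H8.stalkMap_bijective_iff j ξ).mp hbij).2
    have h := length_stalk_ses Sj hSj ξ
    have h0 : Module.length (X.presheaf.stalk ξ) ↑((cokernel j).presheaf.stalk ξ) = 0 :=
      Module.length_eq_zero_iff.mpr hsub
    have h' : Module.length (X.presheaf.stalk ξ) ↑(G.presheaf.stalk ξ) =
        Module.length (X.presheaf.stalk ξ) ↑(G'.presheaf.stalk ξ) +
          Module.length (X.presheaf.stalk ξ) ↑((cokernel j).presheaf.stalk ξ) := h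
    rw [h0, add_zero] at h'
    exact h'.symm
  have hQξ : Subsingleton ↑((cokernel g).presheaf.stalk ξ) := by
    have h := length_stalk_ses Sg hSg ξ
    have h' : Module.length (X.presheaf.stalk ξ) ↑((pw M r).presheaf.stalk ξ) =
        Module.length (X.presheaf.stalk ξ) ↑((pw G' s).presheaf.stalk ξ) +
          Module.length (X.presheaf.stalk ξ) ↑((cokernel g).presheaf.stalk ξ) := h
    rw [length_pw, length_pw, hlenG', ← hr, ← hs] at h'
    rw [← Module.length_eq_zero_iff (R := X.presheaf.stalk ξ)]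
    have h1 : ((r * s : ℕ) : ℕ∞) = ((s * r : ℕ) : ℕ∞) +
        Module.length (X.presheaf.stalk ξ) ↑((cokernel g).presheaf.stalk ξ) := by
      push_cast
      exact h'
    rw [mul_comm r s] at h1
    have h2 : ((s * r : ℕ) : ℕ∞) + 0 = ((s * r : ℕ) : ℕ∞) +
        Module.length (X.presheaf.stalk ξ) ↑((cokernel g).presheaf.stalk ξ) := by
      rw [add_zero]; exact h1
    exact (ENat.add_right_injective_of_ne_top (ENat.natCast_ne_top _) h2).symm
  have hQT : CohB1.support (cokernel g) ⊆ Z₀ :=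
    ((supp_epi (cokernel.π g)).trans (supp_pw M r)).trans hMT
  have hPQ : P (cokernel g) := small _ cQ hQT hQξ
  have hPB : P (pw M r) := h₁ Sg hSg cA' cB cQ hPA' hPQ
  -- direct summand
  obtain ⟨ePW⟩ := Groth.Agent.H60.Dev.PW M (pw M) (isZero_zero _) (fun n => ⟨Iso.refl _⟩) r
  exact h₂ M r hM hr1 (hP _ _ ⟨ePW⟩ hPB)

end Groth.Agent.H30.Dev3
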