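import Mathlib
import Groth.Prelude
import Groth.Agent.H8.DevPw
import Groth.Agent.H9.Dev_TF

set_option autoImplicit false
set_option linter.style.haveILetI false
universe u
open CategoryTheory CategoryTheory.Limits AlgebraicGeometry TopologicalSpace Opposite
open scoped ZeroObject
open Coherent Groth.Agent.H8.Dev

namespace Groth.Agent.H30.Dev3Small
variable {X : Scheme.{u}}

theorem SMALL (X : Scheme.{u}) [IsNoetherian X]
    (Z₀ : Set X) (hZ₀ : IsClosed Z₀) (ξ : X) (hξ : ξ ∈ Z₀ ∧ closure {ξ} = Z₀)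
    (P : X.Modules → Prop) (hP : ∀ M N : X.Modules, Nonempty (M ≅ N) → P M → P N)
    (h₀ : ∀ M : X.Modules, IsZero M → P M)
    (h₁ : ∀ S : ShortComplex X.Modules, S.ShortExact → Coh.IsCoh S.X₁ → Coh.IsCoh S.X₂ → Coh.IsCoh S.X₃ →
      P S.X₁ → P S.X₃ → P S.X₂)
    (h₃ : ∀ (Z : Scheme.{u}) (i : Z ⟶ X), IsClosedImmersion i → IsIntegral Z →
      Set.range ⇑i ⊆ Z₀ → Set.range ⇑i ≠ Z₀ →
      ∀ (I : Z.Modules) (ι : I ⟶ Coh.structureModule Z), Mono ι → Coh.IsQCoh I → P ((Coh.push i).obj I))
    (H27 : ∀ (P' : X.Modules → Prop), (∀ M N : X.Modules, Nonempty (M ≅ N) → P' M → P' N) →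
      (∀ S : ShortComplex X.Modules, S.ShortExact → Coh.IsCoh S.X₁ → Coh.IsCoh S.X₂ →
        Coh.IsCoh S.X₃ → P' S.X₁ → P' S.X₃ → P' S.X₂) →
      (∀ (Z : Scheme.{u}) (i : Z ⟶ X), IsClosedImmersion i → IsIntegral Z →
        ∀ (I : Z.Modules) (ι : I ⟶ Coh.structureModule Z), Mono ι → Coh.IsQCoh I →
          P' ((Coh.push i).obj I)) →
      ∀ M : X.Modules, Coh.IsCoh M → P' M)
    (N : X.Modules) (hN : Coh.IsCoh N) (hsupp : CohB1.support N ⊆ Z₀)
    (hNξ : Subsingleton ↑(N.presheaf.stalk ξ)) : P N := by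
  let P' : X.Modules → Prop := fun M =>
    (CohB1.support M ⊆ Z₀ ∧ Subsingleton ↑(M.presheaf.stalk ξ)) → P M
  have key : P' N := by
    refine H27 P' ?_ ?_ ?_ N hN
    · rintro M N' ⟨e⟩ hM ⟨hs, hsub⟩
      apply hP M N' ⟨e⟩
      apply hM
      refine ⟨(supp_mono e.hom).trans hs, ?_⟩
      by_contra hcon
      exact (supp_mono e.hom hcon) hsub
    · rintro S hS c1 c2 c3 h1 h3 ⟨hs, hsub⟩
      haveI := hS.mono_f
      haveI := hS.epi_g
      apply h₁ S hS c1 c2 c3
      · apply h1
        refine ⟨(supp_mono S.f).trans hs, ?_⟩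
        by_contra hcon
        exact (supp_mono S.f hcon) hsub
      · apply h3
        refine ⟨(supp_epi S.g).trans hs, ?_⟩
        by_contra hcon
        exact (supp_epi S.g hcon) hsub
    · rintro Z i hi hZ I ι hι hIq ⟨hs, hsub⟩
      haveI := hi
      haveI := hZ
      haveI := hι
      by_cases hcase : Set.range ⇑i ⊆ Z₀ ∧ Set.range ⇑i ≠ Z₀
      · exact h₃ Z i hi hZ hcase.1 hcase.2 I ι hι hIq
      · apply h₀
        haveI : Mono ((Scheme.Modules.pushforward i).map ι) := inferInstance
        let A : X.Modules := (Scheme.Modules.pushforward i).obj (Coh.structureModule Z)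
        let inl' : A ⟶ pw A 1 := (biprod.inl : A ⟶ A ⊞ pw A 0)
        haveI : Mono inl' := inferInstanceAs (Mono (biprod.inl : A ⟶ A ⊞ pw A 0))
        let g : (Coh.push i).obj I ⟶
            pw ((Scheme.Modules.pushforward i).obj (Coh.structureModule Z)) 1 :=
          (Scheme.Modules.pushforward i).map ι ≫ inl'
        haveI : Mono g := mono_comp _ _
        apply Groth.Agent.H9.Dev_TF.TF i 1 _ g
        by_contra hcon
        have hmem : i (genericPoint Z) ∈ Z₀ := hs hcon
        have hgenZ : IsGenericPoint (genericPoint Z) (⊤ : Set Z) := genericPoint_spec Z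
        have himg := hgenZ.image i.continuous
        have hrange : closure {i (genericPoint Z)} = Set.range ⇑i := by
          have h1 : closure {i (genericPoint Z)} = closure (⇑i '' (⊤ : Set Z)) := himg
          rw [h1, Set.top_eq_univ, Set.image_univ]
          exact i.isClosedEmbedding.isClosed_range.closure_eq
        have hsub1 : Set.range ⇑i ⊆ Z₀ := by
          rw [← hrange]
          exact (hZ₀.closure_subset_iff).mpr (Set.singleton_subset_iff.mpr hmem)
        have heq : Set.range ⇑i = Z₀ := by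
          by_contra hne
          exact hcase ⟨hsub1, hne⟩
        have hg1 : IsGenericPoint (i (genericPoint Z)) Z₀ := by
          show closure {i (genericPoint Z)} = Z₀
          rw [hrange, heq]
        have hg2 : IsGenericPoint ξ Z₀ := hξ.2
        have hgen : i (genericPoint Z) = ξ := hg1.eq hg2
        rw [hgen] at hcon
        exact hcon hsub
  exact key ⟨hsupp, hNξ⟩

end Groth.Agent.H30.Dev3Small
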