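import Mathlib
import Groth.Agent.H8.DevPw
import Groth.Agent.H28.ClosedStalk
import Groth.Agent.S0019
import Groth.Agent.H2.ConnComp

set_option autoImplicit false
set_option linter.unusedSectionVars false
set_option linter.unusedVariables false
set_option linter.style.haveILetI false
universe u
open CategoryTheory CategoryTheory.Limits AlgebraicGeometry TopologicalSpace Opposite
open scoped ZeroObject
open Groth.Agent.H8.Dev

namespace Groth.Agent.H30.Dev_PF

variable {X : Scheme.{u}}

/-- sections of a module over the empty open vanish -/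
theorem eq_zero_of_eq_bot {Z : Scheme.{u}} (H : Z.Modules) (U : Z.Opens) (hU : U = ⊥)
    (s : Γ(H, U)) : s = 0 := by
  have t : IsTerminal (((SheafOfModules.toSheaf Z.ringCatSheaf).obj H).obj.obj (op U)) :=
    TopCat.Sheaf.isTerminalOfEqEmpty ((SheafOfModules.toSheaf Z.ringCatSheaf).obj H) hU
  have hz : IsZero (((SheafOfModules.toSheaf Z.ringCatSheaf).obj H).obj.obj (op U)) :=
    (isZero_zero _).of_iso (t.uniqueUpToIso HasZeroObject.zeroIsTerminal)
  haveI := AddCommGrpCat.subsingleton_of_isZero hz
  exact Subsingleton.elim (α := ↑(((SheafOfModules.toSheaf Z.ringCatSheaf).obj H).obj.obj (op U))) s 0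

/-- the stalk of `i_* H` vanishes outside the image of a closed immersion -/
theorem subsingleton_stalk_push {Z : Scheme.{u}} (i : Z ⟶ X) [IsClosedImmersion i]
    (H : Z.Modules) (y : X) (hy : y ∉ Set.range ⇑i) :
    Subsingleton ↑(((Scheme.Modules.pushforward i).obj H).presheaf.stalk y) := by
  have hcl : IsClosed (Set.range ⇑i) := i.isClosedEmbedding.isClosed_range
  let V : X.Opens := ⟨(Set.range ⇑i)ᶜ, hcl.isOpen_compl⟩
  have hyV : y ∈ V := hy
  have key : ∀ m : ↑(((Scheme.Modules.pushforward i).obj H).presheaf.stalk y), m = 0 := by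
    intro m
    obtain ⟨U, hU, s, rfl⟩ :=
      ((Scheme.Modules.pushforward i).obj H).presheaf.exists_germ_eq (x := y) m
    have hW : y ∈ U ⊓ V := ⟨hU, hyV⟩
    have hs := ((Scheme.Modules.pushforward i).obj H).presheaf.germ_res_apply
      (homOfLE inf_le_left : U ⊓ V ⟶ U) y hW s
    rw [← hs]
    have hbot : i ⁻¹ᵁ (U ⊓ V) = ⊥ := by
      ext z
      simp only [Opens.coe_bot, Set.mem_empty_iff_false, iff_false]
      intro hz
      exact hz.2 ⟨z, rfl⟩
    have h0 : ((Scheme.Modules.pushforward i).obj H).presheaf.map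
        (homOfLE inf_le_left : U ⊓ V ⟶ U).op s = 0 :=
      eq_zero_of_eq_bot H (i ⁻¹ᵁ (U ⊓ V)) hbot _
    rw [h0, map_zero]
  exact ⟨fun a b => (key a).trans (key b).symm⟩

open Groth.Agent.H28.ClosedStalk in
theorem spAb_bijective {Z : Scheme.{u}} (i : Z ⟶ X) [IsClosedImmersion i] (H : Z.Modules) (z : Z) :
    Function.Bijective (spAb i H z) :=
  spLinMap_bijective i i.isClosedEmbedding.isInducing H z

open Groth.Agent.H28.ClosedStalk in
theorem PF {Z : Scheme.{u}} (i : Z ⟶ X) [IsClosedImmersion i] [IsIntegral Z] [IsLocallyNoetherian X]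
    (H : Z.Modules) (hH : Coh.IsCoh H) :
    Coh.IsCoh ((Scheme.Modules.pushforward i).obj H) ∧
    CohB1.support ((Scheme.Modules.pushforward i).obj H) ⊆ Set.range ⇑i ∧
    (∀ a ∈ IsLocalRing.maximalIdeal (X.presheaf.stalk (i (genericPoint Z))),
      ∀ t : ↑(((Scheme.Modules.pushforward i).obj H).presheaf.stalk (i (genericPoint Z))), a • t = 0) ∧
    (Nontrivial ↑(H.presheaf.stalk (genericPoint Z)) →
      Nontrivial ↑(((Scheme.Modules.pushforward i).obj H).presheaf.stalk (i (genericPoint Z)))) := by
  refine ⟨Groth.Agent.S0019.result i H hH, ?_, ?_, ?_⟩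
  · intro y hy
    by_contra hcon
    exact hy (subsingleton_stalk_push i H y hcon)
  · intro a ha t
    have hbij := spAb_bijective i H (genericPoint Z)
    apply hbij.1
    rw [spAb_smul, map_zero]
    have hfa : (i.stalkMap (genericPoint Z)).hom a = 0 := by
      have hmem : (i.stalkMap (genericPoint Z)).hom a ∈
          IsLocalRing.maximalIdeal (Z.presheaf.stalk (genericPoint Z)) := by
        rw [IsLocalRing.mem_maximalIdeal, mem_nonunits_iff]
        intro hu
        exact ha (isUnit_of_map_unit (i.stalkMap (genericPoint Z)).hom a hu)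
      have hbot : IsLocalRing.maximalIdeal (Z.presheaf.stalk (genericPoint Z)) = ⊥ :=
        IsLocalRing.isField_iff_maximalIdeal_eq.mp
          (Field.toIsField (Z.functionField))
      rw [hbot] at hmem
      exact hmem
    rw [hfa, zero_smul]
  · intro hnt
    exact (spAb_bijective i H (genericPoint Z)).2.nontrivial

open Groth.Agent.H28.ClosedStalk Groth.Agent.H2.ConnComp in
theorem PF1 {Z : Scheme.{u}} (i : Z ⟶ X) [IsClosedImmersion i] [IsIntegral Z] :
    Module.length (X.presheaf.stalk (i (genericPoint Z)))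
      ↑(((Scheme.Modules.pushforward i).obj (Coh.structureModule Z)).presheaf.stalk
        (i (genericPoint Z))) = 1 := by
  rw [Module.length_eq_one_iff]
  set ξ := genericPoint Z with hξ
  have hbij := spAb_bijective i (Coh.structureModule Z) ξ
  have hLbij := L_bijective Z ξ
  have hφ : Function.Surjective (i.stalkMap ξ).hom := i.stalkMap_surjective ξ
  letI : Field (Z.presheaf.stalk ξ) := inferInstanceAs (Field Z.functionField)
  haveI hTnt : Nontrivial ↑((Coh.structureModule Z).presheaf.stalk ξ) :=
    hLbij.1.nontrivial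
  haveI hSnt : Nontrivial
      ↑(((Scheme.Modules.pushforward i).obj (Coh.structureModule Z)).presheaf.stalk (i ξ)) :=
    hbij.2.nontrivial
  refine { exists_pair_ne := ⟨⊥, ⊤, bot_ne_top⟩, eq_bot_or_eq_top := fun N => ?_ }
  by_cases hN : N = ⊥
  · exact Or.inl hN
  · right
    obtain ⟨n, hnN, hn0⟩ := (Submodule.ne_bot_iff N).mp hN
    rw [eq_top_iff]
    intro m _
    obtain ⟨c, hc⟩ := hLbij.2 (spAb i (Coh.structureModule Z) ξ n)
    obtain ⟨d, hd⟩ := hLbij.2 (spAb i (Coh.structureModule Z) ξ m)
    have hc0 : c ≠ 0 := by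
      rintro rfl
      rw [map_zero] at hc
      apply hn0
      apply hbij.1
      rw [← hc, map_zero]
    obtain ⟨r, hr⟩ := hφ (d * c⁻¹)
    have hrm : r • n = m := by
      apply hbij.1
      rw [spAb_smul, hr, ← hc, ← hd, ← LinearMap.map_smul, smul_eq_mul, mul_assoc,
        inv_mul_cancel₀ hc0, mul_one]
    rw [← hrm]
    exact N.smul_mem r hnN

end Groth.Agent.H30.Dev_PF
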