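import Groth.Agent.H30.HomCmp2
import Groth.Agent.H45.EtLocCoh
import Groth.Prelude.Def_EtDepth

/-!
# The edge map `H^n_Y(X, F) ⟶ Γ(X, H^n_Y(F))` is an isomorphism when `H^p_Y(F) = 0` for `p < n`
(helper30; uses helper45's `EtLocCoh`)
-/

set_option autoImplicit false
universe u
open CategoryTheory CategoryTheory.Limits AlgebraicGeometry Opposite
open Groth.Agent.H45.RDP

namespace Groth.Agent.H30.EtEdge

open Groth.Agent.H45.EtLocCoh Groth.Agent.H45

/-- global sections on the small étale site. -/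
noncomputable abbrev Γ (X : Scheme.{u}) : EtCoh.Ab X ⥤ AddCommGrpCat.{u + 1} :=
  sheafToPresheaf X.smallEtaleTopology AddCommGrpCat.{u + 1} ⋙
    (evaluation X.Etaleᵒᵖ AddCommGrpCat.{u + 1}).obj (op (EtCoh.top X))

variable {X U : Scheme.{u}} (j : U ⟶ X) [IsOpenImmersion j]

lemma epi_Γ_unitApp (F : EtCoh.Ab X) [Injective F] : Epi ((Γ X).map (EtDual.unitApp j F)) := by
  have h : EtDual.unitApp j F ≫
      (EtCoh.push j).map ((Groth.Agent.H4.pullIsoRestr j).hom.app F) =
      (Groth.Agent.H4.restrPushAdj j).unit.app F :=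
    Adjunction.unit_leftAdjointUniq_hom_app _ _ _
  rw [← IsIso.eq_comp_inv] at h
  rw [h, Functor.map_comp]
  have h1 : Epi ((Γ X).map ((Groth.Agent.H4.restrPushAdj j).unit.app F)) := by
    rw [AddCommGrpCat.epi_iff_surjective]
    haveI := mono_counit j (EtCoh.top X)
    exact InjSurjMono.surjective_map_of_injective.{u + 1} X.smallEtaleTopology F
      ((Groth.Agent.H4.compBcAdj j).counit.app (EtCoh.top X))
  exact epi_comp' h1 inferInstance

theorem isZero_rightDerived_Γ_secSupp (I : EtCoh.Ab X) (hI : Injective I) (i : ℕ) :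
    IsZero (((Γ X).rightDerived (i + 1)).obj ((EtDual.secSupp j).obj I)) := by
  letI := HasDerivedCategory.standard (EtCoh.Ab X)
  letI := HasDerivedCategory.standard AddCommGrpCat.{u + 1}
  haveI := hI
  have hS := exactOnInjectives j I hI
  haveI : Injective ((EtCoh.pull j).obj I) := Groth.Agent.H4.injective_pull_of_etale j I
  haveI : Injective ((EtCoh.push j).obj ((EtCoh.pull j).obj I)) :=
    Injective.injective_of_adjoint (EtCoh.pullPushAdj j) _
  have h₂ : Acy (Γ X) I := acy_of_injective (Γ X) I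
  have h₃ : Acy (Γ X) ((EtCoh.push j).obj ((EtCoh.pull j).obj I)) := acy_of_injective (Γ X) _
  have hacy := Groth.Agent.H30.HomCmp.acy_X₁ (Γ X) hS h₂ h₃ (epi_Γ_unitApp j I)
  obtain ⟨b⟩ := Groth.Agent.H5.GSS.nonempty_rnf_iso (Γ X) ((EtDual.secSupp j).obj I) (i + 1)
  exact (hacy ((i + 1 : ℕ) : ℤ) (by positivity)).of_iso b.symm

theorem isIso_edgeOut (F : EtCoh.Ab X) (n : ℕ) (h : EtDepth.DepthGE j F n) :
    IsIso (RDer.edgeOut (EtDual.secSupp j) (Γ X) n F) := by
  apply Groth.Agent.H30.HomCmp.isIso_edgeOut_of_lt (EtDual.secSupp j) (Γ X)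
    (fun I hI i => isZero_rightDerived_Γ_secSupp j I hI i) F n
  intro p i hp
  have hz : IsZero (((EtDual.secSupp j).rightDerived p).obj F) := h p hp
  haveI := hz.injective
  exact Functor.isZero_rightDerived_obj_injective_succ (Γ X) i _


end Groth.Agent.H30.EtEdge
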