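import Groth.Agent.H45.AdjDerived
import Mathlib.Algebra.Homology.DerivedCategory.Ext.Basic
import Mathlib.CategoryTheory.Adjunction.Additive

/-!
# `Ext` and adjunctions between exact functors (helper30 library)

If `L ⊣ R` is an adjunction between exact additive functors of abelian categories, then
`Ext^n (L X) Y ≃+ Ext^n X (R Y)` for all `n`.
-/

set_option autoImplicit false
universe w w' v₁ v₂ u₁ u₂
open CategoryTheory CategoryTheory.Limits CategoryTheory.Abelian

namespace Groth.Agent.H30.ExtAdj

section Pre

variable {D : Type*} [Category D] [Preadditive D]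

/-- Precomposition with an isomorphism, as an additive equivalence. -/
def preAddEquiv {X Y : D} (e : X ≅ Y) (Z : D) : (Y ⟶ Z) ≃+ (X ⟶ Z) where
  toFun f := e.hom ≫ f
  invFun g := e.inv ≫ g
  left_inv f := by simp
  right_inv g := by simp
  map_add' f g := by simp

/-- Postcomposition with an isomorphism, as an additive equivalence. -/
def postAddEquiv (X : D) {Y Z : D} (e : Y ≅ Z) : (X ⟶ Y) ≃+ (X ⟶ Z) where
  toFun f := f ≫ e.hom
  invFun g := g ≫ e.inv
  left_inv f := by simp
  right_inv g := by simp
  map_add' f g := by simp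

end Pre

variable {A : Type u₁} [Category.{v₁} A] [Abelian A] {B : Type u₂} [Category.{v₂} B] [Abelian B]
  {L : A ⥤ B} {R : B ⥤ A} [L.Additive] [R.Additive]
  [PreservesFiniteLimits L] [PreservesFiniteColimits L]
  [PreservesFiniteLimits R] [PreservesFiniteColimits R]

attribute [local instance] HasDerivedCategory.standard

/-- An adjunction `L ⊣ R` between exact functors induces additive bijections
`Ext^n (L X) Y ≃+ Ext^n X (R Y)`. -/
noncomputable def extAddEquiv (adj : L ⊣ R) [HasExt.{w} B] [HasExt.{w'} A] (X : A) (Y : B)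
    (n : ℕ) : Ext.{w} (L.obj X) Y n ≃+ Ext.{w'} X (R.obj Y) n :=
  (Ext.homAddEquiv (X := L.obj X) (Y := Y) (n := n)).trans <|
  (preAddEquiv ((L.mapDerivedCategorySingleFunctor 0).app X)
    (((DerivedCategory.singleFunctor B 0).obj Y)⟦(n : ℤ)⟧)).trans <|
  ((Groth.Agent.H45.adjMapDerivedCategory adj).homAddEquiv
    ((DerivedCategory.singleFunctor A 0).obj X)
    (((DerivedCategory.singleFunctor B 0).obj Y)⟦(n : ℤ)⟧)).trans <|
  (postAddEquiv ((DerivedCategory.singleFunctor A 0).obj X)
    (((R.mapDerivedCategory.commShiftIso (n : ℤ)).app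
        ((DerivedCategory.singleFunctor B 0).obj Y)) ≪≫
      (shiftFunctor (DerivedCategory A) (n : ℤ)).mapIso
        ((R.mapDerivedCategorySingleFunctor 0).app Y))).trans
  (Ext.homAddEquiv (X := X) (Y := R.obj Y) (n := n)).symm

end Groth.Agent.H30.ExtAdj
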