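import Groth.Prelude.Def_SGA4c
import Groth.Prelude.Def_ToposFin2
import Mathlib.CategoryTheory.Sites.Subsheaf
import Mathlib.CategoryTheory.Sites.LocallySurjective
import Mathlib.CategoryTheory.Sites.LeftExact
import Mathlib.CategoryTheory.Limits.Shapes.Diagonal
import Mathlib.CategoryTheory.Limits.Types.Pullbacks
import Mathlib.CategoryTheory.Limits.Preserves.Shapes.Pullbacks
import Mathlib.CategoryTheory.MorphismProperty.Limits
import Mathlib.CategoryTheory.Adjunction.Basic

/-!
# Finiteness conditions in a sheaf topos: jointly epimorphic families, quasi-compact objects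
and morphisms (library for the `ToposFin` statements).
-/

set_option autoImplicit false
universe w w' u v₁ u₁ v₂ u₂

namespace Groth.Agent.H30.TFin

open CategoryTheory Limits Opposite ToposFin

section general

variable {𝒞 : Type u₁} [Category.{v₁} 𝒞]

/-- A jointly epimorphic family. -/
def JE {κ : Type w} {X : 𝒞} {F : κ → 𝒞} (π : ∀ i, F i ⟶ X) : Prop :=
  ∀ ⦃Z : 𝒞⦄ (a b : X ⟶ Z), (∀ i, π i ≫ a = π i ≫ b) → a = b

lemma epi_sigmaDesc_iff {κ : Type w} {X : 𝒞} {F : κ → 𝒞} [HasCoproduct F] (π : ∀ i, F i ⟶ X) :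
    Epi (Sigma.desc π) ↔ JE π := by
  constructor
  · intro h Z a b hab
    rw [← cancel_epi (Sigma.desc π)]
    apply Sigma.hom_ext
    intro i
    rw [Sigma.ι_desc_assoc, Sigma.ι_desc_assoc]
    exact hab i
  · intro h
    constructor
    intro Z a b hab
    apply h
    intro i
    have := congrArg (fun t => Sigma.ι F i ≫ t) hab
    simpa using this

lemma JE.of_epi {X Y : 𝒞} (f : X ⟶ Y) [Epi f] : JE (fun _ : Unit => f) :=
  fun _ _ _ h => (cancel_epi f).1 (h ())

lemma JE.reindex {κ : Type w} {κ' : Type w'} {X : 𝒞} {F : κ → 𝒞} {π : ∀ i, F i ⟶ X}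
    (e : κ' → κ) (h : JE (fun j => π (e j))) : JE π :=
  fun _ a b hab => h a b (fun j => hab (e j))

lemma JE.trans {κ : Type w} {X : 𝒞} {F : κ → 𝒞} {π : ∀ i, F i ⟶ X} (h : JE π)
    {L : κ → Type w'} {G : ∀ i, L i → 𝒞} (ρ : ∀ i j, G i j ⟶ F i) (hρ : ∀ i, JE (ρ i)) :
    JE (fun p : Σ i, L i => ρ p.1 p.2 ≫ π p.1) :=
  fun _ a b hab => h a b (fun i => hρ i _ _ (fun j => by
    have := hab ⟨i, j⟩
    simpa only [Category.assoc] using this))

lemma JE.of_factor {κ : Type w} {X : 𝒞} {F G : κ → 𝒞} {π : ∀ i, F i ⟶ X}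
    (θ : ∀ k, G k ⟶ F k) (h : JE (fun k => θ k ≫ π k)) : JE π :=
  fun _ a b hab => h a b (fun k => by rw [Category.assoc, Category.assoc, hab k])

lemma JE.map_leftAdjoint {𝒟 : Type u₂} [Category.{v₂} 𝒟] {L : 𝒞 ⥤ 𝒟} {R : 𝒟 ⥤ 𝒞} (adj : L ⊣ R)
    {κ : Type w} {X : 𝒞} {F : κ → 𝒞} {π : ∀ i, F i ⟶ X} (h : JE π) :
    JE (fun i => L.map (π i)) := by
  intro Z a b hab
  apply (adj.homEquiv _ _).injective
  apply h
  intro i
  rw [← adj.homEquiv_naturality_left, ← adj.homEquiv_naturality_left, hab i]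

set_option backward.isDefEq.respectTransparency false in
/-- The diagonal of a base change is the base change of the diagonal. -/
lemma isPullback_diagonal [HasPullbacks 𝒞] {X' X Y' Y : 𝒞} {a : X' ⟶ X} {f' : X' ⟶ Y'}
    {f : X ⟶ Y} {g : Y' ⟶ Y} (sq : IsPullback a f' f g) :
    IsPullback a (pullback.diagonal f') (pullback.diagonal f)
      (pullback.map f' f' f f a a g sq.w.symm sq.w.symm) := by
  refine ⟨⟨?_⟩, ⟨PullbackCone.IsLimit.mk _ (fun s => s.snd ≫ pullback.fst f' f') ?_ ?_ ?_⟩⟩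
  · apply pullback.hom_ext <;> simp
  · intro s
    have := congrArg (fun t => t ≫ pullback.fst f f) s.condition
    simp only [Category.assoc, pullback.diagonal_fst, Category.comp_id, pullback.lift_fst] at this
    rw [Category.assoc]
    exact this.symm
  · intro s
    have h1 := congrArg (fun t => t ≫ pullback.fst f f) s.condition
    have h2 := congrArg (fun t => t ≫ pullback.snd f f) s.condition
    simp only [Category.assoc, pullback.diagonal_fst, pullback.diagonal_snd, Category.comp_id,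
      pullback.lift_fst, pullback.lift_snd] at h1 h2
    have e : s.snd ≫ pullback.fst f' f' = s.snd ≫ pullback.snd f' f' := by
      apply sq.hom_ext
      · rw [Category.assoc, Category.assoc, ← h1, ← h2]
      · rw [Category.assoc, Category.assoc, pullback.condition]
    apply pullback.hom_ext
    · simp
    · simp [e]
  · intro s m _ h2
    have := congrArg (fun t => t ≫ pullback.fst f' f') h2
    simpa using this

set_option backward.isDefEq.respectTransparency false in
/-- `X' ×_{Y'} X'` is the base change of `X ×_Y X` along `Y' ⟶ Y`. -/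
lemma isPullback_map_diag [HasPullbacks 𝒞] {X' X Y' Y : 𝒞} {a : X' ⟶ X} {f' : X' ⟶ Y'}
    {f : X ⟶ Y} {g : Y' ⟶ Y} (sq : IsPullback a f' f g) :
    IsPullback (pullback.map f' f' f f a a g sq.w.symm sq.w.symm) (pullback.fst f' f' ≫ f')
      (pullback.fst f f ≫ f) g := by
  refine ⟨⟨by simp [sq.w]⟩, ⟨PullbackCone.IsLimit.mk _
    (fun s => pullback.lift
      (sq.lift (s.fst ≫ pullback.fst f f) s.snd (by simpa using s.condition))
      (sq.lift (s.fst ≫ pullback.snd f f) s.snd (by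
        rw [Category.assoc, ← pullback.condition]; simpa using s.condition))
      (by simp)) ?_ ?_ ?_⟩⟩
  · intro s
    apply pullback.hom_ext <;> simp
  · intro s
    simp
  · intro s m h1 h2
    apply pullback.hom_ext
    · apply sq.hom_ext
      · simp [← h1]
      · simp [← h2]
    · apply sq.hom_ext
      · simp [← h1]
      · simp [← h2, pullback.condition]

/-- The equalizer of the two components of `u : T ⟶ K ×_Y K` is the pullback of the diagonal
along `u`. -/
lemma isPullback_of_isLimit_fork [HasPullbacks 𝒞] {K Y T P : 𝒞} (t : K ⟶ Y)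
    (u : T ⟶ pullback t t) (e : P ⟶ T)
    (w : e ≫ (u ≫ pullback.fst t t) = e ≫ (u ≫ pullback.snd t t))
    (hl : IsLimit (Fork.ofι e w)) :
    IsPullback (e ≫ u ≫ pullback.fst t t) e (pullback.diagonal t) u := by
  have key : ∀ s : PullbackCone (pullback.diagonal t) u,
      s.fst = s.snd ≫ u ≫ pullback.fst t t ∧ s.fst = s.snd ≫ u ≫ pullback.snd t t := by
    intro s
    have h1 := congrArg (fun m => m ≫ pullback.fst t t) s.condition
    have h2 := congrArg (fun m => m ≫ pullback.snd t t) s.condition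
    simp only [Category.assoc, pullback.diagonal_fst, pullback.diagonal_snd,
      Category.comp_id] at h1 h2
    exact ⟨h1, h2⟩
  refine ⟨⟨?_⟩, ⟨PullbackCone.IsLimit.mk _
    (fun s => Fork.IsLimit.lift hl s.snd ((key s).1.symm.trans (key s).2)) ?_ ?_ ?_⟩⟩
  · apply pullback.hom_ext
    · simp only [Category.assoc, pullback.diagonal_fst, Category.comp_id]
    · simp only [Category.assoc, pullback.diagonal_snd, Category.comp_id]
      exact w
  · intro s
    have := Fork.IsLimit.lift_ι' hl s.snd ((key s).1.symm.trans (key s).2)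
    rw [Fork.ι_ofι] at this
    rw [← Category.assoc, this]
    exact (key s).1.symm
  · intro s
    have := Fork.IsLimit.lift_ι' hl s.snd ((key s).1.symm.trans (key s).2)
    rw [Fork.ι_ofι] at this
    exact this
  · intro s m _ h2
    apply Fork.IsLimit.hom_ext hl
    rw [Fork.IsLimit.lift_ι', Fork.ι_ofι]
    exact h2

end general

section sheaf

variable {C : Type u} [SmallCategory C] {J : GrothendieckTopology C}

/-- The subfunctor of sections in the image of some member of the family. -/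
def rangeSub {κ : Type w} {X : Sh J} {F : κ → Sh J} (π : ∀ i, F i ⟶ X) : Subfunctor X.obj where
  obj U := {x | ∃ i, ∃ y : (F i).obj.obj U, (π i).hom.app U y = x}
  map := by
    rintro U V f x ⟨i, y, rfl⟩
    exact ⟨i, (F i).obj.map f y, NatTrans.naturality_apply (π i).hom f y⟩

/-- Locally jointly surjective family. -/
def LJS {κ : Type w} {X : Sh J} {F : κ → Sh J} (π : ∀ i, F i ⟶ X) : Prop :=
  ∀ (U : Cᵒᵖ) (x : X.obj.obj U), (rangeSub π).sieveOfSection x ∈ J (unop U)

variable {κ : Type w} {X : Sh J} {F : κ → Sh J} {π : ∀ i, F i ⟶ X}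

lemma JE_of_LJS (h : LJS π) : JE π := by
  intro Z a b hab
  ext U x
  apply (((isSheaf_iff_isSheaf_of_type _ _).1 Z.2).isSeparated _ (h U x)).ext
  rintro V f ⟨i, y, hy⟩
  have h₁ : a.hom.app (op V) (X.obj.map f.op x) = Z.obj.map f.op (a.hom.app U x) :=
    NatTrans.naturality_apply a.hom f.op x
  have h₂ : b.hom.app (op V) (X.obj.map f.op x) = Z.obj.map f.op (b.hom.app U x) :=
    NatTrans.naturality_apply b.hom f.op x
  have h₃ : a.hom.app (op V) (X.obj.map f.op x) = b.hom.app (op V) (X.obj.map f.op x) := by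
    rw [← hy]
    exact congrArg (fun t : F i ⟶ Z => t.hom.app (op V) y) (hab i)
  exact h₁.symm.trans (h₃.trans h₂)

lemma LJS_of_JE (h : JE π) : LJS π := by
  have hX : Presieve.IsSheaf J X.obj := (isSheaf_iff_isSheaf_of_type _ _).1 X.2
  let G := rangeSub π
  let S : Sh J := ⟨(G.sheafify J).toFunctor,
    (isSheaf_iff_isSheaf_of_type _ _).2 (G.sheafify_isSheaf hX)⟩
  let m : S ⟶ X := ⟨(G.sheafify J).ι⟩
  have hm : Mono m := (sheafToPresheaf J _).mono_of_mono_map (by dsimp [m]; infer_instance)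
  let l : ∀ i, F i ⟶ S := fun i => ⟨Subfunctor.lift (π i).hom (by
    rintro U x ⟨y, rfl⟩
    exact G.le_sheafify J _ ⟨i, y, rfl⟩)⟩
  have hl : ∀ i, l i ≫ m = π i := fun i => by ext1; rfl
  have he : Epi m := ⟨fun a b hab => h a b (fun i => by
    rw [← hl i, Category.assoc, Category.assoc, hab])⟩
  have hi : IsIso m := isIso_of_mono_of_epi m
  intro U x
  have hx : ((inv m).hom.app U x).1 = x := by
    have := congrArg (fun t : X ⟶ X => t.hom.app U x) (IsIso.inv_hom_id m)
    exact this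
  have h2 := ((inv m).hom.app U x).2
  rw [hx] at h2
  exact h2

lemma LJS.pullback (h : LJS π) {Y' : Sh J} (g : Y' ⟶ X) :
    LJS (fun i => pullback.snd (π i) g) := by
  intro U y'
  refine J.superset_covering ?_ (h U (g.hom.app U y'))
  rintro V f ⟨i, y, hy⟩
  have sq := (IsPullback.of_hasPullback (π i) g).map
    (sheafToPresheaf J (Type u) ⋙ (evaluation _ _).obj (op V))
  have e : (π i).hom.app (op V) y = g.hom.app (op V) (Y'.obj.map f.op y') := by
    rw [hy]
    exact (NatTrans.naturality_apply g.hom f.op y').symm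
  obtain ⟨p, _, hp2⟩ := Types.exists_of_isPullback sq y (Y'.obj.map f.op y') e
  exact ⟨i, p, hp2⟩

theorem JE.pullback (h : JE π) {Y' : Sh J} (g : Y' ⟶ X) :
    JE (fun i => pullback.snd (π i) g) :=
  JE_of_LJS ((LJS_of_JE h).pullback g)

theorem JE.of_isPullback (h : JE π) {Y' : Sh J} (g : Y' ⟶ X) {P : κ → Sh J}
    (q : ∀ i, P i ⟶ F i) (p : ∀ i, P i ⟶ Y') (hP : ∀ i, IsPullback (q i) (p i) (π i) g) :
    JE p := by
  intro Z a b hab
  apply h.pullback g
  intro i
  have := hab i
  rw [← (hP i).isoPullback_hom_snd, Category.assoc, Category.assoc] at this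
  exact (cancel_epi _).1 this

/-! ### Quasi-compact objects -/

lemma isQC_iff {X : Sh J} : IsQC X ↔ ∀ (ι : Type u) (F : ι → Sh J) (π : ∀ i, F i ⟶ X),
    JE π → ∃ s : Finset ι, JE (fun i : s => π i) := by
  simp only [IsQC, epi_sigmaDesc_iff]

theorem IsQC.of_je_finite {κ : Type w} [Finite κ] {X : Sh J} {F : κ → Sh J} (π : ∀ k, F k ⟶ X)
    (hπ : JE π) (hF : ∀ k, IsQC (F k)) : IsQC X := by
  classical
  rw [isQC_iff]
  intro ι G ρ hρ
  have key : ∀ k, ∃ s : Finset ι, JE (fun i : s => pullback.snd (ρ i) (π k)) := fun k =>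
    (isQC_iff.1 (hF k)) ι _ _ (hρ.pullback (π k))
  choose s hs using key
  haveI := Fintype.ofFinite κ
  refine ⟨Finset.univ.biUnion s, ?_⟩
  intro Z a b hab
  apply hπ
  intro k
  apply hs k
  intro i
  show pullback.snd (ρ i) (π k) ≫ π k ≫ a = pullback.snd (ρ i) (π k) ≫ π k ≫ b
  have hi : (i : ι) ∈ Finset.univ.biUnion s := Finset.mem_biUnion.2 ⟨k, Finset.mem_univ k, i.2⟩
  have := hab ⟨i, hi⟩
  rw [← pullback.condition_assoc, ← pullback.condition_assoc, this]

lemma IsQC.of_epi {X Y : Sh J} (f : X ⟶ Y) [Epi f] (h : IsQC X) : IsQC Y :=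
  IsQC.of_je_finite (κ := Unit) (fun _ => f) (JE.of_epi f) (fun _ => h)

lemma IsQC.of_iso {X Y : Sh J} (e : X ≅ Y) (h : IsQC X) : IsQC Y := IsQC.of_epi e.hom h

/-! ### Quasi-compact morphisms -/

/-- Quasi-compact morphism, phrased with arbitrary pullback squares. -/
def QCHom {X Y : Sh J} (f : X ⟶ Y) : Prop :=
  ∀ ⦃P Y' : Sh J⦄ (p₁ : P ⟶ X) (p₂ : P ⟶ Y') (g : Y' ⟶ Y), IsPullback p₁ p₂ f g → IsQC Y' → IsQC P

lemma isQCHom_iff {X Y : Sh J} (f : X ⟶ Y) : IsQCHom f ↔ QCHom f := by
  constructor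
  · intro h P Y' p₁ p₂ g hP hY'
    exact IsQC.of_iso hP.isoPullback.symm (h Y' g hY')
  · intro h Y' g hY'
    exact h _ _ g (IsPullback.of_hasPullback f g) hY'

lemma QCHom.of_isPullback {X Y X' Y' : Sh J} {a : X' ⟶ X} {b : X' ⟶ Y'} {f : X ⟶ Y} {g : Y' ⟶ Y}
    (sq : IsPullback a b f g) (hf : QCHom f) : QCHom b := by
  intro P Y'' p₁ p₂ h' hP hY''
  exact hf _ _ _ (hP.paste_horiz sq) hY''

lemma QCHom.comp {X Y Z : Sh J} {f : X ⟶ Y} {g : Y ⟶ Z} (hf : QCHom f) (hg : QCHom g) :
    QCHom (f ≫ g) := by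
  intro P Z' p₁ p₂ h hP hZ'
  let l : P ⟶ pullback g h := pullback.lift (p₁ ≫ f) p₂ (by rw [Category.assoc]; exact hP.w)
  have hbig : IsPullback p₁ (l ≫ pullback.snd g h) (f ≫ g) h := by
    rw [pullback.lift_snd]; exact hP
  have htop : IsPullback p₁ l f (pullback.fst g h) :=
    IsPullback.of_bot hbig (pullback.lift_fst _ _ _).symm (IsPullback.of_hasPullback g h)
  exact hf _ _ _ htop (hg _ _ _ (IsPullback.of_hasPullback g h) hZ')

lemma QCHom.of_isIso {X Y : Sh J} (f : X ⟶ Y) [IsIso f] : QCHom f := by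
  intro P Y' p₁ p₂ g hP hY'
  haveI := hP.isIso_snd_of_isIso
  exact IsQC.of_iso (asIso p₂).symm hY'

lemma QCHom.isQC_source {X Y : Sh J} {f : X ⟶ Y} (hf : QCHom f) (hY : IsQC Y) : IsQC X :=
  hf (𝟙 X) f (𝟙 Y) (IsPullback.id_horiz f) hY

/-- A morphism from a quasi-compact object to a quasi-separated object is quasi-compact. -/
lemma QCHom.of_isQC_of_isQS {T W : Sh J} (t : T ⟶ W) (hT : IsQC T) (hW : IsQS W) : QCHom t :=
  (isQCHom_iff t).1 (fun Y' g hY' => hW T Y' t g hT hY')

/-- The morphism property of quasi-compact morphisms. -/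
def QC : MorphismProperty (Sh J) := fun _ _ f => IsQCHom f

lemma QC_iff {X Y : Sh J} (f : X ⟶ Y) : QC f ↔ QCHom f := isQCHom_iff f

instance : (QC (J := J)).IsStableUnderBaseChange where
  of_isPullback sq hg := (isQCHom_iff _).2 (QCHom.of_isPullback sq ((isQCHom_iff _).1 hg))

instance : (QC (J := J)).IsStableUnderComposition where
  comp_mem _ _ hf hg := (isQCHom_iff _).2 (((isQCHom_iff _).1 hf).comp ((isQCHom_iff _).1 hg))

instance : (QC (J := J)).ContainsIdentities where
  id_mem X := (isQCHom_iff _).2 (QCHom.of_isIso (𝟙 X))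

instance : (QC (J := J)).IsMultiplicative where

lemma QS_iff {X Y : Sh J} (f : X ⟶ Y) : IsQSHom f ↔ (QC (J := J)).diagonal f := Iff.rfl

/-! ### Localisation lemmas -/

/-- Quasi-compactness of a fibre product can be tested on a jointly epimorphic family of the
(quasi-compact) base. -/
theorem isQC_of_local {X Y Y' : Sh J} (f : X ⟶ Y) (h : Y' ⟶ Y) (hY' : IsQC Y') {κ : Type u}
    {G : κ → Sh J} (c : ∀ k, G k ⟶ Y') (hc : JE c)
    (hk : ∀ k, ∃ (P : Sh J) (p₁ : P ⟶ X) (p₂ : P ⟶ G k), IsPullback p₁ p₂ f (c k ≫ h) ∧ IsQC P)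
    {Q : Sh J} (q₁ : Q ⟶ X) (q₂ : Q ⟶ Y') (hQ : IsPullback q₁ q₂ f h) : IsQC Q := by
  choose P p₁ p₂ hP hPqc using hk
  obtain ⟨s, hs⟩ := isQC_iff.1 hY' κ G c hc
  let d : ∀ k, P k ⟶ Q := fun k => hQ.lift (p₁ k) (p₂ k ≫ c k) (by
    rw [(hP k).w, Category.assoc])
  have hd : ∀ k, IsPullback (p₂ k) (d k) (c k) q₂ := fun k => by
    have hbig : IsPullback (d k ≫ q₁) (p₂ k) f (c k ≫ h) := by
      rw [hQ.lift_fst]; exact hP k
    exact (IsPullback.of_right hbig (hQ.lift_snd _ _ _) hQ).flip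
  have hJE : JE (fun k : s => d k) :=
    JE.of_isPullback (π := fun k : s => c k) hs q₂ (fun k : s => p₂ k) (fun k : s => d k)
      (fun k => hd k)
  exact IsQC.of_je_finite (fun k : s => d k) hJE (fun k => hPqc k)

/-- Quasi-compact morphisms are local on the target, for the topology of jointly epimorphic
families, in a topos with enough quasi-compact objects. -/
theorem QCHom.of_local (hE : HasQCGenerators J) {X Y : Sh J} (f : X ⟶ Y) {ι : Type u}
    {Yi : ι → Sh J} (g : ∀ i, Yi i ⟶ Y) (hg : JE g) {Xi : ι → Sh J} (a : ∀ i, Xi i ⟶ X)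
    (fi : ∀ i, Xi i ⟶ Yi i) (sq : ∀ i, IsPullback (a i) (fi i) f (g i))
    (hfi : ∀ i, QCHom (fi i)) : QCHom f := by
  intro Q Y' q₁ q₂ h hQ hY'
  -- the family `Yi ×_Y Y' ⟶ Y'`, refined by quasi-compact objects
  have h1 : JE (fun i => pullback.snd (g i) h) := hg.pullback h
  choose L G ρ hGqc hρ using fun i => hE (pullback (g i) h)
  have hρ' : ∀ i, JE (ρ i) := fun i => (epi_sigmaDesc_iff _).1 (hρ i)
  have h2 := h1.trans ρ hρ'
  refine isQC_of_local f h hY' (κ := Σ i, L i)
    (fun p => ρ p.1 p.2 ≫ pullback.snd (g p.1) h) h2 ?_ q₁ q₂ hQ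
  rintro ⟨i, j⟩
  obtain ⟨e, he⟩ : ∃ e : G i j ⟶ Yi i, (ρ i j ≫ pullback.snd (g i) h) ≫ h = e ≫ g i :=
    ⟨ρ i j ≫ pullback.fst (g i) h, by simp only [Category.assoc, pullback.condition]⟩
  let P := pullback f (e ≫ g i)
  let l : P ⟶ Xi i := (sq i).lift (pullback.fst f (e ≫ g i)) (pullback.snd f (e ≫ g i) ≫ e)
    (pullback.condition.trans (Category.assoc _ _ _).symm)
  have hbig : IsPullback (l ≫ a i) (pullback.snd f (e ≫ g i)) f (e ≫ g i) := by
    rw [(sq i).lift_fst]; exact IsPullback.of_hasPullback f (e ≫ g i)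
  have hleft : IsPullback l (pullback.snd f (e ≫ g i)) (fi i) e :=
    IsPullback.of_right hbig ((sq i).lift_snd _ _ _) (sq i)
  refine ⟨P, pullback.fst f (e ≫ g i), pullback.snd f (e ≫ g i), ?_, hfi i _ _ _ hleft (hGqc i j)⟩
  show IsPullback _ _ f ((ρ i j ≫ pullback.snd (g i) h) ≫ h)
  rw [he]
  exact IsPullback.of_hasPullback f (e ≫ g i)

/-! ### Further lemmas -/

lemma QCHom.of_comp_mono {X Y Z : Sh J} (f : X ⟶ Y) (g : Y ⟶ Z) [Mono g] (h : QCHom (f ≫ g)) :
    QCHom f :=
  (isQCHom_iff f).1 ((QC (J := J)).of_postcomp (W' := MorphismProperty.monomorphisms (Sh J)) f g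
    (MorphismProperty.monomorphisms.infer_property g) ((isQCHom_iff _).2 h))

instance QC_postcomp_QS : (QC (J := J)).HasOfPostcompProperty (QC (J := J)).diagonal :=
  (MorphismProperty.hasOfPostcompProperty_iff_le_diagonal).2 le_rfl

set_option backward.isDefEq.respectTransparency false in
/-- If `f ≫ g` is quasi-separated then so is `f`. -/
theorem isQSHom_of_comp {X Y Z : Sh J} (f : X ⟶ Y) (g : Y ⟶ Z) (h : IsQSHom (f ≫ g)) :
    IsQSHom f := by
  have h' : QCHom (pullback.diagonal (f ≫ g)) := (isQCHom_iff _).1 h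
  let j : pullback f f ⟶ pullback (f ≫ g) (f ≫ g) :=
    pullback.lift (pullback.fst f f) (pullback.snd f f) (by
      rw [← Category.assoc, pullback.condition, Category.assoc])
  have hj : pullback.diagonal f ≫ j = pullback.diagonal (f ≫ g) := by
    apply pullback.hom_ext <;> simp [j]
  have : Mono j := ⟨fun a b hab => by
    apply pullback.hom_ext
    · have := congrArg (fun t => t ≫ pullback.fst (f ≫ g) (f ≫ g)) hab
      simpa [j] using this
    · have := congrArg (fun t => t ≫ pullback.snd (f ≫ g) (f ≫ g)) hab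
      simpa [j] using this⟩
  rw [← hj] at h'
  exact (isQCHom_iff _).2 (QCHom.of_comp_mono _ j h')

/-- A monomorphism is quasi-separated. -/
lemma isQSHom_of_mono {X Y : Sh J} (i : X ⟶ Y) [Mono i] : IsQSHom i := by
  have : IsIso (pullback.diagonal i) := (pullback.isIso_diagonal_iff i).2 inferInstance
  exact (isQCHom_iff _).2 (QCHom.of_isIso _)

/-- Source of a quasi-separated morphism to a quasi-separated object is quasi-separated. -/
theorem IsQS.of_isQSHom {X Y : Sh J} (f : X ⟶ Y) (hf : IsQSHom f) (hY : IsQS Y) : IsQS X := by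
  intro A B a b hA hB
  have hd : QCHom (pullback.diagonal f) := (isQCHom_iff _).1 hf
  exact hd _ _ _ (pullback_map_diagonal_isPullback a b f) (hY A B (a ≫ f) (b ≫ f) hA hB)

lemma IsQS.of_mono {X Y : Sh J} (i : X ⟶ Y) [Mono i] (hY : IsQS Y) : IsQS X :=
  IsQS.of_isQSHom i (isQSHom_of_mono i) hY

/-- Quasi-separatedness of an object is local for jointly epimorphic families of quasi-compact
morphisms. -/
theorem IsQS.of_local {Y : Sh J} {ι : Type u} {Yi : ι → Sh J} (g : ∀ i, Yi i ⟶ Y) (hg : JE g)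
    (hqs : ∀ i, IsQS (Yi i)) (hqc : ∀ i, IsQCHom (g i)) : IsQS Y := by
  intro A B a b hA hB
  refine isQC_of_local b a hA (fun i => pullback.snd (g i) a) (hg.pullback a) (fun i => ?_) _ _
    (IsPullback.of_hasPullback a b).flip
  refine ⟨pullback (pullback.fst (g i) a) (pullback.fst (g i) b),
    pullback.snd _ _ ≫ pullback.snd (g i) b, pullback.fst _ _, ?_,
    hqs i _ _ _ _ (hqc i A a hA) (hqc i B b hB)⟩
  have := (IsPullback.of_hasPullback (pullback.fst (g i) a) (pullback.fst (g i) b)).flip.paste_horiz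
    (IsPullback.of_hasPullback (g i) b).flip
  rw [pullback.condition] at this
  exact this

set_option backward.isDefEq.respectTransparency false in
/-- The family `X_i ×_Y X_j ⟶ X ×_Y X` induced by a jointly epimorphic family is jointly
epimorphic. -/
theorem JE.prod_map {X Y : Sh J} {ι : Type w} {Xi : ι → Sh J} {g : ∀ i, Xi i ⟶ X} (hg : JE g)
    (f : X ⟶ Y) :
    JE (fun p : ι × ι => pullback.map (g p.1 ≫ f) (g p.2 ≫ f) f f (g p.1) (g p.2) (𝟙 Y)
      (Category.comp_id _) (Category.comp_id _)) := by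
  have h1 : JE (fun i => pullback.snd (g i) (pullback.fst f f)) := hg.pullback _
  have h2 : ∀ i, JE (fun j => pullback.snd (g j)
      (pullback.snd (g i) (pullback.fst f f) ≫ pullback.snd f f)) := fun i => hg.pullback _
  have h3 := h1.trans _ h2
  apply JE.reindex (fun q : Σ _ : ι, ι => ((q.1, q.2) : ι × ι))
  refine JE.of_factor (fun q : Σ _ : ι, ι =>
    pullback.lift
      (pullback.snd (g q.2) (pullback.snd (g q.1) (pullback.fst f f) ≫ pullback.snd f f) ≫
        pullback.fst (g q.1) (pullback.fst f f))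
      (pullback.fst (g q.2) (pullback.snd (g q.1) (pullback.fst f f) ≫ pullback.snd f f)) ?_) ?_
  · rw [Category.assoc, pullback.condition_assoc, pullback.condition_assoc, pullback.condition,
      Category.assoc]
  · convert h3 using 2 with q
    apply pullback.hom_ext
    · simp [pullback.condition]
    · simp [pullback.condition]

/-- A finite jointly epimorphic family `f k : X k ⟶ Y` with all `f k ≫ g` quasi-compact forces
`g` to be quasi-compact. -/
theorem isQCHom_of_finite_cover {Y Z : Sh J} (g : Y ⟶ Z) {κ : Type w} [Finite κ] {X : κ → Sh J}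
    (f : ∀ k, X k ⟶ Y) (hf : JE f) (h : ∀ k, IsQCHom (f k ≫ g)) : IsQCHom g := by
  rw [isQCHom_iff]
  intro Q Z' q₁ q₂ t hQ hZ'
  have hJE : JE (fun k => pullback.snd (f k) q₁) := hf.pullback q₁
  refine IsQC.of_je_finite _ hJE (fun k => ?_)
  have hk := (isQCHom_iff _).1 (h k)
  exact hk _ _ t ((IsPullback.of_hasPullback (f k) q₁).paste_vert hQ) hZ'

/-- Criterion for a morphism to be quasi-separated, in terms of a jointly epimorphic family of
its source. -/
theorem isQSHom_of_cover (hE : HasQCGenerators J) {X Y : Sh J} (f : X ⟶ Y) {ι : Type u}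
    {Xi : ι → Sh J} (g : ∀ i, Xi i ⟶ X) (hg : JE g)
    (h : ∀ i j, QCHom (pullback.map (g i) (g j) (g i ≫ f) (g j ≫ f) (𝟙 _) (𝟙 _) f
      (Category.id_comp _).symm (Category.id_comp _).symm)) : IsQSHom f := by
  show IsQCHom (pullback.diagonal f)
  rw [isQCHom_iff]
  exact QCHom.of_local hE (pullback.diagonal f) (ι := ι × ι) _ (hg.prod_map f)
    (fun p => pullback.fst (g p.1) (g p.2) ≫ g p.1) _
    (fun p => pullback_map_diagonal_isPullback (g p.1) (g p.2) f) (fun p => h p.1 p.2)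

set_option backward.isDefEq.respectTransparency false in
/-- If `(f i)` is a jointly epimorphic family of quasi-compact morphisms into `Y` and all
`f i ≫ g` are quasi-separated, then `g` is quasi-separated. -/
theorem isQSHom_of_cover_comp (hE : HasQCGenerators J) {Y Z : Sh J} (g : Y ⟶ Z) {ι : Type u}
    {X : ι → Sh J} (f : ∀ i, X i ⟶ Y) (hf : JE f) (hqc : ∀ i, IsQCHom (f i))
    (hqs : ∀ i, IsQSHom (f i ≫ g)) : IsQSHom g := by
  refine isQSHom_of_cover hE g f hf (fun i j => ?_)
  rw [← isQCHom_iff]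
  refine (QC (J := J)).of_postcomp (W' := (QC (J := J)).diagonal) _
    (pullback.fst (f i ≫ g) (f j ≫ g)) ?_ ?_
  · exact (QC (J := J)).diagonal.pullback_fst (f i ≫ g) (f j ≫ g) (hqs j)
  · have e : pullback.map (f i) (f j) (f i ≫ g) (f j ≫ g) (𝟙 _) (𝟙 _) g
        (Category.id_comp _).symm (Category.id_comp _).symm ≫ pullback.fst (f i ≫ g) (f j ≫ g) =
        pullback.fst (f i) (f j) := by simp
    rw [e]
    exact (QC (J := J)).pullback_fst (f i) (f j) (hqc j)

/-! ### Locally coherent and algebraic topoi -/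

section LC

variable {S : Set (Sh J)}

lemma hasQCGenerators_of_generating (hqc : ∀ K ∈ S, IsQC K) (hgen : IsGenerating S) :
    HasQCGenerators J := fun X => by
  obtain ⟨ι, F, π, hF, hπ⟩ := hgen X
  exact ⟨ι, F, π, fun i => hqc _ (hF i), (epi_sigmaDesc_iff π).2 (fun Z a b h => hπ Z a b h)⟩

lemma isQC_pullback_of_mem (hqc : ∀ K ∈ S, IsQC K) (hgen : IsGenerating S)
    (hpb : ClosedUnderPullbacks S) {K A' B : Sh J} (hK : K ∈ S) (hA' : A' ∈ S) (a' : A' ⟶ K)
    (b : B ⟶ K) (hB : IsQC B) {Q : Sh J} (q₁ : Q ⟶ A') (q₂ : Q ⟶ B) (hQ : IsPullback q₁ q₂ a' b) :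
    IsQC Q := by
  obtain ⟨ι, F, π, hF, hπ⟩ := hgen B
  refine isQC_of_local a' b hB π (fun Z x y h => hπ Z x y h) (fun k => ?_) q₁ q₂ hQ
  obtain ⟨P, p, q, hP, hsq⟩ := hpb a' (π k ≫ b) hA' (hF k) hK
  exact ⟨P, p, q, hsq, hqc _ hP⟩

/-- Members of a generating set of quasi-compact objects stable under fibre products are
quasi-separated. -/
theorem isQS_of_mem (hqc : ∀ K ∈ S, IsQC K) (hgen : IsGenerating S)
    (hpb : ClosedUnderPullbacks S) {K : Sh J} (hK : K ∈ S) : IsQS K := by
  intro A B a b hA hB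
  obtain ⟨ι, F, π, hF, hπ⟩ := hgen A
  refine isQC_of_local b a hA π (fun Z x y h => hπ Z x y h) (fun k => ?_) _ _
    (IsPullback.of_hasPullback a b).flip
  exact ⟨_, _, _, (IsPullback.of_hasPullback (π k ≫ a) b).flip,
    isQC_pullback_of_mem hqc hgen hpb hK (hF k) (π k ≫ a) b hB _ _
      (IsPullback.of_hasPullback (π k ≫ a) b)⟩

/-- A morphism from a quasi-separated object to a member of `S` is quasi-separated. -/
theorem isQSHom_of_isQS_of_mem (hqc : ∀ K ∈ S, IsQC K) (hgen : IsGenerating S)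
    (hpb : ClosedUnderPullbacks S) {X K : Sh J} (hK : K ∈ S) (f : X ⟶ K) (hX : IsQS X) :
    IsQSHom f := by
  obtain ⟨ι, F, π, hF, hπ⟩ := hgen X
  refine isQSHom_of_cover (hasQCGenerators_of_generating hqc hgen) f π
    (fun Z x y h => hπ Z x y h) (fun i j => ?_)
  refine QCHom.of_isQC_of_isQS _ (hX _ _ (π i) (π j) (hqc _ (hF i)) (hqc _ (hF j))) ?_
  obtain ⟨P, p, q, hP, hsq⟩ := hpb (π i ≫ f) (π j ≫ f) (hF i) (hF j) hK
  exact IsQS.of_mono hsq.isoPullback.inv (isQS_of_mem hqc hgen hpb hP)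

/-- In an algebraic topos every morphism out of a member of the generating set is
quasi-separated. -/
theorem isQSHom_of_mem (hqc : ∀ K ∈ S, IsQC K) (hgen : IsGenerating S)
    (heq : ClosedUnderEqualizers S) {K Y : Sh J} (hK : K ∈ S) (t : K ⟶ Y) : IsQSHom t := by
  show IsQCHom (pullback.diagonal t)
  rw [isQCHom_iff]
  intro Q T q₁ q₂ h hQ hT
  obtain ⟨ι, F, π, hF, hπ⟩ := hgen T
  refine isQC_of_local (pullback.diagonal t) h hT π (fun Z x y h => hπ Z x y h) (fun k => ?_)
    q₁ q₂ hQ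
  obtain ⟨P, e, w, hP, ⟨hl⟩⟩ := heq ((π k ≫ h) ≫ pullback.fst t t) ((π k ≫ h) ≫ pullback.snd t t)
    (hF k) hK
  exact ⟨P, _, e, isPullback_of_isLimit_fork t (π k ≫ h) e w hl, hqc _ hP⟩

/-- In an algebraic topos every morphism out of a quasi-separated object is quasi-separated. -/
theorem isQSHom_of_isQS_source (hqc : ∀ K ∈ S, IsQC K) (hgen : IsGenerating S)
    (heq : ClosedUnderEqualizers S) {X Y : Sh J} (f : X ⟶ Y) (hX : IsQS X) : IsQSHom f := by
  obtain ⟨ι, F, π, hF, hπ⟩ := hgen X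
  exact isQSHom_of_cover_comp (hasQCGenerators_of_generating hqc hgen) f π
    (fun Z x y h => hπ Z x y h)
    (fun i => (isQCHom_iff _).2 (QCHom.of_isQC_of_isQS (π i) (hqc _ (hF i)) hX))
    (fun i => isQSHom_of_mem hqc hgen heq (hF i) (π i ≫ f))

end LC

end sheaf

end Groth.Agent.H30.TFin
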