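/-
Helper library (helper30): maps from an object into filtered colimits (general part), and
filtered colimits in a sheaf topos.
-/
import Groth.Agent.H30.TFin
import Groth.Agent.H30.CanSheaf
import Groth.Agent.H28.ToposCoprod
import Mathlib.CategoryTheory.Sites.LocallyBijective
import Mathlib.CategoryTheory.Sites.RegularEpi
import Mathlib.CategoryTheory.Limits.Types.Filtered
import Mathlib.CategoryTheory.Filtered.Basic

set_option autoImplicit false

universe v u

namespace Groth.Agent.H30.FiltCol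

open CategoryTheory Limits Opposite ToposFin
open Groth.Agent.H30.TFin Groth.Agent.H30.CanSheaf

section general

variable {𝒞 : Type v} [Category.{u} 𝒞] {I : Type u} [SmallCategory I]

/-- Two maps into stages of a diagram which agree in the cocone point agree at a later stage. -/
def HomInj (X : 𝒞) {D : I ⥤ 𝒞} (c : Cocone D) : Prop :=
  ∀ ⦃i j : I⦄ (a : X ⟶ D.obj i) (b : X ⟶ D.obj j), a ≫ c.ι.app i = b ≫ c.ι.app j →
    ∃ (k : I) (f : i ⟶ k) (g : j ⟶ k), a ≫ D.map f = b ≫ D.map g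

/-- Every map to the cocone point factors through a stage. -/
def HomSurj (X : 𝒞) {D : I ⥤ 𝒞} (c : Cocone D) : Prop :=
  ∀ g : X ⟶ c.pt, ∃ (i : I) (a : X ⟶ D.obj i), a ≫ c.ι.app i = g

lemma post_ι (D : I ⥤ 𝒞) [HasColimit D] (X : 𝒞) (i : I) (a : X ⟶ D.obj i) :
    colimit.post D (coyoneda.obj (op X)) (colimit.ι (D ⋙ coyoneda.obj (op X)) i a) =
      a ≫ colimit.ι D i := by
  exact ConcreteCategory.congr_hom (colimit.ι_post D (coyoneda.obj (op X)) i) a

lemma injective_post_iff [IsFiltered I] (D : I ⥤ 𝒞) [HasColimit D] (X : 𝒞) :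
    Function.Injective (colimit.post D (coyoneda.obj (op X))) ↔
      HomInj X (colimit.cocone D) := by
  constructor
  · intro h i j a b hab
    have e : colimit.ι (D ⋙ coyoneda.obj (op X)) i a =
        colimit.ι (D ⋙ coyoneda.obj (op X)) j b := by
      apply h
      rw [post_ι, post_ι]
      exact hab
    obtain ⟨k, f, g, hfg⟩ := (Types.FilteredColimit.colimit_eq_iff _).1 e
    exact ⟨k, f, g, by simpa using hfg⟩
  · intro h x y hxy
    obtain ⟨i, a, rfl⟩ := Types.jointly_surjective' x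
    obtain ⟨j, b, rfl⟩ := Types.jointly_surjective' y
    rw [post_ι, post_ι] at hxy
    obtain ⟨k, f, g, hfg⟩ := h a b hxy
    exact (Types.FilteredColimit.colimit_eq_iff _).2 ⟨k, f, g, by simpa using hfg⟩

lemma surjective_post_iff (D : I ⥤ 𝒞) [HasColimit D] (X : 𝒞) :
    Function.Surjective (colimit.post D (coyoneda.obj (op X))) ↔
      HomSurj X (colimit.cocone D) := by
  constructor
  · intro h g
    obtain ⟨x, hx⟩ := h g
    obtain ⟨i, a, rfl⟩ := Types.jointly_surjective' x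
    rw [post_ι] at hx
    exact ⟨i, a, hx⟩
  · intro h g
    obtain ⟨i, a, ha⟩ := h g
    exact ⟨colimit.ι (D ⋙ coyoneda.obj (op X)) i a, by rw [post_ι]; exact ha⟩

variable {D : I ⥤ 𝒞}

lemma HomInj.of_isColimit {X : 𝒞} {c c' : Cocone D} (hc : IsColimit c) (hc' : IsColimit c')
    (h : HomInj X c) : HomInj X c' := by
  intro i j a b hab
  apply h
  have hi : ∀ i, c'.ι.app i ≫ (hc'.coconePointUniqueUpToIso hc).hom = c.ι.app i :=
    fun i => IsColimit.comp_coconePointUniqueUpToIso_hom hc' hc i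
  rw [← hi i, ← hi j, ← Category.assoc, ← Category.assoc, hab]

lemma HomSurj.of_isColimit {X : 𝒞} {c c' : Cocone D} (hc : IsColimit c) (hc' : IsColimit c')
    (h : HomSurj X c) : HomSurj X c' := by
  intro g
  obtain ⟨i, a, ha⟩ := h (g ≫ (hc'.coconePointUniqueUpToIso hc).hom)
  refine ⟨i, a, ?_⟩
  rw [← cancel_mono (hc'.coconePointUniqueUpToIso hc).hom, Category.assoc,
    IsColimit.comp_coconePointUniqueUpToIso_hom, ha]

lemma HomInj.of_epi {X Q : 𝒞} (q : X ⟶ Q) [Epi q] {c : Cocone D} (h : HomInj X c) :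
    HomInj Q c := by
  intro i j a b hab
  obtain ⟨k, f, g, hk⟩ := h (q ≫ a) (q ≫ b) (by rw [Category.assoc, Category.assoc, hab])
  refine ⟨k, f, g, ?_⟩
  rw [← cancel_epi q, ← Category.assoc, ← Category.assoc]
  exact hk

lemma HomInj.of_retract {X Q : 𝒞} (i : X ⟶ Q) (p : Q ⟶ X) (hip : i ≫ p = 𝟙 X) {c : Cocone D}
    (h : HomInj Q c) : HomInj X c := by
  intro j j' a b hab
  obtain ⟨k, f, g, hk⟩ := h (p ≫ a) (p ≫ b) (by rw [Category.assoc, Category.assoc, hab])
  refine ⟨k, f, g, ?_⟩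
  calc a ≫ D.map f = i ≫ ((p ≫ a) ≫ D.map f) := by
        rw [Category.assoc, ← Category.assoc i, hip, Category.id_comp]
    _ = i ≫ ((p ≫ b) ≫ D.map g) := by rw [hk]
    _ = b ≫ D.map g := by rw [Category.assoc, ← Category.assoc i, hip, Category.id_comp]

lemma HomSurj.of_retract {X Q : 𝒞} (i : X ⟶ Q) (p : Q ⟶ X) (hip : i ≫ p = 𝟙 X) {c : Cocone D}
    (h : HomSurj Q c) : HomSurj X c := by
  intro g
  obtain ⟨k, a, ha⟩ := h (p ≫ g)
  exact ⟨k, i ≫ a, by rw [Category.assoc, ha, ← Category.assoc, hip, Category.id_comp]⟩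

/-- A map out of a quotient `Q` of `X₀` by a pair `X₁ ⇉ X₀` into a filtered colimit lifts to a
stage, as soon as its restriction to `X₀` does and maps out of `X₁` are eventually equal. -/
lemma lift_of_quotient [IsFiltered I] {c : Cocone D} {X₁ X₀ Q : 𝒞} (a b : X₁ ⟶ X₀)
    (q : X₀ ⟶ Q) [Epi q]
    (hq : ∀ ⦃Z : 𝒞⦄ (k : X₀ ⟶ Z), a ≫ k = b ≫ k → ∃ l : Q ⟶ Z, q ≫ l = k)
    (w : a ≫ q = b ≫ q) (h₁ : HomInj X₁ c) (g : Q ⟶ c.pt) {i : I} (a₀ : X₀ ⟶ D.obj i)
    (ha₀ : a₀ ≫ c.ι.app i = q ≫ g) : ∃ (k : I) (l : Q ⟶ D.obj k), l ≫ c.ι.app k = g := by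
  have e : (a ≫ a₀) ≫ c.ι.app i = (b ≫ a₀) ≫ c.ι.app i := by
    rw [Category.assoc, Category.assoc, ha₀, ← Category.assoc, ← Category.assoc, w]
  obtain ⟨k, f, f', hk⟩ := h₁ _ _ e
  have hk' : a ≫ (a₀ ≫ D.map (f ≫ IsFiltered.coeqHom f f')) =
      b ≫ (a₀ ≫ D.map (f ≫ IsFiltered.coeqHom f f')) := by
    calc a ≫ (a₀ ≫ D.map (f ≫ IsFiltered.coeqHom f f'))
        = ((a ≫ a₀) ≫ D.map f) ≫ D.map (IsFiltered.coeqHom f f') := by
          simp only [Category.assoc, Functor.map_comp]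
      _ = ((b ≫ a₀) ≫ D.map f') ≫ D.map (IsFiltered.coeqHom f f') := by rw [hk]
      _ = b ≫ (a₀ ≫ D.map (f' ≫ IsFiltered.coeqHom f f')) := by
          simp only [Category.assoc, Functor.map_comp]
      _ = b ≫ (a₀ ≫ D.map (f ≫ IsFiltered.coeqHom f f')) := by
          rw [IsFiltered.coeq_condition]
  obtain ⟨l, hl⟩ := hq _ hk'
  refine ⟨_, l, ?_⟩
  rw [← cancel_epi q, ← Category.assoc, hl, Category.assoc, c.w, ha₀]

lemma HomSurj.of_quotient [IsFiltered I] {c : Cocone D} {X₁ X₀ Q : 𝒞} (a b : X₁ ⟶ X₀)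
    (q : X₀ ⟶ Q) [Epi q]
    (hq : ∀ ⦃Z : 𝒞⦄ (k : X₀ ⟶ Z), a ≫ k = b ≫ k → ∃ l : Q ⟶ Z, q ≫ l = k)
    (w : a ≫ q = b ≫ q) (h₁ : HomInj X₁ c) (h₀ : HomSurj X₀ c) : HomSurj Q c := by
  intro g
  obtain ⟨i, a₀, ha₀⟩ := h₀ (q ≫ g)
  exact lift_of_quotient a b q hq w h₁ g a₀ ha₀

/-! ### Directedness of cocones under a pair of objects in a filtered category -/

lemma exists_ub_two [IsFiltered I] {i j : I} (p q : Σ k : I, (i ⟶ k) × (j ⟶ k)) :
    ∃ q' : Σ k : I, (i ⟶ k) × (j ⟶ k),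
      (∃ h : p.1 ⟶ q'.1, p.2.1 ≫ h = q'.2.1 ∧ p.2.2 ≫ h = q'.2.2) ∧
      (∃ h : q.1 ⟶ q'.1, q.2.1 ≫ h = q'.2.1 ∧ q.2.2 ≫ h = q'.2.2) := by
  obtain ⟨k, f, g⟩ := p
  obtain ⟨k', f', g'⟩ := q
  let l := IsFiltered.leftToMax k k'
  let r := IsFiltered.rightToMax k k'
  let c₁ := IsFiltered.coeqHom (f ≫ l) (f' ≫ r)
  have hc₁ : (f ≫ l) ≫ c₁ = (f' ≫ r) ≫ c₁ := IsFiltered.coeq_condition _ _
  let c₂ := IsFiltered.coeqHom ((g ≫ l) ≫ c₁) ((g' ≫ r) ≫ c₁)
  have hc₂ : ((g ≫ l) ≫ c₁) ≫ c₂ = ((g' ≫ r) ≫ c₁) ≫ c₂ := IsFiltered.coeq_condition _ _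
  refine ⟨⟨_, ((f ≫ l) ≫ c₁) ≫ c₂, ((g ≫ l) ≫ c₁) ≫ c₂⟩, ⟨(l ≫ c₁) ≫ c₂, ?_, ?_⟩,
    ⟨(r ≫ c₁) ≫ c₂, ?_, ?_⟩⟩
  · simp only [Category.assoc]
  · simp only [Category.assoc]
  · show f' ≫ (r ≫ c₁) ≫ c₂ = ((f ≫ l) ≫ c₁) ≫ c₂
    rw [hc₁]
    simp only [Category.assoc]
  · show g' ≫ (r ≫ c₁) ≫ c₂ = ((g ≫ l) ≫ c₁) ≫ c₂
    rw [hc₂]
    simp only [Category.assoc]

lemma exists_ub_finset [IsFiltered I] {i j : I} (s : Finset (Σ k : I, (i ⟶ k) × (j ⟶ k))) :
    ∃ q : Σ k : I, (i ⟶ k) × (j ⟶ k), ∀ p ∈ s,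
      ∃ h : p.1 ⟶ q.1, p.2.1 ≫ h = q.2.1 ∧ p.2.2 ≫ h = q.2.2 := by
  classical
  induction s using Finset.induction_on with
  | empty =>
    exact ⟨⟨IsFiltered.max i j, IsFiltered.leftToMax i j, IsFiltered.rightToMax i j⟩,
      fun p hp => absurd hp (Finset.notMem_empty p)⟩
  | insert p s _ ih =>
    obtain ⟨q, hq⟩ := ih
    obtain ⟨q', ⟨h, h1, h2⟩, ⟨h', h1', h2'⟩⟩ := exists_ub_two p q
    refine ⟨q', fun p' hp' => ?_⟩
    rcases Finset.mem_insert.1 hp' with rfl | hp'
    · exact ⟨h, h1, h2⟩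
    · obtain ⟨m, m1, m2⟩ := hq p' hp'
      exact ⟨m ≫ h', by rw [← Category.assoc, m1, h1'], by rw [← Category.assoc, m2, h2']⟩

/-! ### Cokernel pairs of finite subfamilies -/

section cokernelPair

variable [HasColimitsOfSize.{u, u} 𝒞] {K : Type u} {X : 𝒞} {F : K → 𝒞} (π : ∀ k, F k ⟶ X)

/-- The map from the coproduct of a finite subfamily. -/
noncomputable abbrev σ (s : Finset K) : (∐ fun k : s => F k) ⟶ X := Sigma.desc (fun k : s => π k)

lemma π_inl_eq (s : Finset K) (k : K) (hk : k ∈ s) :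
    π k ≫ pushout.inl (σ π s) (σ π s) = π k ≫ pushout.inr (σ π s) (σ π s) := by
  have h : Sigma.ι (fun k : s => F k) ⟨k, hk⟩ ≫ σ π s = π k :=
    Sigma.ι_desc (fun k : s => π k) ⟨k, hk⟩
  rw [← h, Category.assoc, Category.assoc, pushout.condition]

/-- Transition maps between the cokernel pairs. -/
noncomputable def Pmap {s t : Finset K} (h : s ≤ t) :
    pushout (σ π s) (σ π s) ⟶ pushout (σ π t) (σ π t) :=
  pushout.desc (pushout.inl _ _) (pushout.inr _ _) (by
    apply Sigma.hom_ext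
    intro k
    rw [← Category.assoc, ← Category.assoc, Sigma.ι_desc]
    exact π_inl_eq π t k (h k.2))

/-- The diagram of cokernel pairs of the finite subfamilies. -/
noncomputable def DP : Finset K ⥤ 𝒞 where
  obj s := pushout (σ π s) (σ π s)
  map {s t} f := Pmap π (leOfHom f)
  map_id s := by apply pushout.hom_ext <;> simp [Pmap]
  map_comp f g := by
    apply pushout.hom_ext
    · simp only [Pmap]
      rw [pushout.inl_desc, pushout.inl_desc_assoc, pushout.inl_desc]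
    · simp only [Pmap]
      rw [pushout.inr_desc, pushout.inr_desc_assoc, pushout.inr_desc]

noncomputable def il (s : Finset K) : X ⟶ (DP π).obj s := pushout.inl (σ π s) (σ π s)

noncomputable def ir (s : Finset K) : X ⟶ (DP π).obj s := pushout.inr (σ π s) (σ π s)

lemma il_map {s t : Finset K} (f : s ⟶ t) : il π s ≫ (DP π).map f = il π t :=
  pushout.inl_desc _ _ _

lemma ir_map {s t : Finset K} (f : s ⟶ t) : ir π s ≫ (DP π).map f = ir π t :=
  pushout.inr_desc _ _ _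

lemma π_il (s : Finset K) (k : K) (hk : k ∈ s) : π k ≫ il π s = π k ≫ ir π s :=
  π_inl_eq π s k hk

lemma epi_of_il_eq_ir (s : Finset K) (h : il π s = ir π s) :
    Epi (Sigma.desc (fun k : s => π k)) :=
  ⟨fun {Z} u v huv => by
    have h1 : il π s ≫ pushout.desc u v huv = u := pushout.inl_desc _ _ _
    have h2 : ir π s ≫ pushout.desc u v huv = v := pushout.inr_desc _ _ _
    calc u = il π s ≫ pushout.desc u v huv := h1.symm
      _ = ir π s ≫ pushout.desc u v huv := by rw [h]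
      _ = v := h2⟩

/-- If maps out of `X` into the filtered diagram of cokernel pairs are eventually equal, then a
jointly epimorphic family on `X` has a finite jointly epimorphic subfamily. -/
theorem exists_finset_epi_of_homInj (hπ : JE π) (h : HomInj X (colimit.cocone (DP π))) :
    ∃ s : Finset K, Epi (Sigma.desc (fun k : s => π k)) := by
  classical
  have key : il π ∅ ≫ colimit.ι (DP π) ∅ = ir π ∅ ≫ colimit.ι (DP π) ∅ := by
    apply hπ
    intro k
    have hk : (∅ : Finset K) ≤ {k} := Finset.empty_subset _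
    rw [← colimit.w (DP π) (homOfLE hk), ← Category.assoc (il π ∅), ← Category.assoc (ir π ∅),
      il_map, ir_map, ← Category.assoc, ← Category.assoc,
      π_il π {k} k (Finset.mem_singleton_self k)]
  obtain ⟨s, f, g, hfg⟩ := h (il π ∅) (ir π ∅) key
  rw [il_map, ir_map] at hfg
  exact ⟨s, epi_of_il_eq_ir π s hfg⟩

end cokernelPair

end general

section sheaf

variable {C : Type u} [SmallCategory C] {J : GrothendieckTopology C}
variable {I : Type u} [SmallCategory I] [IsFiltered I] (D : I ⥤ Sh J)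

/-- Two sections of stages of a filtered diagram of sheaves with the same image in the
(sheafified presheaf) colimit agree locally at a later stage. -/
lemma locally_eq_sheafifyCocone {i j : I} {U : Cᵒᵖ} (y : (D.obj i).obj.obj U)
    (y' : (D.obj j).obj.obj U)
    (h : ((Sheaf.sheafifyCocone (colimit.cocone (D ⋙ sheafToPresheaf J (Type u)))).ι.app i).hom.app
        U y =
      ((Sheaf.sheafifyCocone (colimit.cocone (D ⋙ sheafToPresheaf J (Type u)))).ι.app j).hom.app
        U y') :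
    ∃ S ∈ J U.unop, ∀ ⦃W : C⦄ (f : W ⟶ U.unop), S f → ∃ (k : I) (a : i ⟶ k) (b : j ⟶ k),
      (D.map a).hom.app (op W) ((D.obj i).obj.map f.op y) =
        (D.map b).hom.app (op W) ((D.obj j).obj.map f.op y') := by
  rw [Sheaf.sheafifyCocone_ι_app_val, Sheaf.sheafifyCocone_ι_app_val] at h
  have h' : (toSheafify J (colimit.cocone (D ⋙ sheafToPresheaf J (Type u))).pt).app U
      (((colimit.cocone (D ⋙ sheafToPresheaf J (Type u))).ι.app i).app U y) =
      (toSheafify J (colimit.cocone (D ⋙ sheafToPresheaf J (Type u))).pt).app U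
      (((colimit.cocone (D ⋙ sheafToPresheaf J (Type u))).ι.app j).app U y') := h
  refine ⟨_, Presheaf.equalizerSieve_mem J _ _ _ h', ?_⟩
  intro W f hf
  have n1 := NatTrans.naturality_apply
    ((colimit.cocone (D ⋙ sheafToPresheaf J (Type u))).ι.app i) f.op y
  have n2 := NatTrans.naturality_apply
    ((colimit.cocone (D ⋙ sheafToPresheaf J (Type u))).ι.app j) f.op y'
  have hf' := n1.trans (Eq.trans hf n2.symm)
  have hcol : IsColimit (((evaluation Cᵒᵖ (Type u)).obj (op W)).mapCocone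
      (colimit.cocone (D ⋙ sheafToPresheaf J (Type u)))) :=
    isColimitOfPreserves _ (colimit.isColimit _)
  exact (Types.FilteredColimit.isColimit_eq_iff _ hcol).1 hf'

lemma locally_eq_of_isColimit {c : Cocone D} (hc : IsColimit c) {i j : I} {U : Cᵒᵖ}
    (y : (D.obj i).obj.obj U) (y' : (D.obj j).obj.obj U)
    (h : (c.ι.app i).hom.app U y = (c.ι.app j).hom.app U y') :
    ∃ S ∈ J U.unop, ∀ ⦃W : C⦄ (f : W ⟶ U.unop), S f → ∃ (k : I) (a : i ⟶ k) (b : j ⟶ k),
      (D.map a).hom.app (op W) ((D.obj i).obj.map f.op y) =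
        (D.map b).hom.app (op W) ((D.obj j).obj.map f.op y') := by
  apply locally_eq_sheafifyCocone D y y'
  have h₁ : IsColimit (Sheaf.sheafifyCocone (colimit.cocone (D ⋙ sheafToPresheaf J (Type u)))) :=
    Sheaf.isColimitSheafifyCocone _ (colimit.isColimit _)
  have hi : ∀ i, c.ι.app i ≫ (hc.coconePointUniqueUpToIso h₁).hom =
      (Sheaf.sheafifyCocone (colimit.cocone (D ⋙ sheafToPresheaf J (Type u)))).ι.app i :=
    fun i => IsColimit.comp_coconePointUniqueUpToIso_hom hc h₁ i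
  rw [← hi i, ← hi j]
  exact congrArg ((hc.coconePointUniqueUpToIso h₁).hom.hom.app U) h

/-- If two maps into stages of a filtered diagram agree in the colimit, the equalizers at the
later stages are jointly epimorphic. -/
theorem je_equalizers {c : Cocone D} (hc : IsColimit c) {T : Sh J} {i j : I}
    (a : T ⟶ D.obj i) (b : T ⟶ D.obj j) (hab : a ≫ c.ι.app i = b ≫ c.ι.app j) :
    JE (fun p : Σ k : I, (i ⟶ k) × (j ⟶ k) =>
      equalizer.ι (a ≫ D.map p.2.1) (b ≫ D.map p.2.2)) := by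
  apply JE_of_LJS
  intro U x
  have h : (c.ι.app i).hom.app U (a.hom.app U x) = (c.ι.app j).hom.app U (b.hom.app U x) :=
    congrArg (fun t : T ⟶ c.pt => t.hom.app U x) hab
  obtain ⟨S, hS, hS'⟩ := locally_eq_of_isColimit D hc _ _ h
  refine J.superset_covering ?_ hS
  intro W f hf
  obtain ⟨k, f', g', hk⟩ := hS' f hf
  have n1 : a.hom.app (op W) (T.obj.map f.op x) = (D.obj i).obj.map f.op (a.hom.app U x) :=
    NatTrans.naturality_apply a.hom f.op x
  have n2 : b.hom.app (op W) (T.obj.map f.op x) = (D.obj j).obj.map f.op (b.hom.app U x) :=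
    NatTrans.naturality_apply b.hom f.op x
  have hx : sec (T.obj.map f.op x) ≫ (a ≫ D.map f') = sec (T.obj.map f.op x) ≫ (b ≫ D.map g') := by
    rw [sec_comp, sec_comp]
    congr 1
    show (D.map f').hom.app (op W) (a.hom.app (op W) (T.obj.map f.op x)) =
      (D.map g').hom.app (op W) (b.hom.app (op W) (T.obj.map f.op x))
    rw [n1, n2]
    exact hk
  refine ⟨⟨k, f', g'⟩, (secEquiv _ W).symm (equalizer.lift _ hx), ?_⟩
  apply sec_injective
  rw [← sec_comp]
  show secEquiv _ W ((secEquiv _ W).symm (equalizer.lift _ hx)) ≫ _ = _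
  rw [Equiv.apply_symm_apply]
  exact equalizer.lift_ι _ hx

/-- Quasi-compact objects: maps into a filtered colimit which agree in the colimit agree at a
later stage. -/
theorem homInj_of_isQC {X : Sh J} (hX : IsQC X) {c : Cocone D} (hc : IsColimit c) :
    HomInj X c := by
  intro i j a b hab
  obtain ⟨s, hs⟩ := (isQC_iff.1 hX) _ _ _ (je_equalizers D hc a b hab)
  obtain ⟨q, hq⟩ := exists_ub_finset s
  refine ⟨q.1, q.2.1, q.2.2, ?_⟩
  apply hs
  rintro ⟨p, hp⟩
  obtain ⟨h, h1, h2⟩ := hq p hp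
  show equalizer.ι (a ≫ D.map p.2.1) (b ≫ D.map p.2.2) ≫ a ≫ D.map q.2.1 =
    equalizer.ι (a ≫ D.map p.2.1) (b ≫ D.map p.2.2) ≫ b ≫ D.map q.2.2
  rw [← h1, ← h2, D.map_comp, D.map_comp]
  calc equalizer.ι (a ≫ D.map p.2.1) (b ≫ D.map p.2.2) ≫ a ≫ D.map p.2.1 ≫ D.map h
      = (equalizer.ι (a ≫ D.map p.2.1) (b ≫ D.map p.2.2) ≫ a ≫ D.map p.2.1) ≫ D.map h := by
        simp only [Category.assoc]
    _ = (equalizer.ι (a ≫ D.map p.2.1) (b ≫ D.map p.2.2) ≫ b ≫ D.map p.2.2) ≫ D.map h := by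
        rw [equalizer.condition]
    _ = equalizer.ι (a ≫ D.map p.2.1) (b ≫ D.map p.2.2) ≫ b ≫ D.map p.2.2 ≫ D.map h := by
        simp only [Category.assoc]

omit [IsFiltered I] in
/-- Conversely an object all of whose maps into filtered colimits are eventually equal when
equal in the colimit is quasi-compact. -/
theorem isQC_of_homInj (X : Sh J)
    (h : ∀ (I : Type u) [SmallCategory I] [IsFiltered I] (D : I ⥤ Sh J),
      HomInj X (colimit.cocone D)) : IsQC X := by
  intro ι F π hepi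
  have hπ : JE π := (epi_sigmaDesc_iff π).1 hepi
  haveI : IsDirected (Finset ι) (· ≤ ·) := by classical infer_instance
  exact exists_finset_epi_of_homInj π hπ (h (Finset ι) (DP π))

/-- Coherent objects (in a topos with quasi-compact generators): maps into a filtered colimit
factor through a stage. -/
theorem homSurj_of_isCoherent (hE : HasQCGenerators J) {X : Sh J} (hX : IsCoherent X)
    {c : Cocone D} (hc : IsColimit c) : HomSurj X c := by
  classical
  intro g
  have hι : JE (fun i => c.ι.app i) := fun Z a b h => hc.hom_ext h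
  have h1 : JE (fun i => pullback.snd (c.ι.app i) g) := hι.pullback g
  choose κ F ρ hF hρ using fun i => hE (pullback (c.ι.app i) g)
  have h2 : JE (fun p : Σ i, κ i => ρ p.1 p.2 ≫ pullback.snd (c.ι.app p.1) g) :=
    h1.trans _ (fun i => (epi_sigmaDesc_iff _).1 (hρ i))
  obtain ⟨s, hs⟩ := (isQC_iff.1 hX.1) _ _ _ h2
  obtain ⟨i₀, hi₀⟩ := IsFiltered.sup_objs_exists (s.image (fun p => p.1))
  have hm : ∀ p : s, Nonempty (p.1.1 ⟶ i₀) := fun p => hi₀ (Finset.mem_image_of_mem _ p.2)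
  let m : ∀ p : s, p.1.1 ⟶ i₀ := fun p => (hm p).some
  let T : Sh J := ∐ fun p : s => F p.1.1 p.1.2
  let t : T ⟶ X := Sigma.desc fun p : s => ρ p.1.1 p.1.2 ≫ pullback.snd (c.ι.app p.1.1) g
  let a : T ⟶ D.obj i₀ := Sigma.desc fun p : s =>
    ρ p.1.1 p.1.2 ≫ pullback.fst (c.ι.app p.1.1) g ≫ D.map (m p)
  have hta : a ≫ c.ι.app i₀ = t ≫ g := by
    apply Sigma.hom_ext
    intro p
    rw [← Category.assoc, ← Category.assoc, Sigma.ι_desc, Sigma.ι_desc]
    simp only [Category.assoc, Cocone.w]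
    rw [pullback.condition]
  haveI : Epi t := (epi_sigmaDesc_iff _).2 hs
  have hT : IsQC T := IsQC.of_je_finite (Sigma.ι _) (fun Z a b h => Sigma.hom_ext _ _ h)
    (fun p => hF _ _)
  have hR : IsQC (pullback t t) := hX.2 _ _ t t hT hT
  haveI : IsRegularEpi t := IsRegularEpiCategory.regularEpiOfEpi t
  refine lift_of_quotient (pullback.fst t t) (pullback.snd t t) t ?_ pullback.condition
    (homInj_of_isQC D hR hc) g a hta
  intro Z k hk
  exact ⟨EffectiveEpi.desc t k (fun g₁ g₂ hg => by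
    rw [← pullback.lift_fst g₁ g₂ hg, Category.assoc, hk, ← Category.assoc,
      pullback.lift_snd]), EffectiveEpi.fac t k _⟩

end sheaf

end Groth.Agent.H30.FiltCol
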