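/-
Helper library (helper30): finitely presentable objects of a sheaf topos
(`ToposFin.IsFP`), coherent objects and filtered colimits.
-/
import Groth.Agent.H30.FiltCol
import Mathlib.CategoryTheory.Presentable.StrongGenerator
import Mathlib.CategoryTheory.Presentable.LocallyPresentable
import Mathlib.CategoryTheory.Limits.Preserves.Limits

set_option autoImplicit false

universe v u

namespace Groth.Agent.H30.FinPres

open CategoryTheory Limits Opposite ToposFin
open Groth.Agent.H30.TFin Groth.Agent.H30.CanSheaf Groth.Agent.H30.FiltCol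

/-! ### Coequalizers of finite subfamilies of relations -/

section relations

variable {𝒞 : Type v} [Category.{u} 𝒞] [HasColimitsOfSize.{u, u} 𝒞] {T R : 𝒞} (p₁ p₂ : R ⟶ T)
  {L : Type u} {H : L → 𝒞} (ρ : ∀ l, H l ⟶ R)

noncomputable abbrev α (r : Finset L) : (∐ fun l : r => H l) ⟶ T :=
  Sigma.desc (fun l : r => ρ l ≫ p₁)

noncomputable abbrev β (r : Finset L) : (∐ fun l : r => H l) ⟶ T :=
  Sigma.desc (fun l : r => ρ l ≫ p₂)

lemma ρ_coeq (r : Finset L) (l : L) (hl : l ∈ r) :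
    (ρ l ≫ p₁) ≫ coequalizer.π (α p₁ ρ r) (β p₂ ρ r) =
      (ρ l ≫ p₂) ≫ coequalizer.π (α p₁ ρ r) (β p₂ ρ r) := by
  have h1 : Sigma.ι (fun l : r => H l) ⟨l, hl⟩ ≫ α p₁ ρ r = ρ l ≫ p₁ :=
    Sigma.ι_desc (fun l : r => ρ l ≫ p₁) ⟨l, hl⟩
  have h2 : Sigma.ι (fun l : r => H l) ⟨l, hl⟩ ≫ β p₂ ρ r = ρ l ≫ p₂ :=
    Sigma.ι_desc (fun l : r => ρ l ≫ p₂) ⟨l, hl⟩
  rw [← h1, ← h2, Category.assoc, Category.assoc, coequalizer.condition]

noncomputable def Qmap {r r' : Finset L} (h : r ≤ r') :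
    coequalizer (α p₁ ρ r) (β p₂ ρ r) ⟶ coequalizer (α p₁ ρ r') (β p₂ ρ r') :=
  coequalizer.desc (coequalizer.π _ _) (by
    apply Sigma.hom_ext
    intro l
    rw [← Category.assoc, ← Category.assoc, Sigma.ι_desc, Sigma.ι_desc]
    exact ρ_coeq p₁ p₂ ρ r' l (h l.2))

/-- The diagram of coequalizers of the finite subfamilies of relations. -/
noncomputable def DQ : Finset L ⥤ 𝒞 where
  obj r := coequalizer (α p₁ ρ r) (β p₂ ρ r)
  map f := Qmap p₁ p₂ ρ (leOfHom f)
  map_id r := by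
    apply coequalizer.hom_ext
    simp only [Qmap]
    rw [coequalizer.π_desc, Category.comp_id]
  map_comp f g := by
    apply coequalizer.hom_ext
    simp only [Qmap]
    rw [coequalizer.π_desc, coequalizer.π_desc_assoc, coequalizer.π_desc]

noncomputable def πQ (r : Finset L) : T ⟶ (DQ p₁ p₂ ρ).obj r :=
  coequalizer.π (α p₁ ρ r) (β p₂ ρ r)

lemma πQ_map {r r' : Finset L} (f : r ⟶ r') :
    πQ p₁ p₂ ρ r ≫ (DQ p₁ p₂ ρ).map f = πQ p₁ p₂ ρ r' :=
  coequalizer.π_desc _ _

instance (r : Finset L) : Epi (πQ p₁ p₂ ρ r) :=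
  coequalizer.π_epi (f := α p₁ ρ r) (g := β p₂ ρ r)

lemma ρ_πQ (r : Finset L) (l : L) (hl : l ∈ r) :
    ρ l ≫ p₁ ≫ πQ p₁ p₂ ρ r = ρ l ≫ p₂ ≫ πQ p₁ p₂ ρ r := by
  have := ρ_coeq p₁ p₂ ρ r l hl
  rw [Category.assoc, Category.assoc] at this
  exact this

lemma p_πQ_ι (hρ : JE ρ) :
    p₁ ≫ πQ p₁ p₂ ρ ∅ ≫ colimit.ι (DQ p₁ p₂ ρ) ∅ =
      p₂ ≫ πQ p₁ p₂ ρ ∅ ≫ colimit.ι (DQ p₁ p₂ ρ) ∅ := by
  classical
  apply hρ
  intro l
  have hl : (∅ : Finset L) ≤ {l} := Finset.empty_subset _
  rw [← colimit.w (DQ p₁ p₂ ρ) (homOfLE hl), ← Category.assoc (πQ p₁ p₂ ρ ∅), πQ_map]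
  have h := ρ_πQ p₁ p₂ ρ {l} l (Finset.mem_singleton_self l)
  calc ρ l ≫ p₁ ≫ πQ p₁ p₂ ρ {l} ≫ colimit.ι (DQ p₁ p₂ ρ) {l}
      = (ρ l ≫ p₁ ≫ πQ p₁ p₂ ρ {l}) ≫ colimit.ι (DQ p₁ p₂ ρ) {l} := by
        simp only [Category.assoc]
    _ = (ρ l ≫ p₂ ≫ πQ p₁ p₂ ρ {l}) ≫ colimit.ι (DQ p₁ p₂ ρ) {l} := by rw [h]
    _ = ρ l ≫ p₂ ≫ πQ p₁ p₂ ρ {l} ≫ colimit.ι (DQ p₁ p₂ ρ) {l} := by
        simp only [Category.assoc]

end relations

section sheaf

variable {C : Type u} [SmallCategory C] {J : GrothendieckTopology C}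

lemma isFP_iff (X : Sh J) : IsFP X ↔
    ∀ (I : Type u) [SmallCategory I] [IsFiltered I] (D : I ⥤ Sh J),
      HomInj X (colimit.cocone D) ∧ HomSurj X (colimit.cocone D) := by
  constructor
  · intro h I _ _ D
    exact ⟨(injective_post_iff D X).1 (h I D).1, (surjective_post_iff D X).1 (h I D).2⟩
  · intro h I _ _ D
    exact ⟨(injective_post_iff D X).2 (h I D).1, (surjective_post_iff D X).2 (h I D).2⟩

lemma hasQCGenerators_of_coherent (hE : HasCoherentGenerators J) : HasQCGenerators J := fun X => by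
  obtain ⟨ι, F, π, hF, hπ⟩ := hE X
  exact ⟨ι, F, π, fun i => (hF i).1, hπ⟩

lemma isFP_of_isCoherent (hE : HasQCGenerators J) {X : Sh J} (hX : IsCoherent X) : IsFP X := by
  rw [isFP_iff]
  intro I _ _ D
  exact ⟨homInj_of_isQC D hX.1 (colimit.isColimit D),
    homSurj_of_isCoherent D hE hX (colimit.isColimit D)⟩

lemma isQC_of_isFP {X : Sh J} (h : IsFP X) : IsQC X :=
  isQC_of_homInj X (fun I _ _ D => ((isFP_iff X).1 h I D).1)

/-- A finite coproduct of coherent objects is coherent. -/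
lemma isCoherent_sigma {κ : Type u} [Finite κ] (G : κ → Sh J) (h : ∀ k, IsCoherent (G k)) :
    IsCoherent (∐ G) := by
  constructor
  · exact IsQC.of_je_finite (Sigma.ι G) (fun Z a b hab => Sigma.hom_ext _ _ hab)
      (fun k => (h k).1)
  · refine IsQS.of_local (Sigma.ι G) (fun Z a b hab => Sigma.hom_ext _ _ hab)
      (fun k => (h k).2) (fun k => ?_)
    exact Groth.Agent.H28.Topos.isQCHom_inj (Cofan.mk (∐ G) (Sigma.ι G))
      (coproductIsCoproduct G) k

lemma isCoherent_of_retract {X Q : Sh J} (i : X ⟶ Q) (p : Q ⟶ X) (hip : i ≫ p = 𝟙 X)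
    (hQ : IsCoherent Q) : IsCoherent X := by
  haveI : IsSplitEpi p := IsSplitEpi.mk' ⟨i, hip⟩
  haveI : IsSplitMono i := IsSplitMono.mk' ⟨p, hip⟩
  exact ⟨IsQC.of_epi p hQ.1, IsQS.of_mono i hQ.2⟩

/-- A retract of a coequalizer of a pair from a quasi-compact object to a coherent object is
finitely presentable. -/
theorem isFP_of_retract_coequalizer (hE : HasQCGenerators J) {X X₀ X₁ : Sh J} (a b : X₁ ⟶ X₀)
    (i : X ⟶ coequalizer a b) (p : coequalizer a b ⟶ X) (h₀ : IsCoherent X₀) (h₁ : IsQC X₁)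
    (hip : i ≫ p = 𝟙 X) : IsFP X := by
  rw [isFP_iff]
  intro I _ _ D
  have hc := colimit.isColimit D
  have i₀ := homInj_of_isQC D h₀.1 hc
  have s₀ := homSurj_of_isCoherent D hE h₀ hc
  have i₁ := homInj_of_isQC D h₁ hc
  have iQ : HomInj (coequalizer a b) (colimit.cocone D) := HomInj.of_epi (coequalizer.π a b) i₀
  have sQ : HomSurj (coequalizer a b) (colimit.cocone D) :=
    HomSurj.of_quotient a b (coequalizer.π a b)
      (fun Z k hk => ⟨coequalizer.desc k hk, coequalizer.π_desc k hk⟩)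
      (coequalizer.condition a b) i₁ s₀
  exact ⟨iQ.of_retract i p hip, sQ.of_retract i p hip⟩

/-- A finitely presentable object is a retract of a coequalizer of a pair of maps between
coherent objects (in a topos with coherent generators). -/
theorem exists_retract_of_isFP (hE : HasCoherentGenerators J) {X : Sh J} (hX : IsFP X) :
    ∃ (X₀ X₁ : Sh J) (a b : X₁ ⟶ X₀) (i : X ⟶ coequalizer a b) (p : coequalizer a b ⟶ X),
      IsCoherent X₀ ∧ IsCoherent X₁ ∧ i ≫ p = 𝟙 X := by
  classical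
  have hqc : IsQC X := isQC_of_isFP hX
  obtain ⟨K, G, π, hG, hπ⟩ := hE X
  obtain ⟨s, hs⟩ := hqc K G π hπ
  let T : Sh J := ∐ fun k : s => G k
  let t : T ⟶ X := Sigma.desc fun k : s => π k
  haveI : Epi t := hs
  have hT : IsCoherent T := isCoherent_sigma _ (fun k => hG k)
  obtain ⟨L, H, ρ, hH, hρ⟩ := hE (pullback t t)
  have hρ' : JE ρ := (epi_sigmaDesc_iff ρ).1 hρ
  have hq : ∀ r : Finset L, α (pullback.fst t t) ρ r ≫ t = β (pullback.snd t t) ρ r ≫ t :=
    fun r => by
      apply Sigma.hom_ext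
      intro l
      rw [← Category.assoc, ← Category.assoc, Sigma.ι_desc, Sigma.ι_desc, Category.assoc,
        Category.assoc, pullback.condition]
  let q : ∀ r : Finset L, (DQ (pullback.fst t t) (pullback.snd t t) ρ).obj r ⟶ X :=
    fun r => coequalizer.desc t (hq r)
  have hπq : ∀ r, πQ (pullback.fst t t) (pullback.snd t t) ρ r ≫ q r = t :=
    fun r => coequalizer.π_desc _ _
  let cc : Cocone (DQ (pullback.fst t t) (pullback.snd t t) ρ) :=
    { pt := X
      ι :=
        { app := q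
          naturality := fun r r' f => by
            rw [← cancel_epi (πQ (pullback.fst t t) (pullback.snd t t) ρ r), ← Category.assoc,
              πQ_map, hπq]
            dsimp only [Functor.const_obj_obj, Functor.const_obj_map]
            rw [Category.comp_id, hπq] } }
  let φ : colimit (DQ (pullback.fst t t) (pullback.snd t t) ρ) ⟶ X := colimit.desc _ cc
  have hφ : ∀ r, colimit.ι (DQ (pullback.fst t t) (pullback.snd t t) ρ) r ≫ φ = q r :=
    fun r => colimit.ι_desc cc r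
  haveI : IsRegularEpi t := IsRegularEpiCategory.regularEpiOfEpi t
  have hkk := p_πQ_ι (pullback.fst t t) (pullback.snd t t) ρ hρ'
  let ψ : X ⟶ colimit (DQ (pullback.fst t t) (pullback.snd t t) ρ) :=
    EffectiveEpi.desc t (πQ (pullback.fst t t) (pullback.snd t t) ρ ∅ ≫ colimit.ι _ ∅)
      (fun g₁ g₂ hg => by
        rw [← pullback.lift_fst g₁ g₂ hg, Category.assoc, hkk, ← Category.assoc,
          pullback.lift_snd])
  have hψ : t ≫ ψ = πQ (pullback.fst t t) (pullback.snd t t) ρ ∅ ≫ colimit.ι _ ∅ :=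
    EffectiveEpi.fac t _ _
  have hψφ : ψ ≫ φ = 𝟙 X := by
    rw [← cancel_epi t, ← Category.assoc, hψ, Category.assoc, hφ, hπq, Category.comp_id]
  haveI : IsDirected (Finset L) (· ≤ ·) := by classical infer_instance
  obtain ⟨r, i, hi⟩ := ((isFP_iff X).1 hX (Finset L)
    (DQ (pullback.fst t t) (pullback.snd t t) ρ)).2 ψ
  have hi' : i ≫ colimit.ι (DQ (pullback.fst t t) (pullback.snd t t) ρ) r = ψ := hi
  have hfin : i ≫ q r = 𝟙 X := by
    calc i ≫ q r = i ≫ colimit.ι (DQ (pullback.fst t t) (pullback.snd t t) ρ) r ≫ φ := by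
          rw [hφ r]
      _ = (i ≫ colimit.ι (DQ (pullback.fst t t) (pullback.snd t t) ρ) r) ≫ φ :=
          (Category.assoc _ _ _).symm
      _ = 𝟙 X := by rw [hi', hψφ]
  exact ⟨T, ∐ fun l : r => H l, α (pullback.fst t t) ρ r, β (pullback.snd t t) ρ r, i, q r, hT,
    isCoherent_sigma _ (fun l => hH l), hfin⟩

/-! ### Comparison with Mathlib's `ℵ₀`-presentable objects -/

attribute [local instance] Cardinal.fact_isRegular_aleph0

lemma isCardinalPresentable_of_isFP {X : Sh J} (h : IsFP X) :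
    IsCardinalPresentable X Cardinal.aleph0.{u} := by
  constructor
  intro I _ _
  haveI : IsFiltered I := isFiltered_of_isCardinalFiltered I Cardinal.aleph0.{u}
  constructor
  intro D
  haveI : IsIso (colimit.post D (coyoneda.obj (op X))) := (isIso_iff_bijective _).2 (h I D)
  exact preservesColimit_of_isIso_post (coyoneda.obj (op X)) D

lemma isFP_of_isCardinalPresentable {X : Sh J} [IsCardinalPresentable X Cardinal.aleph0.{u}] :
    IsFP X := by
  intro I _ _ D
  haveI : IsCardinalFiltered I Cardinal.aleph0.{u} :=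
    (isCardinalFiltered_aleph0_iff I).2 inferInstance
  haveI := preservesColimitsOfShape_of_isCardinalPresentable X Cardinal.aleph0.{u} I
  exact (isIso_iff_bijective _).1 inferInstance

/-- If finitely presentable objects are coherent (and coherent objects generate), every object is
a small filtered colimit of coherent objects. -/
theorem exists_filtered_colimit_of_coherent (hE : HasCoherentGenerators J)
    (hfp : ∀ X : Sh J, IsFP X → IsCoherent X) (X : Sh J) :
    ∃ (I : Type u) (_ : SmallCategory I) (_ : IsFiltered I) (D : I ⥤ Sh J),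
      (∀ i, IsCoherent (D.obj i)) ∧ Nonempty (X ≅ colimit D) := by
  choose κ G ρ hG hρ using fun V : C => hE (rep J V)
  let P : ObjectProperty (Sh J) := ObjectProperty.ofObj (fun p : Σ V : C, κ V => G p.1 p.2)
  have hQC := hasQCGenerators_of_coherent hE
  have key : ∀ {Y Z : Sh J} (f g : Y ⟶ Z),
      (∀ (A : Sh J) (_ : P A) (h : A ⟶ Y), h ≫ f = h ≫ g) → f = g := by
    intro Y Z f g h
    apply je_sec Y
    rintro ⟨V, y⟩
    dsimp only
    apply (epi_sigmaDesc_iff (ρ V)).1 (hρ V)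
    intro k
    have := h _ (ObjectProperty.ofObj_apply (fun p : Σ V : C, κ V => G p.1 p.2) ⟨V, k⟩)
      (ρ V k ≫ sec y)
    simpa only [Category.assoc] using this
  have hsep : P.IsSeparating := fun Y Z f g h => key f g h
  have hstrong : P.IsStrongGenerator := by
    rw [ObjectProperty.isStrongGenerator_iff]
    refine ⟨hsep, fun Y Z i _ hi => ?_⟩
    haveI : Epi i := ⟨fun {W} u v huv => key u v (fun A hA h => by
      obtain ⟨f, hf⟩ := hi A hA h
      have hf' : f ≫ i = h := hf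
      rw [← hf', Category.assoc, Category.assoc, huv])⟩
    exact isIso_of_mono_of_epi i
  have hP : P ≤ isCardinalPresentable (Sh J) Cardinal.aleph0.{u} := by
    rintro _ ⟨p⟩
    exact isCardinalPresentable_of_isFP (isFP_of_isCoherent hQC (hG p.1 p.2))
  haveI : IsCardinalLocallyPresentable (Sh J) Cardinal.aleph0.{u} :=
    (IsCardinalLocallyPresentable.iff_exists_isStrongGenerator (Sh J) Cardinal.aleph0.{u}).2
      ⟨P, inferInstance, hstrong, hP⟩
  obtain ⟨P', _, hP'⟩ :=
    HasCardinalFilteredGenerator.exists_generator (Sh J) Cardinal.aleph0.{u}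
  obtain ⟨I, _, _, ⟨p⟩⟩ := hP'.exists_colimitsOfShape X
  haveI : IsFiltered I := isFiltered_of_isCardinalFiltered I Cardinal.aleph0.{u}
  refine ⟨I, inferInstance, inferInstance, p.diag, fun i => ?_, ⟨?_⟩⟩
  · haveI : IsCardinalPresentable (p.diag.obj i) Cardinal.aleph0.{u} :=
      hP'.le_isCardinalPresentable _ (p.prop_diag_obj i)
    exact hfp _ isFP_of_isCardinalPresentable
  · exact p.isColimit.coconePointUniqueUpToIso (colimit.isColimit _)

end sheaf

end Groth.Agent.H30.FinPres
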