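import Mathlib.CategoryTheory.Sites.PrecoverageToGrothendieck
import Mathlib.CategoryTheory.Sites.IsSheafFor
import Mathlib.CategoryTheory.Sites.Sheaf

/-! Topology generated by two precoverages `P ⊔ P'` (helper30). -/

set_option autoImplicit false

universe w v₁ u₁

namespace Groth.Agent.H30.GenTop

open CategoryTheory Limits Opposite

variable {C : Type u₁} [Category.{v₁} C]

theorem mem_sup_iff {P P' : Precoverage C} {X : C} {R : Presieve X} :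
    R ∈ (P ⊔ P') X ↔ R ∈ P X ∨ R ∈ P' X := Iff.rfl

theorem bind_mem {J : Precoverage C} [J.IsStableUnderComposition] {X : C} {R : Presieve X}
    (hR : R ∈ J X) (Q : ∀ ⦃Y : C⦄ ⦃f : Y ⟶ X⦄, R f → Presieve Y)
    (hQ : ∀ ⦃Y : C⦄ ⦃f : Y ⟶ X⦄ (hf : R f), Q hf ∈ J Y) : R.bind Q ∈ J X := by
  let ι := { x : Σ Z, (Z ⟶ X) // R x.2 }
  let σ (i : ι) := { y : Σ W, (W ⟶ i.1.1) // Q i.2 y.2 }
  have h1 : Presieve.ofArrows (fun i : ι => i.1.1) (fun i => i.1.2) = R :=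
    le_antisymm (fun Z g ⟨x⟩ ↦ x.2) (fun Z g hg ↦ .mk (⟨⟨_, _⟩, hg⟩ : ι))
  have h2 : ∀ i : ι, Presieve.ofArrows (fun j : σ i => j.1.1) (fun j => j.1.2) = Q i.2 :=
    fun i => le_antisymm (fun Z g ⟨x⟩ ↦ x.2) (fun Z g hg ↦ .mk (⟨⟨_, _⟩, hg⟩ : σ i))
  have key := Precoverage.comp_mem_coverings (J := J) (fun i : ι => i.1.2) (by rw [h1]; exact hR)
    (fun i (j : σ i) => j.1.2) (fun i => by rw [h2 i]; exact hQ i.2)
  convert key using 1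
  refine le_antisymm ?_ ?_
  · rintro Z h ⟨Y, g, f, hf, hg, rfl⟩
    exact .mk (⟨⟨⟨_, f⟩, hf⟩, ⟨⟨_, g⟩, hg⟩⟩ : Σ i : ι, σ i)
  · rintro Z h ⟨p⟩
    exact ⟨_, p.2.1.2, p.1.1.2, p.1.2, p.2.2, rfl⟩

/-- The hypotheses of the statements S6052/S6053, bundled. -/
structure Hyp (C' : C → Prop) (P P' : Precoverage C) : Prop where
  hP'C : ∀ ⦃X : C⦄ ⦃R : Presieve X⦄, R ∈ P' X → C' X ∧ ∀ ⦃Y : C⦄ ⦃f : Y ⟶ X⦄, R f → C' Y
  hP'id : ∀ ⦃X : C⦄, C' X → Presieve.singleton (𝟙 X) ∈ P' X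
  ha : ∀ ⦃X : C⦄ ⦃R : Presieve X⦄, R ∈ P' X → ∀ ⦃T : C⦄ (g : T ⟶ X), C' T →
      ∃ _ : R.HasPullbacks g, Presieve.pullbackArrows g R ∈ P' T
  hb : ∀ X : C, ∃ R ∈ P X, ∀ ⦃Y : C⦄ ⦃f : Y ⟶ X⦄, R f → C' Y
  hc : ∀ ⦃S : C⦄ ⦃R₁ : Presieve S⦄, R₁ ∈ P' S →
      ∀ (R₂ : ∀ ⦃Y : C⦄ ⦃f : Y ⟶ S⦄, R₁ f → Presieve Y),
        (∀ ⦃Y : C⦄ ⦃f : Y ⟶ S⦄ (hf : R₁ f), R₂ hf ∈ P Y ∧ ∀ ⦃Z : C⦄ ⦃g : Z ⟶ Y⦄, R₂ hf g → C' Z) →
      ∀ (R₃ : ∀ ⦃Y : C⦄ ⦃f : Y ⟶ S⦄ (hf : R₁ f) ⦃Z : C⦄ ⦃g : Z ⟶ Y⦄, R₂ hf g → Presieve Z),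
        (∀ ⦃Y : C⦄ ⦃f : Y ⟶ S⦄ (hf : R₁ f) ⦃Z : C⦄ ⦃g : Z ⟶ Y⦄ (hg : R₂ hf g), R₃ hf hg ∈ P' Z) →
      ∃ T ∈ P' S, ∀ ⦃W : C⦄ ⦃q : W ⟶ S⦄, T q →
        ∃ (Y Z V : C) (f : Y ⟶ S) (hf : R₁ f) (g : Z ⟶ Y) (hg : R₂ hf g) (h : V ⟶ Z) (_ : R₃ hf hg h)
          (r : W ⟶ V), r ≫ h ≫ g ≫ f = q

/-- `S'` contains a composite family (`P`, then sources in `C'`, then `P'`). -/
def Good₂ (C' : C → Prop) (P P' : Precoverage C) (X : C) (S' : Sieve X) : Prop :=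
  ∃ R ∈ P X, ∀ ⦃Y : C⦄ ⦃f : Y ⟶ X⦄, R f →
    C' Y ∧ ∃ R' ∈ P' Y, ∀ ⦃Z : C⦄ ⦃g : Z ⟶ Y⦄, R' g → S' (g ≫ f)

section

variable {C' : C → Prop} {P P' : Precoverage C}

theorem good₂_iff {X : C} {S' : Sieve X} : Good₂ C' P P' X S' ↔
    ∃ (R : Presieve X) (_ : R ∈ P X) (_ : ∀ ⦃Y : C⦄ ⦃f : Y ⟶ X⦄, R f → C' Y)
      (R' : ∀ ⦃Y : C⦄ ⦃f : Y ⟶ X⦄, R f → Presieve Y),
      (∀ ⦃Y : C⦄ ⦃f : Y ⟶ X⦄ (hf : R f), R' hf ∈ P' Y) ∧
      ∀ ⦃Y : C⦄ ⦃f : Y ⟶ X⦄ (hf : R f) ⦃Z : C⦄ ⦃g : Z ⟶ Y⦄, R' hf g → S' (g ≫ f) := by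
  constructor
  · rintro ⟨R, hR, h⟩
    choose hC R' hR' hS using h
    exact ⟨R, hR, hC, R', hR', hS⟩
  · rintro ⟨R, hR, hC, R', hR', hS⟩
    exact ⟨R, hR, fun Y f hf => ⟨hC hf, R' hf, hR' hf, fun Z g hg => hS hf hg⟩⟩

theorem mem_of_good {X : C} {S' : Sieve X} (h : Good₂ C' P P' X S') :
    S' ∈ (P ⊔ P').toGrothendieck X := by
  obtain ⟨R, hR, h⟩ := h
  have h1 : Sieve.generate R ∈ (P ⊔ P').toGrothendieck X :=
    Precoverage.generate_mem_toGrothendieck (mem_sup_iff.2 (Or.inl hR))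
  refine (P ⊔ P').toGrothendieck.transitive h1 S' ?_
  rintro Y f ⟨Z, g, r, hr, rfl⟩
  obtain ⟨_, R', hR', hS⟩ := h hr
  have h2 : Sieve.generate R' ∈ (P ⊔ P').toGrothendieck Z :=
    Precoverage.generate_mem_toGrothendieck (mem_sup_iff.2 (Or.inr hR'))
  have h3 : Sieve.generate R' ≤ S'.pullback r := by
    rw [Sieve.generate_le_iff]
    intro W k hk
    exact hS hk
  have h4 := (P ⊔ P').toGrothendieck.superset_covering h3 h2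
  rw [Sieve.pullback_comp]
  exact (P ⊔ P').toGrothendieck.pullback_stable g h4

variable [P.HasPullbacks] [P.IsStableUnderBaseChange] [P.IsStableUnderComposition]

theorem refineP (H : Hyp C' P P') {X : C} {R : Presieve X} (hR : R ∈ P X) :
    ∃ R₁ ∈ P X, ∀ ⦃Z : C⦄ ⦃h : Z ⟶ X⦄, R₁ h →
      C' Z ∧ ∃ (Y : C) (g : Z ⟶ Y) (f : Y ⟶ X), R f ∧ g ≫ f = h := by
  choose Q hQ hQC using H.hb
  refine ⟨R.bind (fun Y _ _ => Q Y), bind_mem hR _ (fun Y f hf => hQ Y), ?_⟩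
  rintro Z h ⟨Y, g, f, hf, hg, rfl⟩
  exact ⟨hQC Y hg, Y, g, f, hf, rfl⟩

theorem good_of_P (H : Hyp C' P P') {X : C} {R : Presieve X} (hR : R ∈ P X) (S' : Sieve X)
    (hRS : ∀ ⦃Y : C⦄ ⦃f : Y ⟶ X⦄, R f → S' f) : Good₂ C' P P' X S' := by
  obtain ⟨R₁, hR₁, h₁⟩ := refineP H hR
  refine ⟨R₁, hR₁, fun Z h hh => ?_⟩
  obtain ⟨hC, Y, g, f, hf, rfl⟩ := h₁ hh
  refine ⟨hC, Presieve.singleton (𝟙 Z), H.hP'id hC, ?_⟩
  rintro W k ⟨⟩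
  rw [Category.id_comp]
  exact S'.downward_closed (hRS hf) g

theorem good_of_P' (H : Hyp C' P P') {X : C} {R : Presieve X} (hR : R ∈ P' X) (S' : Sieve X)
    (hRS : ∀ ⦃Y : C⦄ ⦃f : Y ⟶ X⦄, R f → S' f) : Good₂ C' P P' X S' := by
  obtain ⟨R₀, hR₀, hC₀⟩ := H.hb X
  refine ⟨R₀, hR₀, fun Y f hf => ⟨hC₀ hf, ?_⟩⟩
  obtain ⟨hpb, hmem⟩ := H.ha hR f (hC₀ hf)
  refine ⟨_, hmem, ?_⟩
  rintro Z g ⟨W, h, hh⟩
  have : HasPullback h f := Presieve.hasPullback f hh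
  have c := pullback.condition (f := h) (g := f)
  have := S'.downward_closed (hRS hh) (pullback.fst h f)
  rw [c] at this
  exact this

theorem good_top (H : Hyp C' P P') (X : C) : Good₂ C' P P' X ⊤ := by
  obtain ⟨R₀, hR₀, _⟩ := H.hb X
  exact good_of_P H hR₀ ⊤ (fun _ _ _ => trivial)

theorem good_pullback (H : Hyp C' P P') {X : C} {S : Sieve X} (hS : Good₂ C' P P' X S) {Y : C}
    (f : Y ⟶ X) : Good₂ C' P P' Y (S.pullback f) := by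
  obtain ⟨R, hR, h⟩ := hS
  have : R.HasPullbacks f := P.hasPullbacks_of_mem f hR
  obtain ⟨R₁, hR₁, h₁⟩ := refineP H (Precoverage.pullbackArrows_mem f hR)
  refine ⟨R₁, hR₁, fun W k hk => ?_⟩
  obtain ⟨hCW, V, g, p, hp, rfl⟩ := h₁ hk
  obtain ⟨Z, r, hr⟩ := hp
  obtain ⟨hCZ, R', hR', hS'⟩ := h hr
  have : HasPullback r f := Presieve.hasPullback f hr
  obtain ⟨hpb, hmem⟩ := H.ha hR' (g ≫ pullback.fst r f) hCW
  refine ⟨hCW, _, hmem, ?_⟩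
  rintro U q ⟨T, t, ht⟩
  have : HasPullback t (g ≫ pullback.fst r f) := Presieve.hasPullback _ ht
  have c1 := pullback.condition (f := r) (g := f)
  have c2 := pullback.condition (f := t) (g := g ≫ pullback.fst r f)
  have e : (pullback.snd t (g ≫ pullback.fst r f) ≫ g ≫ pullback.snd r f) ≫ f =
      pullback.fst t (g ≫ pullback.fst r f) ≫ t ≫ r := by
    calc (pullback.snd t (g ≫ pullback.fst r f) ≫ g ≫ pullback.snd r f) ≫ f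
        = pullback.snd t (g ≫ pullback.fst r f) ≫ g ≫ (pullback.snd r f ≫ f) := by
          simp only [Category.assoc]
      _ = pullback.snd t (g ≫ pullback.fst r f) ≫ g ≫ (pullback.fst r f ≫ r) := by rw [c1]
      _ = (pullback.snd t (g ≫ pullback.fst r f) ≫ (g ≫ pullback.fst r f)) ≫ r := by
          simp only [Category.assoc]
      _ = (pullback.fst t (g ≫ pullback.fst r f) ≫ t) ≫ r := by rw [c2]
      _ = pullback.fst t (g ≫ pullback.fst r f) ≫ t ≫ r := Category.assoc _ _ _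
  have := S.downward_closed (hS' ht) (pullback.fst t (g ≫ pullback.fst r f))
  rw [← e] at this
  exact this

theorem good_transitive (H : Hyp C' P P') {X : C} {S T : Sieve X} (hS : Good₂ C' P P' X S)
    (hT : ∀ ⦃Y : C⦄ ⦃f : Y ⟶ X⦄, S f → Good₂ C' P P' Y (T.pullback f)) :
    Good₂ C' P P' X T := by
  obtain ⟨R, hR, h⟩ := hS
  refine ⟨R, hR, fun Y f hf => ?_⟩
  obtain ⟨hCY, R₁, hR₁, hS₁⟩ := h hf
  have key : ∀ ⦃Z : C⦄ ⦃g : Z ⟶ Y⦄ (_ : R₁ g), ∃ R₂ ∈ P Z, ∀ ⦃V : C⦄ ⦃k : V ⟶ Z⦄, R₂ k →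
      C' V ∧ ∃ R₃ ∈ P' V, ∀ ⦃W : C⦄ ⦃l : W ⟶ V⦄, R₃ l → T ((l ≫ k) ≫ g ≫ f) :=
    fun Z g hg => hT (hS₁ hg)
  choose R₂ hR₂ h₂ using key
  choose hC₂ R₃ hR₃ hT₃ using h₂
  obtain ⟨T', hT', hq⟩ := H.hc hR₁ R₂ (fun Z g hg => ⟨hR₂ hg, fun V k hk => hC₂ hg hk⟩) R₃
    (fun Z g hg V k hk => hR₃ hg hk)
  refine ⟨hCY, T', hT', fun W q hq' => ?_⟩
  obtain ⟨Y', Z, V, f', hf', g, hg, h', hh', r, rfl⟩ := hq hq'
  have := T.downward_closed (hT₃ hf' hg hh') r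
  simpa only [Category.assoc] using this

theorem good_of_saturate (H : Hyp C' P P') {X : C} {S' : Sieve X}
    (hS : (P ⊔ P').Saturate X S') : Good₂ C' P P' X S' := by
  induction hS with
  | of X R hR =>
    rcases mem_sup_iff.1 hR with hR | hR
    · exact good_of_P H hR _ (fun Y f hf => Sieve.le_generate R _ _ hf)
    · exact good_of_P' H hR _ (fun Y f hf => Sieve.le_generate R _ _ hf)
  | top X => exact good_top H X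
  | pullback X S _ Y f ih => exact good_pullback H ih f
  | transitive X S T _ _ ih1 ih2 => exact good_transitive H ih1 (fun Y f hf => ih2 hf)

theorem good_of_mem (H : Hyp C' P P') {X : C} {S' : Sieve X}
    (hS : S' ∈ (P ⊔ P').toGrothendieck X) : Good₂ C' P P' X S' :=
  good_of_saturate H hS

theorem mem_iff (H : Hyp C' P P') (X : C) (S' : Sieve X) :
    S' ∈ (P ⊔ P').toGrothendieck X ↔
      ∃ (R : Presieve X) (_ : R ∈ P X) (_ : ∀ ⦃Y : C⦄ ⦃f : Y ⟶ X⦄, R f → C' Y)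
        (R' : ∀ ⦃Y : C⦄ ⦃f : Y ⟶ X⦄, R f → Presieve Y),
        (∀ ⦃Y : C⦄ ⦃f : Y ⟶ X⦄ (hf : R f), R' hf ∈ P' Y) ∧
        ∀ ⦃Y : C⦄ ⦃f : Y ⟶ X⦄ (hf : R f) ⦃Z : C⦄ ⦃g : Z ⟶ Y⦄, R' hf g → S' (g ≫ f) :=
  ⟨fun h => good₂_iff.1 (good_of_mem H h), fun h => mem_of_good (good₂_iff.2 h)⟩

end

end Groth.Agent.H30.GenTop

namespace Groth.Agent.H30.GenTop

open CategoryTheory Limits Opposite

variable {C : Type u₁} [Category.{v₁} C]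

/-- A presheaf separated for `J`, which is a sheaf for a family `U` and for families `B f` on the
sources of `U`, is a sheaf for every sieve containing the composite family. -/
theorem isSheafFor_of_composite (J : GrothendieckTopology C) (F : Cᵒᵖ ⥤ Type w)
    (hsep : Presieve.IsSeparated J F) {Y : C} (S : Sieve Y)
    (U : Presieve Y) (hUJ : Sieve.generate U ∈ J Y) (hU : Presieve.IsSheafFor F U)
    (B : ∀ ⦃Z : C⦄ ⦃f : Z ⟶ Y⦄, U f → Presieve Z)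
    (hBJ : ∀ ⦃Z : C⦄ ⦃f : Z ⟶ Y⦄ (hf : U f), Sieve.generate (B hf) ∈ J Z)
    (hB : ∀ ⦃Z : C⦄ ⦃f : Z ⟶ Y⦄ (hf : U f), Presieve.IsSheafFor F (B hf))
    (hS : ∀ ⦃Z : C⦄ ⦃f : Z ⟶ Y⦄ (hf : U f) ⦃W : C⦄ ⦃g : W ⟶ Z⦄, B hf g → S (g ≫ f)) :
    Presieve.IsSheafFor F (S : Presieve Y) := by
  obtain ⟨Sg, hSgdef⟩ : ∃ Sg : Sieve Y,
      Sg = Sieve.bind U (fun Z f hf => Sieve.generate (B hf)) := ⟨_, rfl⟩
  have hSgmem : ∀ ⦃V : C⦄ (m : V ⟶ Y), Sg m ↔ ∃ (Z : C) (f : Z ⟶ Y) (hf : U f) (Z' : C)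
      (b : Z' ⟶ Z) (_ : B hf b) (k : V ⟶ Z'), k ≫ b ≫ f = m := by
    intro V m
    rw [hSgdef]
    constructor
    · rintro ⟨Z, g, f, hf, ⟨Z', k, b, hb, rfl⟩, rfl⟩
      exact ⟨Z, f, hf, Z', b, hb, k, by simp⟩
    · rintro ⟨Z, f, hf, Z', b, hb, k, rfl⟩
      exact ⟨Z, k ≫ b, f, hf, ⟨Z', k, b, hb, rfl⟩, by simp⟩
  have hSgJ : Sg ∈ J Y := by
    refine J.transitive hUJ Sg ?_
    rintro Z f ⟨Z₀, h, u, hu, rfl⟩
    rw [Sieve.pullback_comp]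
    refine J.pullback_stable h (J.superset_covering ?_ (hBJ hu))
    rw [hSgdef]
    exact Sieve.le_pullback_bind U (fun Z f hf => Sieve.generate (B hf)) u hu
  have hSgS : Sg ≤ S := by
    intro V m hm
    obtain ⟨Z, f, hf, Z', b, hb, k, rfl⟩ := (hSgmem m).1 hm
    exact S.downward_closed (hS hf hb) k
  have hSJ : S ∈ J Y := J.superset_covering hSgS hSgJ
  rw [← Presieve.isSeparatedFor_and_exists_isAmalgamation_iff_isSheafFor]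
  refine ⟨hsep S hSJ, fun x hx => ?_⟩
  have hx' := (Presieve.compatible_iff_sieveCompatible x).1 hx
  have xcongr : ∀ {V : C} {a b : V ⟶ Y} (_ : a = b) (ha : S a) (hb : S b), x a ha = x b hb := by
    intro V a b e ha hb
    subst e
    rfl
  let y : ∀ ⦃Z : C⦄ ⦃f : Z ⟶ Y⦄ (hf : U f), Presieve.FamilyOfElements F (B hf) :=
    fun Z f hf W g hg => x (g ≫ f) (hS hf hg)
  have hy : ∀ ⦃Z : C⦄ ⦃f : Z ⟶ Y⦄ (hf : U f), (y hf).Compatible := by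
    intro Z f hf W₁ W₂ V g₁ g₂ b₁ b₂ h₁ h₂ comm
    exact hx g₁ g₂ (hS hf h₁) (hS hf h₂) (by rw [← Category.assoc, comm, Category.assoc])
  have hz : ∀ ⦃Z : C⦄ ⦃f : Z ⟶ Y⦄ (hf : U f) ⦃W : C⦄ (b : W ⟶ Z) (hb : B hf b),
      F.map b.op ((hB hf).amalgamate (y hf) (hy hf)) = x (b ≫ f) (hS hf hb) :=
    fun Z f hf W b hb => (hB hf).valid_glue (hy hf) b hb
  have hK : ∀ ⦃Z : C⦄ ⦃f : Z ⟶ Y⦄ (hf : U f) ⦃Z' V : C⦄ (b : Z' ⟶ Z) (hb : B hf b) (k : V ⟶ Z')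
      (m : V ⟶ Z) (_ : k ≫ b = m),
      F.map m.op ((hB hf).amalgamate (y hf) (hy hf)) =
        x (k ≫ b ≫ f) (S.downward_closed (hS hf hb) k) := by
    intro Z f hf Z' V b hb k m e
    subst e
    rw [op_comp, Functor.map_comp_apply, hz hf b hb]
    exact (hx' (b ≫ f) k (hS hf hb)).symm
  let q : Presieve.FamilyOfElements F U := fun Z f hf => (hB hf).amalgamate (y hf) (hy hf)
  have hq : q.Compatible := by
    intro Z₁ Z₂ W g₁ g₂ f₁ f₂ h₁ h₂ comm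
    have hT := J.intersection_covering (J.pullback_stable g₁ (hBJ h₁))
      (J.pullback_stable g₂ (hBJ h₂))
    apply (hsep _ hT).ext
    intro V h hh
    obtain ⟨⟨Z₁', k₁, b₁, hb₁, e₁⟩, ⟨Z₂', k₂, b₂, hb₂, e₂⟩⟩ := hh
    have l : F.map h.op (F.map g₁.op (q f₁ h₁)) =
        x (k₁ ≫ b₁ ≫ f₁) (S.downward_closed (hS h₁ hb₁) k₁) := by
      rw [← Functor.map_comp_apply, ← op_comp]
      exact hK h₁ b₁ hb₁ k₁ (h ≫ g₁) e₁
    have r : F.map h.op (F.map g₂.op (q f₂ h₂)) =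
        x (k₂ ≫ b₂ ≫ f₂) (S.downward_closed (hS h₂ hb₂) k₂) := by
      rw [← Functor.map_comp_apply, ← op_comp]
      exact hK h₂ b₂ hb₂ k₂ (h ≫ g₂) e₂
    rw [l, r]
    apply xcongr
    calc k₁ ≫ b₁ ≫ f₁ = (k₁ ≫ b₁) ≫ f₁ := (Category.assoc _ _ _).symm
      _ = (h ≫ g₁) ≫ f₁ := by rw [e₁]
      _ = h ≫ g₁ ≫ f₁ := Category.assoc _ _ _
      _ = h ≫ g₂ ≫ f₂ := by rw [comm]
      _ = (h ≫ g₂) ≫ f₂ := (Category.assoc _ _ _).symm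
      _ = (k₂ ≫ b₂) ≫ f₂ := by rw [e₂]
      _ = k₂ ≫ b₂ ≫ f₂ := Category.assoc _ _ _
  have hA : ∀ ⦃Z : C⦄ ⦃f : Z ⟶ Y⦄ (hf : U f) ⦃V : C⦄ (m : V ⟶ Z) (n : V ⟶ Y) (_ : m ≫ f = n),
      F.map n.op (hU.amalgamate q hq) = F.map m.op (q f hf) := by
    intro Z f hf V m n e
    subst e
    rw [op_comp, Functor.map_comp_apply, hU.valid_glue hq f hf]
  refine ⟨hU.amalgamate q hq, fun V s hs => ?_⟩
  apply (hsep _ (J.pullback_stable s hSgJ)).ext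
  intro W h hh
  obtain ⟨Z, f, hf, Z', b, hb, k, e⟩ := (hSgmem (h ≫ s)).1 hh
  have l : F.map h.op (F.map s.op (hU.amalgamate q hq)) =
      x (k ≫ b ≫ f) (S.downward_closed (hS hf hb) k) := by
    rw [← Functor.map_comp_apply, ← op_comp]
    exact (hA hf (k ≫ b) (h ≫ s) (by rw [Category.assoc]; exact e)).trans
      (hK hf b hb k (k ≫ b) rfl)
  rw [l, ← hx' s h hs]
  exact xcongr e _ _

section

variable {C' : C → Prop} {P P' : Precoverage C}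
variable [P.HasPullbacks] [P.IsStableUnderBaseChange] [P.IsStableUnderComposition]

theorem isSeparated_of (H : Hyp C' P P') (F : Cᵒᵖ ⥤ Type w)
    (hP : ∀ ⦃X : C⦄ ⦃R : Presieve X⦄, R ∈ P X → Presieve.IsSheafFor F R)
    (hP' : ∀ ⦃X : C⦄ ⦃R : Presieve X⦄, R ∈ P' X → Presieve.IsSheafFor F R) :
    Presieve.IsSeparated (P ⊔ P').toGrothendieck F := by
  intro X S hS
  obtain ⟨R, hR, h⟩ := good_of_mem H hS
  intro x t₁ t₂ h₁ h₂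
  apply (hP hR).isSeparatedFor.ext
  intro Y f hf
  obtain ⟨_, R', hR', hS'⟩ := h hf
  apply (hP' hR').isSeparatedFor.ext
  intro Z g hg
  rw [← Functor.map_comp_apply, ← Functor.map_comp_apply, ← op_comp, h₁ _ (hS' hg),
    h₂ _ (hS' hg)]

theorem isSheaf_iff (H : Hyp C' P P') (F : Cᵒᵖ ⥤ Type w) :
    Presieve.IsSheaf (P ⊔ P').toGrothendieck F ↔
      (∀ ⦃X : C⦄ ⦃R : Presieve X⦄, R ∈ P X → Presieve.IsSheafFor F R) ∧
      (∀ ⦃X : C⦄ ⦃R : Presieve X⦄, R ∈ P' X → Presieve.IsSheafFor F R) := by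
  constructor
  · intro h
    exact ⟨fun X R hR => h.isSheafFor R
        (Precoverage.generate_mem_toGrothendieck (mem_sup_iff.2 (Or.inl hR))),
      fun X R hR => h.isSheafFor R
        (Precoverage.generate_mem_toGrothendieck (mem_sup_iff.2 (Or.inr hR)))⟩
  · rintro ⟨hP, hP'⟩ X S hS
    obtain ⟨R, hR, h⟩ := good_of_mem H hS
    choose hC R' hR' hS' using h
    exact isSheafFor_of_composite _ F (isSeparated_of H F hP hP') S R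
      (Precoverage.generate_mem_toGrothendieck (mem_sup_iff.2 (Or.inl hR))) (hP hR) R'
      (fun Z f hf => Precoverage.generate_mem_toGrothendieck (mem_sup_iff.2 (Or.inr (hR' hf))))
      (fun Z f hf => hP' (hR' hf)) (fun Z f hf W g hg => hS' hf hg)

end

end Groth.Agent.H30.GenTop
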