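/-
Helper library (helper30): Giraud's theorem, part 1 (the site and the comparison functor).
-/
import Groth.Agent.H30.CopCan
import Groth.Prelude.Def_SGA4a
import Mathlib.CategoryTheory.Sites.Canonical
import Mathlib.CategoryTheory.EffectiveEpi.Basic
import Mathlib.CategoryTheory.Limits.Yoneda
import Mathlib.CategoryTheory.Limits.FunctorCategory.Basic
import Mathlib.CategoryTheory.Limits.Shapes.DisjointCoproduct

set_option autoImplicit false

universe w v u

namespace Groth.Agent.H30.Giraud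

open CategoryTheory Limits Opposite
open Groth.Agent.H30.TFin Groth.Agent.H30.Cop

section EEsec

variable {E : Type v} [Category.{u} E]

/-- An effective-epimorphic family. -/
def EE {K : Type w} {Y : E} {V : K → E} (v : ∀ k, V k ⟶ Y) : Prop :=
  ∀ ⦃X : E⦄ (z : ∀ k, V k ⟶ X),
    (∀ ⦃k l : K⦄ ⦃T : E⦄ (g₁ : T ⟶ V k) (g₂ : T ⟶ V l),
      g₁ ≫ v k = g₂ ≫ v l → g₁ ≫ z k = g₂ ≫ z l) →
    ∃! x : Y ⟶ X, ∀ k, v k ≫ x = z k

lemma EE_of_effectiveEpi {Z Y : E} (p : Z ⟶ Y) [EffectiveEpi p] : EE (fun _ : Unit => p) := by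
  intro X z hz
  refine ⟨EffectiveEpi.desc p (z ()) (fun g₁ g₂ h => hz (k := ()) (l := ()) g₁ g₂ h),
    fun _ => EffectiveEpi.fac p _ _, ?_⟩
  intro x hx
  exact EffectiveEpi.uniq p _ _ x (hx ())

lemma EE_of_isColimit {K : Type w} {Y : E} {V : K → E} {v : ∀ k, V k ⟶ Y}
    (h : IsColimit (Cofan.mk Y v)) : EE v := by
  intro X z _
  refine ⟨Cofan.IsColimit.desc h z, fun k => Cofan.IsColimit.fac h z k, ?_⟩
  intro x hx
  exact Cofan.IsColimit.hom_ext h _ _
    (fun k => (hx k).trans (Cofan.IsColimit.fac h z k).symm)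

lemma EE.hom_ext {K : Type w} {Y : E} {V : K → E} {v : ∀ k, V k ⟶ Y} (h : EE v) {X : E}
    (a b : Y ⟶ X) (hab : ∀ k, v k ≫ a = v k ≫ b) : a = b := by
  obtain ⟨x, _, hx⟩ := h (fun k => v k ≫ a)
    (fun k l T g₁ g₂ hg => by rw [← Category.assoc, ← Category.assoc, hg])
  exact (hx a (fun _ => rfl)).trans (hx b (fun k => (hab k).symm)).symm

lemma EE.epi {Z Y : E} {p : Z ⟶ Y} (h : EE (fun _ : Unit => p)) : Epi p :=
  ⟨fun a b hab => h.hom_ext a b (fun _ => hab)⟩

lemma EE.unit_iso_comp {Z' Z Y : E} (θ : Z' ⟶ Z) [IsIso θ] {p : Z ⟶ Y}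
    (h : EE (fun _ : Unit => p)) : EE (fun _ : Unit => θ ≫ p) := by
  intro X z hz
  obtain ⟨x, hx, hx'⟩ := h (fun _ => inv θ ≫ z ()) (fun _ _ T g₁ g₂ hg => by
    have := hz (k := ()) (l := ()) (g₁ ≫ inv θ) (g₂ ≫ inv θ) (by
      simp only [Category.assoc, IsIso.inv_hom_id_assoc]
      exact hg)
    simpa only [Category.assoc] using this)
  refine ⟨x, fun _ => by rw [Category.assoc, hx (), IsIso.hom_inv_id_assoc], fun y hy =>
    hx' y (fun _ => by rw [← hy (), Category.assoc, IsIso.inv_hom_id_assoc])⟩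

lemma EE.unit_comp_iso {Z Y Y' : E} {q : Z ⟶ Y} (h : EE (fun _ : Unit => q)) (m : Y ⟶ Y')
    [IsIso m] : EE (fun _ : Unit => q ≫ m) := by
  intro X z hz
  obtain ⟨x, hx, hx'⟩ := h (fun _ => z ()) (fun _ _ T g₁ g₂ hg =>
    hz (k := ()) (l := ()) g₁ g₂ (by rw [← Category.assoc, hg, Category.assoc]))
  refine ⟨inv m ≫ x, fun _ => by rw [Category.assoc, IsIso.hom_inv_id_assoc, hx ()],
    fun y hy => ?_⟩
  rw [← hx' (m ≫ y) (fun _ => by rw [← Category.assoc]; exact hy ()), IsIso.inv_hom_id_assoc]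

variable [HasFiniteLimits E]

/-- The universally effective epimorphisms (in the literal form of the Giraud axiom). -/
def UEff {Z Y : E} (p : Z ⟶ Y) : Prop :=
  ∀ (B' : E) (g : B' ⟶ Y), EffectiveEpi (pullback.snd p g)

lemma UEff.EE_snd {Z Y : E} {p : Z ⟶ Y} (hp : UEff p) {B' : E} (g : B' ⟶ Y) :
    EE (fun _ : Unit => pullback.snd p g) :=
  haveI := hp B' g
  EE_of_effectiveEpi _

lemma UEff.toEE {Z Y : E} {p : Z ⟶ Y} (hp : UEff p) : EE (fun _ : Unit => p) := by
  have h := (hp.EE_snd (𝟙 Y)).unit_iso_comp (inv (pullback.fst p (𝟙 Y)))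
  have e : inv (pullback.fst p (𝟙 Y)) ≫ pullback.snd p (𝟙 Y) = p := by
    rw [IsIso.inv_comp_eq, pullback.condition, Category.comp_id]
  rwa [e] at h

lemma isEquivRel_kernelPair {A Z : E} (f : A ⟶ Z) :
    SGA4.IsEquivRel (pullback.fst f f) (pullback.snd f f) := by
  intro T
  have key : ∀ a b : T ⟶ A, (∃ t : T ⟶ pullback f f,
      t ≫ pullback.fst f f = a ∧ t ≫ pullback.snd f f = b) ↔ a ≫ f = b ≫ f := by
    intro a b
    constructor
    · rintro ⟨t, rfl, rfl⟩
      rw [Category.assoc, Category.assoc, pullback.condition]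
    · intro h
      exact ⟨pullback.lift a b h, pullback.lift_fst _ _ _, pullback.lift_snd _ _ _⟩
  refine ⟨fun t t' h => ?_, ⟨fun a => (key a a).2 rfl,
    fun {a b} h => (key b a).2 ((key a b).1 h).symm,
    fun {a b c} h h' => (key a c).2 (((key a b).1 h).trans ((key b c).1 h'))⟩⟩
  have h1 : t ≫ pullback.fst f f = t' ≫ pullback.fst f f := congrArg Prod.fst h
  have h2 : t ≫ pullback.snd f f = t' ≫ pullback.snd f f := congrArg Prod.snd h
  exact pullback.hom_ext h1 h2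

/-- Image factorisation from effectivity of equivalence relations. -/
lemma exists_image
    (hc : ∀ (R A : E) (p₁ p₂ : R ⟶ A), SGA4.IsEquivRel p₁ p₂ →
      SGA4.IsEffectiveUniversalEquivRel p₁ p₂) {A Z : E} (f : A ⟶ Z) :
    ∃ (B : E) (q : A ⟶ B) (m : B ⟶ Z), q ≫ m = f ∧ UEff q ∧ Mono m := by
  obtain ⟨B, q, hpb, hpo, hq⟩ := hc _ _ _ _ (isEquivRel_kernelPair f)
  have hm : q ≫ hpo.desc f f pullback.condition = f := hpo.inl_desc _ _ _
  refine ⟨B, q, hpo.desc f f pullback.condition, hm, hq, ?_⟩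
  constructor
  intro T b₁ b₂ hb
  haveI := hq T b₁
  haveI := hq (pullback q b₁) (pullback.snd q b₁ ≫ b₂)
  have h1 : (pullback.snd q (pullback.snd q b₁ ≫ b₂) ≫ pullback.fst q b₁) ≫ q =
      (pullback.snd q (pullback.snd q b₁ ≫ b₂) ≫ pullback.snd q b₁) ≫ b₁ := by
    rw [Category.assoc, Category.assoc, pullback.condition]
  have h2 : pullback.fst q (pullback.snd q b₁ ≫ b₂) ≫ q =
      (pullback.snd q (pullback.snd q b₁ ≫ b₂) ≫ pullback.snd q b₁) ≫ b₂ := by
    rw [pullback.condition, Category.assoc]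
  have h3 : (pullback.snd q (pullback.snd q b₁ ≫ b₂) ≫ pullback.fst q b₁) ≫ f =
      pullback.fst q (pullback.snd q b₁ ≫ b₂) ≫ f := by
    have e1 := congrArg (fun t => t ≫ hpo.desc f f pullback.condition) h1
    have e2 := congrArg (fun t => t ≫ hpo.desc f f pullback.condition) h2
    simp only [Category.assoc, hm] at e1 e2
    rw [Category.assoc, e1, e2, hb]
  have h4 : (pullback.snd q (pullback.snd q b₁ ≫ b₂) ≫ pullback.fst q b₁) ≫ q =
      pullback.fst q (pullback.snd q b₁ ≫ b₂) ≫ q := by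
    calc (pullback.snd q (pullback.snd q b₁ ≫ b₂) ≫ pullback.fst q b₁) ≫ q
        = pullback.lift _ _ h3 ≫ pullback.fst f f ≫ q := by rw [pullback.lift_fst_assoc]
      _ = pullback.lift _ _ h3 ≫ pullback.snd f f ≫ q := by rw [hpb.w]
      _ = pullback.fst q (pullback.snd q b₁ ≫ b₂) ≫ q := by rw [pullback.lift_snd_assoc]
  haveI : Epi (pullback.snd q (pullback.snd q b₁ ≫ b₂) ≫ pullback.snd q b₁) := epi_comp _ _
  rw [← cancel_epi (pullback.snd q (pullback.snd q b₁ ≫ b₂) ≫ pullback.snd q b₁), ← h1, ← h2, h4]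

end EEsec

end Groth.Agent.H30.Giraud
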