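/-
Helper library (helper30): Giraud's theorem, part 2 (the site, covering criterion, and the
comparison functor is fully faithful).
-/
import Groth.Agent.H30.Giraud
import Mathlib.CategoryTheory.Sites.RegularEpi

set_option autoImplicit false
set_option linter.style.haveILetI false

universe w v u

namespace Groth.Agent.H30.Giraud

open CategoryTheory Limits Opposite
open Groth.Agent.H30.TFin Groth.Agent.H30.Cop

section coprod

variable {E : Type v} [Category.{u} E]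

lemma exists_coprod (hb : SGA4.HasDisjointUniversalCoproducts.{v, u} E) {K : Type u}
    (X : K → E) :
    ∃ (A : E) (inj : ∀ k, X k ⟶ A), Nonempty (IsColimit (Cofan.mk A inj)) ∧
      IsUniversalColimit (Cofan.mk A inj) ∧ CoproductDisjoint X := by
  obtain ⟨c, hc, hd, hu⟩ := hb K X
  have e : c ≅ Cofan.mk c.pt c.inj :=
    Cocone.ext (Iso.refl _) (by rintro ⟨k⟩; exact Category.comp_id _)
  exact ⟨c.pt, c.inj, ⟨IsColimit.ofIsoColimit hc e⟩, hu.of_iso e, hd⟩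

variable [HasFiniteLimits E]

lemma ext_of_universal {K : Type w} {V : K → E} {A : E} {inj : ∀ k, V k ⟶ A}
    (hu : IsUniversalColimit (Cofan.mk A inj)) {T X : E} (g : T ⟶ A) (a b : T ⟶ X)
    (h : ∀ k, pullback.snd (inj k) g ≫ a = pullback.snd (inj k) g ≫ b) : a = b := by
  obtain ⟨hc'⟩ := nonempty_isColimit_of_isUniversal hu g (fun k => pullback (inj k) g)
    (fun k => pullback.fst _ _) (fun k => pullback.snd _ _)
    (fun k => (IsPullback.of_hasPullback (inj k) g).flip)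
  exact Cofan.IsColimit.hom_ext hc' a b h

lemma compat_aux {P T Vk Vl A Y X : E} (s : P ⟶ T) (f1 : P ⟶ Vk) (f2 : P ⟶ Vl) (ik : Vk ⟶ A)
    (il : Vl ⟶ A) (g₁ g₂ : T ⟶ A) (π : A ⟶ Y) (ζ : A ⟶ X)
    (c1 : f1 ≫ ik = s ≫ g₁) (c2 : f2 ≫ il = s ≫ g₂) (hg : g₁ ≫ π = g₂ ≫ π)
    (hz : f1 ≫ ik ≫ π = f2 ≫ il ≫ π → f1 ≫ ik ≫ ζ = f2 ≫ il ≫ ζ) :
    s ≫ g₁ ≫ ζ = s ≫ g₂ ≫ ζ := by
  have e : f1 ≫ ik ≫ π = f2 ≫ il ≫ π := by
    rw [reassoc_of% c1, reassoc_of% c2, hg]
  have := hz e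
  rw [reassoc_of% c1, reassoc_of% c2] at this
  exact this

lemma compat_desc {K : Type w} {V : K → E} {A : E} {inj : ∀ k, V k ⟶ A}
    (hu : IsUniversalColimit (Cofan.mk A inj)) {Y X : E} (v : ∀ k, V k ⟶ Y) (z : ∀ k, V k ⟶ X)
    (hz : ∀ ⦃k l : K⦄ ⦃T : E⦄ (g₁ : T ⟶ V k) (g₂ : T ⟶ V l),
      g₁ ≫ v k = g₂ ≫ v l → g₁ ≫ z k = g₂ ≫ z l)
    (π : A ⟶ Y) (hπ : ∀ k, inj k ≫ π = v k) (ζ : A ⟶ X) (hζ : ∀ k, inj k ≫ ζ = z k)
    {T : E} (g₁ g₂ : T ⟶ A) (hg : g₁ ≫ π = g₂ ≫ π) : g₁ ≫ ζ = g₂ ≫ ζ := by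
  apply ext_of_universal hu g₁
  intro k
  apply ext_of_universal hu (pullback.snd (inj k) g₁ ≫ g₂)
  intro l
  have := compat_aux
    (pullback.snd (inj l) (pullback.snd (inj k) g₁ ≫ g₂) ≫ pullback.snd (inj k) g₁)
    (pullback.snd (inj l) (pullback.snd (inj k) g₁ ≫ g₂) ≫ pullback.fst (inj k) g₁)
    (pullback.fst (inj l) (pullback.snd (inj k) g₁ ≫ g₂)) (inj k) (inj l) g₁ g₂ π ζ
    (by simp only [Category.assoc, pullback.condition])
    (by simp only [Category.assoc, pullback.condition])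
    hg
    (fun h => by
      rw [hπ k, hπ l] at h
      rw [hζ k, hζ l]
      exact hz _ _ h)
  simpa only [Category.assoc] using this

lemma EE_family_of_desc {K : Type w} {V : K → E} {A : E} {inj : ∀ k, V k ⟶ A}
    (hcol : IsColimit (Cofan.mk A inj)) (hu : IsUniversalColimit (Cofan.mk A inj)) {Y : E}
    (v : ∀ k, V k ⟶ Y) (π : A ⟶ Y) (hπ : ∀ k, inj k ≫ π = v k)
    (h : EE (fun _ : Unit => π)) : EE v := by
  intro X z hz
  obtain ⟨ζ, hζ⟩ : ∃ ζ : A ⟶ X, ∀ k, inj k ≫ ζ = z k :=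
    ⟨Cofan.IsColimit.desc hcol z, fun k => Cofan.IsColimit.fac hcol z k⟩
  obtain ⟨x, hx, hx'⟩ := h (fun _ => ζ)
    (fun _ _ T g₁ g₂ hg => compat_desc hu v z hz π hπ ζ hζ g₁ g₂ hg)
  have hx1 : π ≫ x = ζ := hx ()
  refine ⟨x, fun k => ?_, fun y hy => hx' y (fun _ => ?_)⟩
  · rw [← hπ k, Category.assoc, hx1, hζ k]
  · apply Cofan.IsColimit.hom_ext hcol
    intro k
    show inj k ≫ π ≫ y = inj k ≫ ζ
    rw [← Category.assoc, hπ k, hy k, hζ k]

end coprod

section sheaflemma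

variable {C : Type u} [SmallCategory C] {J : GrothendieckTopology C}

/-- A sheaf all of whose sections live over objects covered by the empty sieve is initial. -/
lemma nonempty_isInitial_of_sections (F : Sheaf J (Type u))
    (h : ∀ (G : C), F.obj.obj (op G) → ⊥ ∈ J G) : Nonempty (IsInitial F) := by
  have key : ∀ (Z : Sheaf J (Type u)) (G : C), ⊥ ∈ J G →
      ∃ z : Z.obj.obj (op G), ∀ z' : Z.obj.obj (op G), z' = z := by
    intro Z G hG
    have hZ : Presieve.IsSheaf J Z.obj := (isSheaf_iff_isSheaf_of_type _ _).1 Z.2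
    obtain ⟨z, _, hz⟩ := hZ _ hG (fun Y f hf => ((Sieve.bot_apply f).1 hf).elim)
      (fun Y₁ Y₂ W g₁ g₂ f₁ f₂ h₁ _ _ => ((Sieve.bot_apply f₁).1 h₁).elim)
    exact ⟨z, fun z' => hz z' (fun Y f hf => ((Sieve.bot_apply f).1 hf).elim)⟩
  choose z hz using key
  refine ⟨IsInitial.ofUniqueHom (fun Z => ObjectProperty.homMk
    { app := fun U => ↾(fun x => z Z U.unop (h U.unop x))
      naturality := fun U V g => by
        ext x
        exact (hz Z V.unop (h V.unop (F.obj.map g x)) _).symm }) ?_⟩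
  intro Z m
  ext U x
  exact hz Z U.unop (h U.unop x) _

end sheaflemma

section site

variable {E : Type v} [Category.{u} E] [HasFiniteLimits E]
variable {C : Type u} [SmallCategory C] (i : C ⥤ E)

/-- The family `i.obj G` detects isomorphisms. -/
def Detects : Prop :=
  ∀ ⦃X Y : E⦄ (f : X ⟶ Y),
    (∀ (G : C) (h : i.obj G ⟶ Y), ∃! h' : i.obj G ⟶ X, h' ≫ f = h) → IsIso f

/-- The restricted Yoneda functor. -/
def Φ : E ⥤ Cᵒᵖ ⥤ Type u := yoneda ⋙ (Functor.whiskeringLeft Cᵒᵖ Eᵒᵖ (Type u)).obj i.op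

/-- The topology on `C`: the finest one for which all `Φ X` are sheaves. -/
def J : GrothendieckTopology C := Sheaf.finestTopology (Set.range (Φ i).obj)

lemma isSheaf_Φ (X : E) : Presheaf.IsSheaf (J i) ((Φ i).obj X) :=
  (isSheaf_iff_isSheaf_of_type _ _).2
    (Sheaf.sheaf_for_finestTopology _ (Set.mem_range_self X))

/-- The comparison functor. -/
def Φ' : E ⥤ Sheaf (J i) (Type u) := ObjectProperty.lift _ (Φ i) (isSheaf_Φ i)

/-- The canonical family of all maps from generators is effective-epimorphic. -/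
def CanEE : Prop := ∀ Z : E, EE (fun p : (Σ H : C, (i.obj H ⟶ Z)) => p.2)

variable {i}

lemma CanEE.sep (h : CanEE i) {Z X : E} (f g : Z ⟶ X)
    (hfg : ∀ (G : C) (w : i.obj G ⟶ Z), w ≫ f = w ≫ g) : f = g :=
  (h Z).hom_ext f g (fun p => hfg p.1 p.2)

lemma CanEE.glue (h : CanEE i) {V X : E} (ξ : ∀ (H : C), (i.obj H ⟶ V) → (i.obj H ⟶ X))
    (hξ : ∀ (H H' : C) (t : i.obj H' ⟶ i.obj H) (w : i.obj H ⟶ V),
      ξ H' (t ≫ w) = t ≫ ξ H w) :
    ∃! z : V ⟶ X, ∀ (H : C) (w : i.obj H ⟶ V), w ≫ z = ξ H w := by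
  obtain ⟨z, hz, hz'⟩ := h V (fun p => ξ p.1 p.2) (by
    intro p p' T g₁ g₂ hg
    have hg' : g₁ ≫ p.2 = g₂ ≫ p'.2 := hg
    apply h.sep
    intro H s
    calc s ≫ g₁ ≫ ξ p.1 p.2 = (s ≫ g₁) ≫ ξ p.1 p.2 := (Category.assoc _ _ _).symm
      _ = ξ H ((s ≫ g₁) ≫ p.2) := (hξ _ _ _ _).symm
      _ = ξ H ((s ≫ g₂) ≫ p'.2) := by rw [Category.assoc, hg', Category.assoc]
      _ = (s ≫ g₂) ≫ ξ p'.1 p'.2 := hξ _ _ _ _
      _ = s ≫ g₂ ≫ ξ p'.1 p'.2 := Category.assoc _ _ _)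
  exact ⟨z, fun H w => hz ⟨H, w⟩, fun y hy => hz' y (fun p => hy p.1 p.2)⟩

variable (i)

theorem canEE_of_axioms (hb : SGA4.HasDisjointUniversalCoproducts.{v, u} E)
    (hc : ∀ (R A : E) (p₁ p₂ : R ⟶ A), SGA4.IsEquivRel p₁ p₂ →
      SGA4.IsEffectiveUniversalEquivRel p₁ p₂) (hi : Detects i) : CanEE i := by
  intro Z
  obtain ⟨A, inj, ⟨hcol⟩, hu, -⟩ :=
    exists_coprod hb (fun p : (Σ H : C, (i.obj H ⟶ Z)) => i.obj p.1)
  obtain ⟨π, hπ⟩ : ∃ π : A ⟶ Z, ∀ p, inj p ≫ π = p.2 :=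
    ⟨Cofan.IsColimit.desc hcol (fun p => p.2), fun p => Cofan.IsColimit.fac hcol _ p⟩
  obtain ⟨B, q, m, hqm, hq, hm⟩ := exists_image hc π
  haveI : IsIso m := hi m (fun G h => ⟨inj ⟨G, h⟩ ≫ q, by
      show (inj ⟨G, h⟩ ≫ q) ≫ m = h
      rw [Category.assoc, hqm, hπ],
    fun y hy => by
      have hy' : y ≫ m = h := hy
      rw [← cancel_mono m, hy', Category.assoc, hqm, hπ]⟩)
  have hEE : EE (fun _ : Unit => π) := by
    have := hq.toEE.unit_comp_iso m
    rwa [hqm] at this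
  exact EE_family_of_desc hcol hu (fun p => p.2) π hπ hEE

/-- The sieve of arrows `g` such that `i(g) ≫ x` factors through a member of the family. -/
def covSieve {K : Type w} {Y : E} {W : K → E} (q : ∀ k, W k ⟶ Y) {G : C} (x : i.obj G ⟶ Y) :
    Sieve G where
  arrows H g := ∃ (k : K) (t : i.obj H ⟶ W k), t ≫ q k = i.map g ≫ x
  downward_closed := by
    rintro H H' g ⟨k, t, ht⟩ g'
    exact ⟨k, i.map g' ≫ t, by rw [Category.assoc, ht, Functor.map_comp, Category.assoc]⟩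

lemma covSieve_pullback {K : Type w} {Y : E} {W : K → E} (q : ∀ k, W k ⟶ Y) {G H : C}
    (x : i.obj G ⟶ Y) (h : H ⟶ G) :
    (covSieve i q x).pullback h = covSieve i q (i.map h ≫ x) := by
  ext H' g
  constructor
  · rintro ⟨k, t, ht⟩
    show ∃ (k : K) (t : i.obj H' ⟶ W k), t ≫ q k = i.map g ≫ i.map h ≫ x
    exact ⟨k, t, by rw [ht, Functor.map_comp, Category.assoc]⟩
  · rintro ⟨k, t, ht⟩
    show ∃ (k : K) (t : i.obj H' ⟶ W k), t ≫ q k = i.map (g ≫ h) ≫ x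
    exact ⟨k, t, by rw [ht, Functor.map_comp, Category.assoc]⟩

variable [i.Full] [i.Faithful]

lemma isSheafFor_covSieve (hcan : CanEE i) {K : Type w} {Y : E} {W : K → E}
    (q : ∀ k, W k ⟶ Y) {G : C} (x : i.obj G ⟶ Y) (hEE : EE (fun k => pullback.snd (q k) x))
    (X : E) : Presieve.IsSheafFor ((Φ i).obj X) (covSieve i q x).arrows := by
  intro ξ hξ
  have hN : ∀ {H H' : C} (g : H ⟶ G) (hg : (covSieve i q x).arrows g) (g' : H' ⟶ G)
      (hg' : (covSieve i q x).arrows g') (t : i.obj H' ⟶ i.obj H), t ≫ i.map g = i.map g' →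
      (ξ g' hg' : i.obj H' ⟶ X) = t ≫ (ξ g hg : i.obj H ⟶ X) := by
    intro H H' g hg g' hg' t ht
    obtain ⟨t', rfl⟩ := i.map_surjective t
    obtain rfl : t' ≫ g = g' := i.map_injective (by rw [Functor.map_comp, ht])
    have := hξ t' (𝟙 H') hg hg' (by rw [Category.id_comp])
    rw [op_id, FunctorToTypes.map_id_apply] at this
    exact this.symm
  have hmem : ∀ (k : K) {H : C} (w : i.obj H ⟶ pullback (q k) x),
      (covSieve i q x).arrows (i.preimage (w ≫ pullback.snd (q k) x)) := by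
    intro k H w
    exact ⟨k, w ≫ pullback.fst (q k) x, by
      rw [Category.assoc, pullback.condition, ← Category.assoc, Functor.map_preimage]⟩
  have hz : ∀ k, ∃ z : pullback (q k) x ⟶ X, ∀ (H : C) (w : i.obj H ⟶ pullback (q k) x),
      w ≫ z = (ξ _ (hmem k w) : i.obj H ⟶ X) := by
    intro k
    refine (hcan.glue (fun H w => (ξ _ (hmem k w) : i.obj H ⟶ X)) ?_).exists
    intro H H' t w
    exact hN _ _ _ _ t (by
      rw [Functor.map_preimage, Functor.map_preimage, Category.assoc])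
  choose z hz using hz
  have hzc : ∀ ⦃k l : K⦄ ⦃T : E⦄ (g₁ : T ⟶ pullback (q k) x) (g₂ : T ⟶ pullback (q l) x),
      g₁ ≫ pullback.snd (q k) x = g₂ ≫ pullback.snd (q l) x → g₁ ≫ z k = g₂ ≫ z l := by
    intro k l T g₁ g₂ hg
    apply hcan.sep
    intro H s
    have e1 : s ≫ g₁ ≫ z k = (ξ _ (hmem k (s ≫ g₁)) : i.obj H ⟶ X) := by
      rw [← Category.assoc, hz]
    have e2 : s ≫ g₂ ≫ z l = (ξ _ (hmem l (s ≫ g₂)) : i.obj H ⟶ X) := by
      rw [← Category.assoc, hz]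
    have e3 := hN _ (hmem k (s ≫ g₁)) _ (hmem l (s ≫ g₂)) (𝟙 _) (by
      rw [Category.id_comp, Functor.map_preimage, Functor.map_preimage, Category.assoc,
        Category.assoc, hg])
    rw [e1, e2, e3, Category.id_comp]
  obtain ⟨y, hy, hy'⟩ := hEE z hzc
  refine ⟨y, ?_, ?_⟩
  · intro H g hg
    have hg2 := hg
    obtain ⟨k, t, ht⟩ := hg2
    have hw : pullback.lift t (i.map g) ht ≫ pullback.snd (q k) x = i.map g :=
      pullback.lift_snd _ _ _
    have hyk : pullback.snd (q k) x ≫ y = z k := hy k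
    have e1 : i.map g ≫ y = pullback.lift t (i.map g) ht ≫ z k := by
      rw [← hyk, ← Category.assoc, hw]
    have e2 := hz k H (pullback.lift t (i.map g) ht)
    have e3 := hN _ (hmem k (pullback.lift t (i.map g) ht)) g hg (𝟙 _) (by
      rw [Category.id_comp, Functor.map_preimage, hw])
    show i.map g ≫ y = ξ g hg
    rw [e1, e2, e3, Category.id_comp]
  · intro y' hy'am
    apply hy'
    intro k
    apply hcan.sep
    intro H w
    show w ≫ pullback.snd (q k) x ≫ y' = w ≫ z k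
    rw [hz k H w]
    have := hy'am _ (hmem k w)
    rw [← this]
    show w ≫ pullback.snd (q k) x ≫ y' =
      i.map (i.preimage (w ≫ pullback.snd (q k) x)) ≫ y'
    rw [Functor.map_preimage, Category.assoc]

lemma covSieve_mem (hcan : CanEE i) {K : Type w} {Y : E} {W : K → E} (q : ∀ k, W k ⟶ Y)
    (hq : ∀ {T : E} (y : T ⟶ Y), EE (fun k => pullback.snd (q k) y)) {G : C}
    (x : i.obj G ⟶ Y) : covSieve i q x ∈ J i G := by
  show _ ∈ Sheaf.finestTopology (Set.range (Φ i).obj) G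
  apply Sheaf.mem_finestTopology_of_forall_isSheafFor
  rintro P ⟨X, rfl⟩ H h
  rw [covSieve_pullback]
  exact isSheafFor_covSieve i hcan q _ (hq _) X

lemma ljs_of_universallyEE (hcan : CanEE i) {K : Type w} {Y : E} {W : K → E}
    (q : ∀ k, W k ⟶ Y) (hq : ∀ {T : E} (y : T ⟶ Y), EE (fun k => pullback.snd (q k) y)) :
    LJS (fun k => (Φ' i).map (q k)) := by
  intro U y
  obtain ⟨G⟩ := U
  refine (J i).superset_covering ?_ (covSieve_mem i hcan q hq y)
  rintro H g hg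
  obtain ⟨k, t, ht⟩ := hg
  show ∃ (k : K) (t : ((Φ' i).obj (W k)).obj.obj (op H)),
    ((Φ' i).map (q k)).hom.app (op H) t = ((Φ' i).obj Y).obj.map g.op y
  exact ⟨k, t, ht⟩

lemma epi_map_of_uEff (hcan : CanEE i) {Z Y : E} (p : Z ⟶ Y) (hp : UEff p) :
    Epi ((Φ' i).map p) := by
  have h := JE_of_LJS (ljs_of_universallyEE i hcan (fun _ : Unit => p) (fun y => hp.EE_snd y))
  exact ⟨fun a b hab => h a b (fun _ => hab)⟩

lemma mono_map {Z Y : E} (m : Z ⟶ Y) [Mono m] : Mono ((Φ' i).map m) := by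
  constructor
  intro F a b hab
  ext U s
  have h2 : (a.hom.app U s : i.obj U.unop ⟶ Z) ≫ m = (b.hom.app U s : i.obj U.unop ⟶ Z) ≫ m :=
    congrArg (fun t : F ⟶ (Φ' i).obj Y => t.hom.app U s) hab
  exact (cancel_mono m).1 h2

lemma bot_mem {G : C}
    (hG : ∀ (H : C) (_ : H ⟶ G) (X : E), ∃ z : i.obj H ⟶ X, ∀ z' : i.obj H ⟶ X, z' = z) :
    (⊥ : Sieve G) ∈ J i G := by
  show _ ∈ Sheaf.finestTopology (Set.range (Φ i).obj) G
  apply Sheaf.mem_finestTopology_of_forall_isSheafFor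
  rintro P ⟨X, rfl⟩ H h
  rw [Sieve.pullback_bot]
  intro ξ _
  obtain ⟨z, hz⟩ := hG H h X
  refine ⟨z, ?_, fun z' _ => hz z'⟩
  intro H' g hg
  exact ((Sieve.bot_apply g).1 hg).elim

theorem nonempty_isColimit_map (hcan : CanEE i) {K : Type u} {X : K → E} {A : E}
    {inj : ∀ k, X k ⟶ A} (hcol : IsColimit (Cofan.mk A inj))
    (hu : IsUniversalColimit (Cofan.mk A inj)) [CoproductDisjoint X] :
    Nonempty (IsColimit (Cofan.mk ((Φ' i).obj A) (fun k => (Φ' i).map (inj k)))) := by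
  refine (nonempty_isColimit_cofan_iff_sheaf _).2 ⟨?_, fun k => ?_, fun k l hkl => ?_⟩
  · refine JE_of_LJS (ljs_of_universallyEE i hcan inj (fun {T} y => ?_))
    obtain ⟨hc'⟩ := nonempty_isColimit_of_isUniversal hu y (fun k => pullback (inj k) y)
      (fun k => pullback.fst _ _) (fun k => pullback.snd _ _)
      (fun k => (IsPullback.of_hasPullback (inj k) y).flip)
    exact EE_of_isColimit hc'
  · haveI : Mono (inj k) := CoproductDisjoint.mono_inj hcol k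
    exact mono_map i (inj k)
  · apply nonempty_isInitial_of_sections
    intro G s
    obtain ⟨a, ha⟩ : ∃ a : i.obj G ⟶ X k,
        a = (pullback.fst ((Φ' i).map (inj k)) ((Φ' i).map (inj l))).hom.app (op G) s := ⟨_, rfl⟩
    obtain ⟨b, hb⟩ : ∃ b : i.obj G ⟶ X l,
        b = (pullback.snd ((Φ' i).map (inj k)) ((Φ' i).map (inj l))).hom.app (op G) s := ⟨_, rfl⟩
    have hab : a ≫ inj k = b ≫ inj l := by
      rw [ha, hb]
      exact congrArg (fun t : pullback ((Φ' i).map (inj k)) ((Φ' i).map (inj l)) ⟶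
        (Φ' i).obj A => t.hom.app (op G) s) pullback.condition
    apply bot_mem
    intro H h X'
    have I0 : IsInitial (pullback (inj k) (inj l)) :=
      IsInitial.ofCoproductDisjointOfIsColimit hkl hcol
    refine ⟨pullback.lift (i.map h ≫ a) (i.map h ≫ b)
      (by rw [Category.assoc, Category.assoc, hab]) ≫ I0.to X', fun z' => ?_⟩
    exact hom_eq_of_universal hu hkl (i.map h ≫ a) (i.map h ≫ b)
      (by rw [Category.assoc, Category.assoc, hab]) z' _

/-! ### Fully faithful -/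

lemma Φ_nat {Z X : E} (τ : (Φ i).obj Z ⟶ (Φ i).obj X) {G H : C} (t : i.obj H ⟶ i.obj G)
    (w : i.obj G ⟶ Z) :
    (τ.app (op H) (t ≫ w) : i.obj H ⟶ X) = t ≫ (τ.app (op G) w : i.obj G ⟶ X) := by
  obtain ⟨g, rfl⟩ := i.map_surjective t
  exact NatTrans.naturality_apply τ g.op w

lemma full_Φ' (hcan : CanEE i) : (Φ' i).Full := by
  constructor
  intro Z X τ
  obtain ⟨f, hf, -⟩ := hcan.glue (fun H w => (τ.hom.app (op H) w : i.obj H ⟶ X))
    (fun H H' t w => Φ_nat i τ.hom t w)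
  refine ⟨f, ?_⟩
  ext U w
  exact hf (unop U) w

omit [i.Full] [i.Faithful] in
lemma faithful_Φ' (hcan : CanEE i) : (Φ' i).Faithful := by
  constructor
  intro Z X f g h
  apply hcan.sep
  intro G w
  exact congrArg (fun t : (Φ' i).obj Z ⟶ (Φ' i).obj X =>
    (t.hom.app (op G) w : i.obj G ⟶ X)) h

end site

end Groth.Agent.H30.Giraud
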