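/-
Helper library (helper30): Giraud's theorem, part 3 (essential surjectivity and the theorem).
-/
import Groth.Agent.H30.Giraud2

set_option autoImplicit false
set_option linter.style.haveILetI false
set_option linter.unusedSectionVars false

universe w v u

namespace Groth.Agent.H30.Giraud

open CategoryTheory Limits Opposite
open Groth.Agent.H30.TFin Groth.Agent.H30.Cop

section ess

variable {E : Type v} [Category.{u} E] [HasFiniteLimits E]
variable {C : Type u} [SmallCategory C] (i : C ⥤ E) [i.Full] [i.Faithful]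

/-- The Yoneda map attached to a section. -/
noncomputable def yo (F : Sheaf (J i) (Type u)) (G : C) (s : F.obj.obj (op G)) :
    (Φ' i).obj (i.obj G) ⟶ F :=
  ObjectProperty.homMk
    { app := fun H => ↾(fun w : i.obj H.unop ⟶ i.obj G => F.obj.map (i.preimage w).op s)
      naturality := fun H H' g => by
        ext w
        show F.obj.map (i.preimage (i.map g.unop ≫ w)).op s =
          F.obj.map g (F.obj.map (i.preimage w).op s)
        rw [Functor.preimage_comp, Functor.preimage_map, op_comp, Quiver.Hom.op_unop,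
          Functor.map_comp]
        rfl }

lemma yo_id (F : Sheaf (J i) (Type u)) (G : C) (s : F.obj.obj (op G)) :
    (yo i F G s).hom.app (op G) (𝟙 (i.obj G)) = s := by
  show F.obj.map (i.preimage (𝟙 (i.obj G))).op s = s
  rw [Functor.preimage_id, op_id, FunctorToTypes.map_id_apply]

lemma map_comp_eq_yo {A : E} (F : Sheaf (J i) (Type u)) (e : (Φ' i).obj A ⟶ F) {G : C}
    (a : i.obj G ⟶ A) : (Φ' i).map a ≫ e = yo i F G (e.hom.app (op G) a) := by
  ext H w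
  show e.hom.app H (w ≫ a) = F.obj.map (i.preimage w).op (e.hom.app (op G) a)
  have := NatTrans.naturality_apply e.hom (i.preimage w).op a
  rw [← this]
  show e.hom.app H (w ≫ a) = e.hom.app H (i.map (i.preimage w) ≫ a)
  rw [Functor.map_preimage]

omit [i.Full] [i.Faithful] in
lemma app_eq_of_map_comp_eq {A : E} (F : Sheaf (J i) (Type u)) (e : (Φ' i).obj A ⟶ F) {G : C}
    (a b : i.obj G ⟶ A) (h : (Φ' i).map a ≫ e = (Φ' i).map b ≫ e) :
    e.hom.app (op G) a = e.hom.app (op G) b := by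
  have h2 : e.hom.app (op G) (𝟙 (i.obj G) ≫ a) = e.hom.app (op G) (𝟙 (i.obj G) ≫ b) :=
    congrArg (fun t : (Φ' i).obj (i.obj G) ⟶ F => t.hom.app (op G) (𝟙 (i.obj G))) h
  have ha : e.hom.app (op G) (𝟙 (i.obj G) ≫ a) = e.hom.app (op G) a :=
    congrArg (fun t : i.obj G ⟶ A => e.hom.app (op G) t) (Category.id_comp a)
  have hb : e.hom.app (op G) (𝟙 (i.obj G) ≫ b) = e.hom.app (op G) b :=
    congrArg (fun t : i.obj G ⟶ A => e.hom.app (op G) t) (Category.id_comp b)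
  exact ha.symm.trans (h2.trans hb)

theorem essSurj_aux (hi : Detects i) (hcan : CanEE i)
    (hb : SGA4.HasDisjointUniversalCoproducts.{v, u} E)
    (hc : ∀ (R A : E) (p₁ p₂ : R ⟶ A), SGA4.IsEquivRel p₁ p₂ →
      SGA4.IsEffectiveUniversalEquivRel p₁ p₂) (F : Sheaf (J i) (Type u)) :
    ∃ Q : E, Nonempty ((Φ' i).obj Q ≅ F) := by
  -- Step 1: the cover `e : Φ' A ⟶ F`
  obtain ⟨A, inj, ⟨hA⟩, huA, hdA⟩ :=
    exists_coprod hb (fun k : (Σ G : C, F.obj.obj (op G)) => i.obj k.1)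
  haveI := hdA
  obtain ⟨hΦA⟩ := nonempty_isColimit_map i hcan hA huA
  obtain ⟨e, he⟩ : ∃ e : (Φ' i).obj A ⟶ F,
      ∀ k : (Σ G : C, F.obj.obj (op G)), (Φ' i).map (inj k) ≫ e = yo i F k.1 k.2 :=
    ⟨Cofan.IsColimit.desc hΦA (fun k => yo i F k.1 k.2),
      fun k => Cofan.IsColimit.fac hΦA _ k⟩
  haveI hee : Epi e := by
    constructor
    intro Z a b hab
    ext U s
    obtain ⟨G⟩ := U
    have hyo : yo i F G s ≫ a = yo i F G s ≫ b := by
      rw [← he ⟨G, s⟩, Category.assoc, Category.assoc, hab]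
    have h1 : a.hom.app (op G) ((yo i F G s).hom.app (op G) (𝟙 (i.obj G))) =
        b.hom.app (op G) ((yo i F G s).hom.app (op G) (𝟙 (i.obj G))) :=
      congrArg (fun t : (Φ' i).obj (i.obj G) ⟶ Z => t.hom.app (op G) (𝟙 (i.obj G))) hyo
    rwa [yo_id] at h1
  -- Step 2: the relation
  obtain ⟨B, inj', ⟨hB⟩, huB, hdB⟩ :=
    exists_coprod hb (fun k : (Σ G : C, {ab : (i.obj G ⟶ A) × (i.obj G ⟶ A) //
      e.hom.app (op G) ab.1 = e.hom.app (op G) ab.2}) => i.obj k.1)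
  haveI := hdB
  obtain ⟨hΦB⟩ := nonempty_isColimit_map i hcan hB huB
  obtain ⟨b₁, hb₁⟩ : ∃ b₁ : B ⟶ A, ∀ k, inj' k ≫ b₁ = k.2.1.1 :=
    ⟨Cofan.IsColimit.desc hB (fun k => k.2.1.1), fun k => Cofan.IsColimit.fac hB _ k⟩
  obtain ⟨b₂, hb₂⟩ : ∃ b₂ : B ⟶ A, ∀ k, inj' k ≫ b₂ = k.2.1.2 :=
    ⟨Cofan.IsColimit.desc hB (fun k => k.2.1.2), fun k => Cofan.IsColimit.fac hB _ k⟩
  obtain ⟨R', q, m, hqm, hq, hm⟩ := exists_image hc (prod.lift b₁ b₂)
  obtain ⟨p₁, hp₁⟩ : ∃ p₁ : R' ⟶ A, p₁ = m ≫ prod.fst := ⟨_, rfl⟩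
  obtain ⟨p₂, hp₂⟩ : ∃ p₂ : R' ⟶ A, p₂ = m ≫ prod.snd := ⟨_, rfl⟩
  have hqp₁ : q ≫ p₁ = b₁ := by rw [hp₁, ← Category.assoc, hqm, prod.lift_fst]
  have hqp₂ : q ≫ p₂ = b₂ := by rw [hp₂, ← Category.assoc, hqm, prod.lift_snd]
  haveI : Epi ((Φ' i).map q) := epi_map_of_uEff i hcan q hq
  have hcore : (Φ' i).map p₁ ≫ e = (Φ' i).map p₂ ≫ e := by
    rw [← cancel_epi ((Φ' i).map q), ← Functor.map_comp_assoc, ← Functor.map_comp_assoc,
      hqp₁, hqp₂]
    apply Cofan.IsColimit.hom_ext hΦB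
    intro k
    show (Φ' i).map (inj' k) ≫ (Φ' i).map b₁ ≫ e = (Φ' i).map (inj' k) ≫ (Φ' i).map b₂ ≫ e
    rw [← Functor.map_comp_assoc, ← Functor.map_comp_assoc, hb₁, hb₂, map_comp_eq_yo,
      map_comp_eq_yo, k.2.2]
  have hstarG : ∀ {G : C} (a b : i.obj G ⟶ A), e.hom.app (op G) a = e.hom.app (op G) b →
      ∃ r : i.obj G ⟶ R', r ≫ p₁ = a ∧ r ≫ p₂ = b := by
    intro G a b h
    refine ⟨inj' ⟨G, ⟨(a, b), h⟩⟩ ≫ q, ?_, ?_⟩
    · rw [Category.assoc, hqp₁, hb₁]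
    · rw [Category.assoc, hqp₂, hb₂]
  have hfwd : ∀ {T : E} (r : T ⟶ R'),
      (Φ' i).map (r ≫ p₁) ≫ e = (Φ' i).map (r ≫ p₂) ≫ e := by
    intro T r
    rw [Functor.map_comp, Functor.map_comp, Category.assoc, Category.assoc, hcore]
  have hbwd : ∀ {T : E} (a b : T ⟶ A), (Φ' i).map a ≫ e = (Φ' i).map b ≫ e →
      ∃ r : T ⟶ R', r ≫ p₁ = a ∧ r ≫ p₂ = b := by
    intro T a b h
    haveI : IsIso (pullback.snd m (prod.lift a b)) := by
      apply hi
      intro G w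
      have hw : e.hom.app (op G) (w ≫ a) = e.hom.app (op G) (w ≫ b) := by
        apply app_eq_of_map_comp_eq
        rw [Functor.map_comp, Functor.map_comp, Category.assoc, Category.assoc, h]
      obtain ⟨r, hr₁, hr₂⟩ := hstarG _ _ hw
      have hrm : r ≫ m = w ≫ prod.lift a b := by
        apply prod.hom_ext
        · rw [Category.assoc, Category.assoc, prod.lift_fst, ← hp₁, hr₁]
        · rw [Category.assoc, Category.assoc, prod.lift_snd, ← hp₂, hr₂]
      refine ⟨pullback.lift r w hrm, pullback.lift_snd _ _ _, fun y hy => ?_⟩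
      have hy' : y ≫ pullback.snd m (prod.lift a b) = w := hy
      rw [← cancel_mono (pullback.snd m (prod.lift a b)), hy', pullback.lift_snd]
    refine ⟨inv (pullback.snd m (prod.lift a b)) ≫ pullback.fst m (prod.lift a b), ?_, ?_⟩
    · rw [hp₁, Category.assoc, pullback.condition_assoc, prod.lift_fst,
        IsIso.inv_hom_id_assoc]
    · rw [hp₂, Category.assoc, pullback.condition_assoc, prod.lift_snd,
        IsIso.inv_hom_id_assoc]
  have hER : SGA4.IsEquivRel p₁ p₂ := by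
    intro T
    have key : ∀ a b : T ⟶ A, (∃ f : T ⟶ R', f ≫ p₁ = a ∧ f ≫ p₂ = b) ↔
        (Φ' i).map a ≫ e = (Φ' i).map b ≫ e := by
      intro a b
      constructor
      · rintro ⟨r, rfl, rfl⟩
        exact hfwd r
      · exact hbwd a b
    refine ⟨fun f f' h => ?_, ⟨fun a => (key a a).2 rfl,
      fun {a b} h => (key b a).2 ((key a b).1 h).symm,
      fun {a b c} h h' => (key a c).2 (((key a b).1 h).trans ((key b c).1 h'))⟩⟩
    have h1 : f ≫ p₁ = f' ≫ p₁ := congrArg Prod.fst h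
    have h2 : f ≫ p₂ = f' ≫ p₂ := congrArg Prod.snd h
    rw [← cancel_mono m]
    apply prod.hom_ext
    · rw [Category.assoc, Category.assoc, ← hp₁]
      exact h1
    · rw [Category.assoc, Category.assoc, ← hp₂]
      exact h2
  -- Step 3: the quotient
  obtain ⟨Q, π, hpb, hpo, hπ⟩ := hc _ _ _ _ hER
  haveI : Epi ((Φ' i).map π) := epi_map_of_uEff i hcan π hπ
  have hK : ∀ {G : C} (a b : i.obj G ⟶ A),
      e.hom.app (op G) a = e.hom.app (op G) b ↔ a ≫ π = b ≫ π := by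
    intro G a b
    constructor
    · intro h
      obtain ⟨r, rfl, rfl⟩ := hstarG a b h
      rw [Category.assoc, Category.assoc, hpb.w]
    · intro h
      obtain ⟨r, hr₁, hr₂⟩ : ∃ r : i.obj G ⟶ R', r ≫ p₁ = a ∧ r ≫ p₂ = b :=
        ⟨hpb.lift a b h, hpb.lift_fst _ _ _, hpb.lift_snd _ _ _⟩
      apply app_eq_of_map_comp_eq
      rw [← hr₁, ← hr₂]
      exact hfwd r
  have hKK : ∀ {Z : Sheaf (J i) (Type u)} (g₁ g₂ : Z ⟶ (Φ' i).obj A),
      g₁ ≫ e = g₂ ≫ e ↔ g₁ ≫ (Φ' i).map π = g₂ ≫ (Φ' i).map π := by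
    intro Z g₁ g₂
    constructor
    · intro h
      ext U z
      obtain ⟨G⟩ := U
      have h2 : e.hom.app (op G) (g₁.hom.app (op G) z) = e.hom.app (op G) (g₂.hom.app (op G) z) :=
        congrArg (fun t : Z ⟶ F => t.hom.app (op G) z) h
      exact (hK (g₁.hom.app (op G) z) (g₂.hom.app (op G) z)).1 h2
    · intro h
      ext U z
      obtain ⟨G⟩ := U
      have h2 : (g₁.hom.app (op G) z : i.obj G ⟶ A) ≫ π = (g₂.hom.app (op G) z : i.obj G ⟶ A) ≫ π :=
        congrArg (fun t : Z ⟶ (Φ' i).obj Q => t.hom.app (op G) z) h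
      exact (hK (g₁.hom.app (op G) z) (g₂.hom.app (op G) z)).2 h2
  haveI : IsRegularEpi e := IsRegularEpiCategory.regularEpiOfEpi e
  haveI : IsRegularEpi ((Φ' i).map π) := IsRegularEpiCategory.regularEpiOfEpi _
  obtain ⟨β, hβ⟩ : ∃ β : (Φ' i).obj Q ⟶ F, (Φ' i).map π ≫ β = e :=
    ⟨EffectiveEpi.desc ((Φ' i).map π) e (fun g₁ g₂ h => (hKK g₁ g₂).2 h),
      EffectiveEpi.fac _ _ _⟩
  obtain ⟨γ, hγ⟩ : ∃ γ : F ⟶ (Φ' i).obj Q, e ≫ γ = (Φ' i).map π :=
    ⟨EffectiveEpi.desc e ((Φ' i).map π) (fun g₁ g₂ h => (hKK g₁ g₂).1 h),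
      EffectiveEpi.fac _ _ _⟩
  refine ⟨Q, ⟨⟨β, γ, ?_, ?_⟩⟩⟩
  · rw [← cancel_epi ((Φ' i).map π), ← Category.assoc, hβ, hγ, Category.comp_id]
  · rw [← cancel_epi e, ← Category.assoc, hγ, hβ, Category.comp_id]

theorem isTopos_of_axioms (hb : SGA4.HasDisjointUniversalCoproducts.{v, u} E)
    (hc : ∀ (R A : E) (p₁ p₂ : R ⟶ A), SGA4.IsEquivRel p₁ p₂ →
      SGA4.IsEffectiveUniversalEquivRel p₁ p₂) (hi : Detects i) :
    SGA4.IsTopos.{v, u} E := by
  have hcan := canEE_of_axioms i hb hc hi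
  haveI := full_Φ' i hcan
  haveI := faithful_Φ' i hcan
  haveI : (Φ' i).EssSurj := ⟨fun F => essSurj_aux i hi hcan hb hc F⟩
  haveI : (Φ' i).IsEquivalence := {}
  exact ⟨C, inferInstance, J i, ⟨(Φ' i).asEquivalence⟩⟩

end ess

/-- **Giraud's theorem** (axioms ⇒ topos). -/
theorem giraud {E : Type v} [Category.{u} E] [HasFiniteLimits E]
    (hb : SGA4.HasDisjointUniversalCoproducts.{v, u} E)
    (hc : ∀ (R A : E) (p₁ p₂ : R ⟶ A), SGA4.IsEquivRel p₁ p₂ →
      SGA4.IsEffectiveUniversalEquivRel p₁ p₂)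
    (hd : ∃ P : ObjectProperty E, ObjectProperty.Small.{u} P ∧ P.IsDetecting) :
    SGA4.IsTopos.{v, u} E := by
  obtain ⟨P, hP, hdet⟩ := hd
  haveI : Small.{u} (Subtype P) := hP
  exact isTopos_of_axioms
    (inducedFunctor (fun s : Shrink.{u} (Subtype P) => ((equivShrink (Subtype P)).symm s).1))
    hb hc (by
      intro X Y f hf
      apply hdet
      intro G hG h
      obtain ⟨s, rfl⟩ : ∃ s : Shrink.{u} (Subtype P),
          ((equivShrink (Subtype P)).symm s).1 = G :=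
        ⟨equivShrink _ ⟨G, hG⟩, by rw [Equiv.symm_apply_apply]⟩
      exact hf s h)

end Groth.Agent.H30.Giraud
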