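/-
Helper library (helper30): transfer of Giraud's exactness axioms along a jointly conservative
pair of exact functors into sheaf topoi.
-/
import Groth.Agent.H30.Giraud3
import Groth.Agent.H30.EqRel
import Mathlib.CategoryTheory.Limits.Preserves.Shapes.Products
import Mathlib.CategoryTheory.Limits.Preserves.Shapes.Pullbacks
import Mathlib.CategoryTheory.Limits.Preserves.Shapes.Equalizers
import Mathlib.CategoryTheory.Limits.Preserves.Shapes.BinaryProducts
import Mathlib.CategoryTheory.Limits.Constructions.EpiMono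

set_option autoImplicit false
set_option linter.style.haveILetI false
set_option linter.unusedSectionVars false

universe w v₂ u₂ u u₁

namespace Groth.Agent.H30.Glue

open CategoryTheory Limits Opposite
open Groth.Agent.H30.TFin Groth.Agent.H30.Cop

section single

variable {𝒢 : Type u₁} [Category.{u} 𝒢] {𝒜 : Type u₂} [Category.{v₂} 𝒜] (U : 𝒢 ⥤ 𝒜)

lemma isIso_map_sigmaDesc {ι : Type w} {P : ι → 𝒢} [HasCoproduct P]
    [PreservesColimit (Discrete.functor P) U] {A' : 𝒢} (p : ∀ i, P i ⟶ A')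
    (h : Nonempty (IsColimit (Cofan.mk (U.obj A') (fun i => U.map (p i))))) :
    IsIso (U.map (Sigma.desc p)) := by
  obtain ⟨h⟩ := h
  have hpres : IsColimit (Cofan.mk (U.obj (∐ P)) (fun j => U.map (Sigma.ι P j))) :=
    isColimitOfHasCoproductOfPreservesColimit U P
  have fac : ∀ j, U.map (p j) ≫ Cofan.IsColimit.desc h (fun i => U.map (Sigma.ι P i)) =
      U.map (Sigma.ι P j) := fun j => Cofan.IsColimit.fac h _ j
  have e : ∀ j, U.map (Sigma.ι P j) ≫ U.map (Sigma.desc p) = U.map (p j) := fun j => by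
    rw [← U.map_comp, Sigma.ι_desc]
  refine ⟨Cofan.IsColimit.desc h (fun i => U.map (Sigma.ι P i)), ?_, ?_⟩
  · apply Cofan.IsColimit.hom_ext hpres
    intro j
    show U.map (Sigma.ι P j) ≫ U.map (Sigma.desc p) ≫ _ = U.map (Sigma.ι P j) ≫ 𝟙 _
    rw [reassoc_of% (e j), fac j, Category.comp_id]
  · apply Cofan.IsColimit.hom_ext h
    intro j
    show U.map (p j) ≫ _ ≫ U.map (Sigma.desc p) = U.map (p j) ≫ 𝟙 _
    rw [reassoc_of% (fac j), e j, Category.comp_id]

lemma isIso_map_pullback_lift [HasPullbacks 𝒢] [HasPullbacks 𝒜]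
    [PreservesLimitsOfShape WalkingCospan U] {P X Y Z : 𝒢} {fst : P ⟶ X} {snd : P ⟶ Y}
    {f : X ⟶ Z} {g : Y ⟶ Z} (w : fst ≫ f = snd ≫ g)
    (hpb : IsPullback (U.map fst) (U.map snd) (U.map f) (U.map g)) :
    IsIso (U.map (pullback.lift fst snd w)) := by
  have e : U.map (pullback.lift fst snd w) =
      hpb.isoPullback.hom ≫ (PreservesPullback.iso U f g).inv := by
    rw [Iso.eq_comp_inv]
    apply pullback.hom_ext
    · rw [Category.assoc, PreservesPullback.iso_hom_fst, ← U.map_comp, pullback.lift_fst,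
        IsPullback.isoPullback_hom_fst]
    · rw [Category.assoc, PreservesPullback.iso_hom_snd, ← U.map_comp, pullback.lift_snd,
        IsPullback.isoPullback_hom_snd]
  rw [e]
  infer_instance

lemma jointlyMono₂_map [HasFiniteLimits 𝒢] [HasFiniteLimits 𝒜] [PreservesFiniteLimits U]
    {R A : 𝒢} (p₁ p₂ : R ⟶ A) [JointlyMono₂ p₁ p₂] : JointlyMono₂ (U.map p₁) (U.map p₂) := by
  haveI : Mono (prod.lift p₁ p₂) := ⟨fun a b hab =>
    JointlyMono₂.right_cancellation (p₁ := p₁) (p₂ := p₂) a b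
      (by
        have := congrArg (fun t => t ≫ prod.fst) hab
        simp only [Category.assoc, prod.lift_fst] at this
        exact this)
      (by
        have := congrArg (fun t => t ≫ prod.snd) hab
        simp only [Category.assoc, prod.lift_snd] at this
        exact this)⟩
  haveI : Mono (U.map (prod.lift p₁ p₂)) := inferInstance
  constructor
  intro Y f g h₁ h₂
  rw [← cancel_mono (U.map (prod.lift p₁ p₂)), ← cancel_mono (prodComparison U A A)]
  apply prod.hom_ext
  · simp only [Category.assoc, prodComparison_fst, ← U.map_comp, prod.lift_fst]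
    exact h₁
  · simp only [Category.assoc, prodComparison_snd, ← U.map_comp, prod.lift_snd]
    exact h₂

lemma effectiveEpi_of_isIso_desc [HasPullbacks 𝒢] [HasCoequalizers 𝒢] {X Y : 𝒢} (f : X ⟶ Y)
    [IsIso (coequalizer.desc f
      (pullback.condition : pullback.fst f f ≫ f = pullback.snd f f ≫ f))] :
    EffectiveEpi f := by
  have hcol : IsColimit (Cofork.ofπ f
      (pullback.condition : pullback.fst f f ≫ f = pullback.snd f f ≫ f)) :=
    IsColimit.ofIsoColimit (coequalizerIsCoequalizer _ _)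
      (Cofork.ext (asIso (coequalizer.desc f pullback.condition)) (by simp))
  haveI : IsRegularEpi f := ⟨⟨regularEpiOfKernelPair f hcol⟩⟩
  infer_instance

def isColimit_empty_cofan {X : 𝒜} (h : IsInitial X) {F : PEmpty.{w + 1} → 𝒜}
    (f : ∀ e, F e ⟶ X) : IsColimit (Cofan.mk X f) :=
  Cofan.IsColimit.mk _ (fun s => h.to s.pt) (fun s e => e.elim) (fun s m _ => h.hom_ext _ _)

end single

section sheafTarget

variable {𝒢 : Type u₁} [Category.{u} 𝒢] {D : Type u} [SmallCategory D]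
  {K : GrothendieckTopology D} (U : 𝒢 ⥤ Sheaf K (Type u))

lemma isIso_map_coequalizer_desc [HasPullbacks 𝒢] [HasCoequalizers 𝒢]
    [PreservesLimitsOfShape WalkingCospan U] [PreservesColimitsOfShape WalkingParallelPair U]
    {X Y : 𝒢} (f : X ⟶ Y) [Epi (U.map f)] :
    IsIso (U.map (coequalizer.desc f
      (pullback.condition : pullback.fst f f ≫ f = pullback.snd f f ≫ f))) := by
  haveI : IsRegularEpi (U.map f) := IsRegularEpiCategory.regularEpiOfEpi _
  have hφ := isColimitCoforkOfEffectiveEpi (U.map f) _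
    (isLimitOfHasPullbackOfPreservesLimit U f f)
  have hU := isColimitOfHasCoequalizerOfPreservesColimit U (pullback.fst f f) (pullback.snd f f)
  obtain ⟨n, hn⟩ : ∃ n : U.obj Y ⟶ U.obj (coequalizer (pullback.fst f f) (pullback.snd f f)),
      U.map f ≫ n = U.map (coequalizer.π (pullback.fst f f) (pullback.snd f f)) :=
    ⟨Cofork.IsColimit.desc hφ (U.map (coequalizer.π _ _))
      (by
        show U.map (pullback.fst f f) ≫ U.map (coequalizer.π _ _) =
          U.map (pullback.snd f f) ≫ U.map (coequalizer.π _ _)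
        rw [← U.map_comp, ← U.map_comp, coequalizer.condition]),
      Cofork.IsColimit.π_desc hφ⟩
  have e : U.map (coequalizer.π (pullback.fst f f) (pullback.snd f f)) ≫
      U.map (coequalizer.desc f pullback.condition) = U.map f := by
    rw [← U.map_comp, coequalizer.π_desc]
  refine ⟨n, ?_, ?_⟩
  · apply Cofork.IsColimit.hom_ext hU
    show U.map (coequalizer.π _ _) ≫ U.map (coequalizer.desc f pullback.condition) ≫ n =
      U.map (coequalizer.π _ _) ≫ 𝟙 _
    rw [reassoc_of% e, hn, Category.comp_id]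
  · apply Cofork.IsColimit.hom_ext hφ
    show U.map f ≫ n ≫ U.map (coequalizer.desc f pullback.condition) = U.map f ≫ 𝟙 _
    rw [reassoc_of% hn, e, Category.comp_id]

lemma kernelPair_map [HasFiniteLimits 𝒢] [HasCoequalizers 𝒢] [PreservesFiniteLimits U]
    [PreservesColimitsOfShape WalkingParallelPair U] {R A : 𝒢} (p₁ p₂ : R ⟶ A)
    (er : EquivalenceRelation p₁ p₂) :
    IsPullback (U.map p₁) (U.map p₂) (U.map (coequalizer.π p₁ p₂))
      (U.map (coequalizer.π p₁ p₂)) := by
  haveI : JointlyMono₂ p₁ p₂ := er.toReflexiveRelation.toJointlyMono₂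
  haveI : JointlyMono₂ (U.map p₁) (U.map p₂) := jointlyMono₂_map U p₁ p₂
  let er' : EquivalenceRelation (U.map p₁) (U.map p₂) :=
    { __ := er.toReflexiveRelation.map U
      __ := er.toSymmetricRelation.map U
      __ := er.toTransitiveRelation.map U }
  obtain ⟨ue⟩ := Groth.Agent.S5217.aux K (U.map p₁) (U.map p₂) er'
  have hU := isColimitOfHasCoequalizerOfPreservesColimit U p₁ p₂
  have hue := EffectiveEquivalenceRelation.isCoequalizer _ _ ue.toEffectiveEquivalenceRelation
  have he : ue.π ≫ (IsColimit.coconePointUniqueUpToIso hue hU).hom =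
      U.map (coequalizer.π p₁ p₂) :=
    IsColimit.comp_coconePointUniqueUpToIso_hom hue hU WalkingParallelPair.one
  rw [← he]
  exact ue.isKernelPair.comp_of_mono

lemma epi_map_snd [HasFiniteLimits 𝒢] [HasCoequalizers 𝒢] [PreservesFiniteLimits U]
    [PreservesColimitsOfShape WalkingParallelPair U] {R A : 𝒢} (p₁ p₂ : R ⟶ A) {B' : 𝒢}
    (g : B' ⟶ coequalizer p₁ p₂) : Epi (U.map (pullback.snd (coequalizer.π p₁ p₂) g)) := by
  have hU := isColimitOfHasCoequalizerOfPreservesColimit U p₁ p₂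
  haveI : Epi (U.map (coequalizer.π p₁ p₂)) := epi_of_isColimit_cofork hU
  have hpb := (IsPullback.of_hasPullback (coequalizer.π p₁ p₂) g).map U
  have h := JE.of_isPullback (JE.of_epi (U.map (coequalizer.π p₁ p₂))) (U.map g)
    (fun _ => U.map (pullback.fst (coequalizer.π p₁ p₂) g))
    (fun _ => U.map (pullback.snd (coequalizer.π p₁ p₂) g)) (fun _ => hpb)
  exact ⟨fun a b hab => h a b (fun _ => hab)⟩

end sheafTarget

section pair

variable {𝒢 : Type u₁} [Category.{u} 𝒢] {D C : Type u} [SmallCategory D] [SmallCategory C]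
  {K : GrothendieckTopology D} {J : GrothendieckTopology C}
  (U₁ : 𝒢 ⥤ Sheaf K (Type u)) (U₂ : 𝒢 ⥤ Sheaf J (Type u))
  [HasFiniteLimits 𝒢] [HasCoproducts.{u} 𝒢] [HasCoequalizers 𝒢]
  [PreservesFiniteLimits U₁] [PreservesFiniteLimits U₂]
  [∀ ι : Type u, PreservesColimitsOfShape (Discrete ι) U₁]
  [∀ ι : Type u, PreservesColimitsOfShape (Discrete ι) U₂]
  [PreservesColimitsOfShape WalkingParallelPair U₁]
  [PreservesColimitsOfShape WalkingParallelPair U₂]
  (hiso : ∀ {X Y : 𝒢} (f : X ⟶ Y), IsIso (U₁.map f) → IsIso (U₂.map f) → IsIso f)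
  (hfaith : ∀ {X Y : 𝒢} (f g : X ⟶ Y), U₁.map f = U₁.map g → U₂.map f = U₂.map g → f = g)

include hiso in
lemma nonempty_isColimit_cofan_of_map {ι : Type u} {P : ι → 𝒢} {A' : 𝒢} (p : ∀ i, P i ⟶ A')
    (h₁ : Nonempty (IsColimit (Cofan.mk (U₁.obj A') (fun i => U₁.map (p i)))))
    (h₂ : Nonempty (IsColimit (Cofan.mk (U₂.obj A') (fun i => U₂.map (p i))))) :
    Nonempty (IsColimit (Cofan.mk A' p)) := by
  haveI : IsIso (Sigma.desc p) :=
    hiso _ (isIso_map_sigmaDesc U₁ p h₁) (isIso_map_sigmaDesc U₂ p h₂)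
  exact (Cofan.nonempty_isColimit_iff_isIso_sigmaDesc (Cofan.mk A' p)).2 (by simpa using this)

include hfaith in
lemma mono_of_map {X Y : 𝒢} (f : X ⟶ Y) [Mono (U₁.map f)] [Mono (U₂.map f)] : Mono f :=
  ⟨fun a b hab => hfaith a b
    (by rw [← cancel_mono (U₁.map f), ← U₁.map_comp, hab, U₁.map_comp])
    (by rw [← cancel_mono (U₂.map f), ← U₂.map_comp, hab, U₂.map_comp])⟩

include hiso in
lemma nonempty_isInitial_of_map (P : 𝒢) (h₁ : Nonempty (IsInitial (U₁.obj P)))
    (h₂ : Nonempty (IsInitial (U₂.obj P))) : Nonempty (IsInitial P) := by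
  obtain ⟨h₁⟩ := h₁
  obtain ⟨h₂⟩ := h₂
  obtain ⟨hc⟩ := nonempty_isColimit_cofan_of_map U₁ U₂ hiso (ι := PEmpty.{u + 1})
    (P := fun e => e.elim) (A' := P) (fun e => e.elim)
    ⟨isColimit_empty_cofan h₁ _⟩ ⟨isColimit_empty_cofan h₂ _⟩
  exact ⟨IsInitial.ofUniqueHom (fun Z => Cofan.IsColimit.desc hc (fun e => e.elim))
    (fun Z m => Cofan.IsColimit.hom_ext hc _ _ (fun e => e.elim))⟩

include hiso in
lemma isPullback_of_map {P X Y Z : 𝒢} {fst : P ⟶ X} {snd : P ⟶ Y} {f : X ⟶ Z} {g : Y ⟶ Z}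
    (w : fst ≫ f = snd ≫ g)
    (h₁ : IsPullback (U₁.map fst) (U₁.map snd) (U₁.map f) (U₁.map g))
    (h₂ : IsPullback (U₂.map fst) (U₂.map snd) (U₂.map f) (U₂.map g)) :
    IsPullback fst snd f g := by
  haveI : IsIso (pullback.lift fst snd w) :=
    hiso _ (isIso_map_pullback_lift U₁ w h₁) (isIso_map_pullback_lift U₂ w h₂)
  exact IsPullback.of_iso_pullback ⟨w⟩ (asIso (pullback.lift fst snd w))
    (pullback.lift_fst _ _ _) (pullback.lift_snd _ _ _)

include hiso hfaith in
theorem hasDisjointUniversalCoproducts : SGA4.HasDisjointUniversalCoproducts.{u₁, u} 𝒢 := by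
  intro ι X
  have hc : IsColimit (Cofan.mk (∐ X) (Sigma.ι X)) := coproductIsCoproduct X
  have h₁ : IsColimit (Cofan.mk (U₁.obj (∐ X)) (fun i => U₁.map (Sigma.ι X i))) :=
    isColimitOfHasCoproductOfPreservesColimit U₁ X
  have h₂ : IsColimit (Cofan.mk (U₂.obj (∐ X)) (fun i => U₂.map (Sigma.ι X i))) :=
    isColimitOfHasCoproductOfPreservesColimit U₂ X
  obtain ⟨-, m₁, d₁⟩ := (nonempty_isColimit_cofan_iff_sheaf _).1 ⟨h₁⟩
  obtain ⟨-, m₂, d₂⟩ := (nonempty_isColimit_cofan_iff_sheaf _).1 ⟨h₂⟩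
  refine ⟨Cofan.mk (∐ X) (Sigma.ι X), hc, ?_, ?_⟩
  · haveI : ∀ i, Mono ((Cofan.mk (∐ X) (Sigma.ι X)).inj i) := fun i => by
      haveI := m₁ i
      haveI := m₂ i
      exact mono_of_map U₁ U₂ hfaith (Sigma.ι X i)
    have key : ∀ i j, i ≠ j →
        Nonempty (IsInitial (pullback (Sigma.ι X i) (Sigma.ι X j))) := fun i j hij => by
      obtain ⟨I₁⟩ := d₁ i j hij
      obtain ⟨I₂⟩ := d₂ i j hij
      exact nonempty_isInitial_of_map U₁ U₂ hiso _
        ⟨IsInitial.ofIso I₁ (PreservesPullback.iso U₁ _ _).symm⟩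
        ⟨IsInitial.ofIso I₂ (PreservesPullback.iso U₂ _ _).symm⟩
    exact CoproductDisjoint.of_cofan hc (fun {i j} _ => pullback.cone _ _)
      (fun {i j} _ => pullback.isLimit _ _) (fun {i j} hij => (key i j hij).some)
  · exact isUniversalColimit_cofan_of _ (fun {A'} g P q p hP =>
      nonempty_isColimit_cofan_of_map U₁ U₂ hiso p
        (nonempty_isColimit_of_isPullback ⟨h₁⟩ (U₁.map g) _ _ _ (fun i => (hP i).map U₁))
        (nonempty_isColimit_of_isPullback ⟨h₂⟩ (U₂.map g) _ _ _ (fun i => (hP i).map U₂)))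

include hiso in
theorem effectiveUniversal {R A : 𝒢} (p₁ p₂ : R ⟶ A) (h : SGA4.IsEquivRel p₁ p₂) :
    SGA4.IsEffectiveUniversalEquivRel p₁ p₂ := by
  obtain ⟨er⟩ := Groth.Agent.H30.EqRel.nonempty_equivalenceRelation h
  have w : p₁ ≫ coequalizer.π p₁ p₂ = p₂ ≫ coequalizer.π p₁ p₂ := coequalizer.condition p₁ p₂
  have hpb : IsPullback p₁ p₂ (coequalizer.π p₁ p₂) (coequalizer.π p₁ p₂) :=
    isPullback_of_map U₁ U₂ hiso w (kernelPair_map U₁ p₁ p₂ er) (kernelPair_map U₂ p₁ p₂ er)
  refine ⟨coequalizer p₁ p₂, coequalizer.π p₁ p₂, hpb, ?_, ?_⟩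
  · exact Groth.Agent.H30.EqRel.isPushout_of_isColimit_cofork er.r er.reflexivity₁
      er.reflexivity₂ (Cofork.ofπ (coequalizer.π p₁ p₂) w) (coequalizerIsCoequalizer p₁ p₂)
  · intro B' g
    haveI : Epi (U₁.map (pullback.snd (coequalizer.π p₁ p₂) g)) := epi_map_snd U₁ p₁ p₂ g
    haveI : Epi (U₂.map (pullback.snd (coequalizer.π p₁ p₂) g)) := epi_map_snd U₂ p₁ p₂ g
    haveI : IsIso (coequalizer.desc (pullback.snd (coequalizer.π p₁ p₂) g)
        (pullback.condition : pullback.fst (pullback.snd (coequalizer.π p₁ p₂) g)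
          (pullback.snd (coequalizer.π p₁ p₂) g) ≫ pullback.snd (coequalizer.π p₁ p₂) g =
          pullback.snd (pullback.snd (coequalizer.π p₁ p₂) g)
            (pullback.snd (coequalizer.π p₁ p₂) g) ≫ pullback.snd (coequalizer.π p₁ p₂) g)) :=
      hiso _ (isIso_map_coequalizer_desc U₁ _) (isIso_map_coequalizer_desc U₂ _)
    exact effectiveEpi_of_isIso_desc _

end pair

end Groth.Agent.H30.Glue
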