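/-
Helper library (helper30): the glued category `Comma (𝟭 _) ρ` of two sheaf topoi along a left
exact accessible functor is a topos (via Giraud's theorem).
-/
import Groth.Agent.H30.Glue1
import Groth.Agent.S3082
import Mathlib.CategoryTheory.Limits.Comma
import Mathlib.CategoryTheory.Presentable.Presheaf
import Mathlib.CategoryTheory.Presentable.Type
import Mathlib.CategoryTheory.Presentable.LocallyPresentable

set_option autoImplicit false
set_option linter.style.haveILetI false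
set_option linter.unusedSectionVars false

universe w w' v₁ v₂ v₃ u₁ u₂ u₃ u

namespace Groth.Agent.H30.Glue

open CategoryTheory Limits Opposite
open Groth.Agent.H30.TFin Groth.Agent.H30.Cop

section commaGeneral

variable {A : Type u₁} [Category.{v₁} A] {B : Type u₂} [Category.{v₂} B] {T : Type u₃}
  [Category.{v₃} T] {L : A ⥤ T} {R : B ⥤ T}

lemma preservesLimitsOfShape_fst (Jf : Type w) [Category.{w'} Jf] [HasLimitsOfShape Jf A]
    [HasLimitsOfShape Jf B] [PreservesLimitsOfShape Jf R] :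
    PreservesLimitsOfShape Jf (Comma.fst L R) where
  preservesLimit :=
    preservesLimit_of_preserves_limit_cone
      (Comma.coneOfPreservesIsLimit _ (limit.isLimit _) (limit.isLimit _))
      (limit.isLimit _)

lemma preservesLimitsOfShape_snd (Jf : Type w) [Category.{w'} Jf] [HasLimitsOfShape Jf A]
    [HasLimitsOfShape Jf B] [PreservesLimitsOfShape Jf R] :
    PreservesLimitsOfShape Jf (Comma.snd L R) where
  preservesLimit :=
    preservesLimit_of_preserves_limit_cone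
      (Comma.coneOfPreservesIsLimit _ (limit.isLimit _) (limit.isLimit _))
      (limit.isLimit _)

lemma preservesFiniteLimits_fst [HasFiniteLimits A] [HasFiniteLimits B]
    [PreservesFiniteLimits R] : PreservesFiniteLimits (Comma.fst L R) :=
  ⟨fun Jf _ _ => preservesLimitsOfShape_fst Jf⟩

lemma preservesFiniteLimits_snd [HasFiniteLimits A] [HasFiniteLimits B]
    [PreservesFiniteLimits R] : PreservesFiniteLimits (Comma.snd L R) :=
  ⟨fun Jf _ _ => preservesLimitsOfShape_snd Jf⟩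

lemma isIso_of_left_right {X Y : Comma L R} (f : X ⟶ Y) (h₁ : IsIso f.left)
    (h₂ : IsIso f.right) : IsIso f := by
  have : f = (Comma.isoMk (asIso f.left) (asIso f.right) f.w).hom := by
    apply CommaMorphism.ext <;> rfl
  rw [this]
  infer_instance

end commaGeneral

section glue

variable {C D : Type u} [SmallCategory C] [SmallCategory D] {J : GrothendieckTopology C}
  {K : GrothendieckTopology D} (ρ : Sheaf J (Type u) ⥤ Sheaf K (Type u))

lemma je_local_factor {κ : Cardinal.{u}} [Fact κ.IsRegular] [ρ.IsCardinalAccessible κ]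
    {P₀ : ObjectProperty (Cᵒᵖ ⥤ Type u)} (hP₀ : P₀.IsCardinalFilteredGenerator κ)
    {ιH : Type u} (H : ιH → Sheaf K (Type u))
    (hH : ∀ Z : Sheaf K (Type u), JE (fun p : (Σ d, (H d ⟶ Z)) => p.2))
    (X : Sheaf J (Type u)) {Z : Sheaf K (Type u)} (v : Z ⟶ ρ.obj X) :
    JE (fun t : (Σ (d : ιH) (P : Subtype P₀),
      { t : (H d ⟶ Z) × ((presheafToSheaf J (Type u)).obj P.1 ⟶ X) ×
          (H d ⟶ ρ.obj ((presheafToSheaf J (Type u)).obj P.1)) //
        t.2.2 ≫ ρ.map t.2.1 = t.1 ≫ v }) => t.2.2.1.1) := by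
  obtain ⟨Aα, _, _, ⟨pres⟩⟩ := hP₀.exists_colimitsOfShape ((sheafToPresheaf J (Type u)).obj X)
  haveI : PreservesColimitsOfShape Aα ρ := ρ.preservesColimitsOfShape_of_isCardinalAccessible κ Aα
  have hcol : IsColimit ((presheafToSheaf J (Type u) ⋙ ρ).mapCocone pres.cocone) :=
    isColimitOfPreserves (presheafToSheaf J (Type u) ⋙ ρ) pres.isColimit
  obtain ⟨ε, hε⟩ : ∃ ε : (presheafToSheaf J (Type u)).obj ((sheafToPresheaf J (Type u)).obj X) ⟶ X,
      IsIso ε := ⟨(sheafificationAdjunction J (Type u)).counit.app X, inferInstance⟩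
  obtain ⟨x, hx⟩ : ∃ x : ∀ α : Aα, (presheafToSheaf J (Type u)).obj (pres.diag.obj α) ⟶ X,
      ∀ α, x α = (presheafToSheaf J (Type u)).map (pres.ι.app α) ≫ ε := ⟨_, fun _ => rfl⟩
  have hje : JE (fun α => ρ.map (x α)) := by
    intro W f g hfg
    have h2 : ρ.map ε ≫ f = ρ.map ε ≫ g := by
      apply hcol.hom_ext
      intro α
      have := hfg α
      simp only [hx, Functor.map_comp, Category.assoc] at this
      exact this
    exact (cancel_epi (ρ.map ε)).1 h2
  have h2 := hje.pullback v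
  have h3 := h2.trans (fun α (p : Σ d, (H d ⟶ pullback (ρ.map (x α)) v)) => p.2)
    (fun α => hH _)
  refine JE.reindex (fun p : (Σ α : Aα, Σ d, (H d ⟶ pullback (ρ.map (x α)) v)) =>
    ⟨p.2.1, ⟨pres.diag.obj p.1, pres.prop_diag_obj p.1⟩,
      ⟨(p.2.2 ≫ pullback.snd _ _, x p.1, p.2.2 ≫ pullback.fst _ _), by
        simp only [Category.assoc, pullback.condition]⟩⟩) h3

variable {ιH ιG : Type u} (H : ιH → Sheaf K (Type u)) (G : ιG → Sheaf J (Type u))
  (P₀ : ObjectProperty (Cᵒᵖ ⥤ Type u))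

/-- The detecting family of the glued category. -/
noncomputable def genFamily :
    (ιG ⊕ Σ (d : ιH) (P : Subtype P₀), (H d ⟶ ρ.obj ((presheafToSheaf J (Type u)).obj P.1))) →
      Comma (𝟭 (Sheaf K (Type u))) ρ
  | Sum.inl c => { left := ⊥_ _, right := G c, hom := initial.to _ }
  | Sum.inr t => { left := H t.1, right := (presheafToSheaf J (Type u)).obj t.2.1.1, hom := t.2.2 }

/-- Morphisms out of the first kind of generators. -/
noncomputable def homInl (c : ιG) (Y : Comma (𝟭 (Sheaf K (Type u))) ρ) (x : G c ⟶ Y.right) :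
    genFamily ρ H G P₀ (Sum.inl c) ⟶ Y :=
  { left := initial.to _, right := x, w := initial.hom_ext _ _ }

/-- Morphisms out of the second kind of generators. -/
noncomputable def homInr (d : ιH) (P : Subtype P₀)
    (u₀ : H d ⟶ ρ.obj ((presheafToSheaf J (Type u)).obj P.1))
    (Y : Comma (𝟭 (Sheaf K (Type u))) ρ) (y : H d ⟶ Y.left)
    (x : (presheafToSheaf J (Type u)).obj P.1 ⟶ Y.right) (w : y ≫ Y.hom = u₀ ≫ ρ.map x) :
    genFamily ρ H G P₀ (Sum.inr ⟨d, P, u₀⟩) ⟶ Y :=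
  { left := y, right := x, w := w }

theorem isDetecting_genFamily (hH : (ObjectProperty.ofObj H).IsDetecting)
    (hG : (ObjectProperty.ofObj G).IsDetecting) {κ : Cardinal.{u}} [Fact κ.IsRegular]
    [ρ.IsCardinalAccessible κ] (hP₀ : P₀.IsCardinalFilteredGenerator κ) :
    (ObjectProperty.ofObj (genFamily ρ H G P₀)).IsDetecting := by
  have hsepK : ∀ Z : Sheaf K (Type u), JE (fun p : (Σ d, (H d ⟶ Z)) => p.2) := by
    intro Z W a b hab
    apply hH.isSeparating
    rintro _ ⟨d⟩ h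
    exact hab ⟨d, h⟩
  intro Y₀ Y₁ f hf
  have hf' : ∀ (idx) (h : genFamily ρ H G P₀ idx ⟶ Y₁),
      ∃! h' : genFamily ρ H G P₀ idx ⟶ Y₀, h' ≫ f = h :=
    fun idx h => hf _ (ObjectProperty.ofObj_apply _ idx) h
  -- the right component
  have hr : IsIso f.right := by
    apply hG
    rintro _ ⟨c⟩ x'
    obtain ⟨h', hh', huniq⟩ := hf' (Sum.inl c) (homInl ρ H G P₀ c Y₁ x')
    refine ⟨h'.right, congrArg CommaMorphism.right hh', fun x₂ hx₂ => ?_⟩
    have := huniq (homInl ρ H G P₀ c Y₀ x₂) (by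
      apply CommaMorphism.ext
      · exact initial.hom_ext _ _
      · exact hx₂)
    exact congrArg CommaMorphism.right this
  haveI := hr
  have fw : f.left ≫ Y₁.hom = Y₀.hom ≫ ρ.map f.right := f.w
  -- the left component is mono
  have hmono : Mono f.left := by
    constructor
    intro T a b hab
    apply hsepK T
    rintro ⟨d, t⟩
    show t ≫ a = t ≫ b
    have hy : (t ≫ a) ≫ f.left = (t ≫ b) ≫ f.left := by
      rw [Category.assoc, Category.assoc, hab]
    have hv : (t ≫ a) ≫ Y₀.hom = (t ≫ b) ≫ Y₀.hom := by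
      rw [← cancel_mono (ρ.map f.right)]
      calc ((t ≫ a) ≫ Y₀.hom) ≫ ρ.map f.right = ((t ≫ a) ≫ f.left) ≫ Y₁.hom := by
            simp only [Category.assoc, fw]
        _ = ((t ≫ b) ≫ f.left) ≫ Y₁.hom := by rw [hy]
        _ = ((t ≫ b) ≫ Y₀.hom) ≫ ρ.map f.right := by simp only [Category.assoc, fw]
    apply je_local_factor ρ hP₀ H hsepK Y₀.right ((t ≫ a) ≫ Y₀.hom)
    rintro ⟨d', P, ⟨⟨g, x, v₀⟩, hgv⟩⟩
    have hgv' : v₀ ≫ ρ.map x = g ≫ (t ≫ a) ≫ Y₀.hom := hgv
    show g ≫ t ≫ a = g ≫ t ≫ b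
    have w₁ : (g ≫ t ≫ a) ≫ Y₀.hom = v₀ ≫ ρ.map x := by
      rw [hgv']
      simp only [Category.assoc]
    have w₂ : (g ≫ t ≫ b) ≫ Y₀.hom = v₀ ≫ ρ.map x := by
      rw [hgv', hv]
      simp only [Category.assoc]
    obtain ⟨h', _, huniq⟩ := hf' (Sum.inr ⟨d', P, v₀⟩)
      (homInr ρ H G P₀ d' P v₀ Y₀ (g ≫ t ≫ a) x w₁ ≫ f)
    have e₁ := huniq (homInr ρ H G P₀ d' P v₀ Y₀ (g ≫ t ≫ a) x w₁) rfl
    have e₂ := huniq (homInr ρ H G P₀ d' P v₀ Y₀ (g ≫ t ≫ b) x w₂) (by
      apply CommaMorphism.ext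
      · show (g ≫ t ≫ b) ≫ f.left = (g ≫ t ≫ a) ≫ f.left
        simp only [Category.assoc] at hy ⊢
        rw [hy]
      · rfl)
    exact congrArg CommaMorphism.left (e₁.trans e₂.symm)
  -- the left component is epi
  have hepi : Epi f.left := by
    constructor
    intro W a b hab
    apply hsepK Y₁.left
    rintro ⟨d, y'⟩
    show y' ≫ a = y' ≫ b
    apply je_local_factor ρ hP₀ H hsepK Y₀.right ((y' ≫ Y₁.hom) ≫ ρ.map (inv f.right))
    rintro ⟨d', P, ⟨⟨g, x, v₀⟩, hgv⟩⟩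
    have hgv' : v₀ ≫ ρ.map x = g ≫ (y' ≫ Y₁.hom) ≫ ρ.map (inv f.right) := hgv
    show g ≫ y' ≫ a = g ≫ y' ≫ b
    have w₁ : (g ≫ y') ≫ Y₁.hom = v₀ ≫ ρ.map (x ≫ f.right) := by
      have hinv : ρ.map (inv f.right) ≫ ρ.map f.right = 𝟙 _ := by
        rw [← ρ.map_comp, IsIso.inv_hom_id, ρ.map_id]
      rw [Functor.map_comp, ← Category.assoc, hgv']
      simp only [Category.assoc, hinv, Category.comp_id]
    obtain ⟨h', hh', -⟩ := hf' (Sum.inr ⟨d', P, v₀⟩)
      (homInr ρ H G P₀ d' P v₀ Y₁ (g ≫ y') (x ≫ f.right) w₁)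
    obtain ⟨l, hl⟩ : ∃ l : H d' ⟶ Y₀.left, l ≫ f.left = g ≫ y' :=
      ⟨h'.left, congrArg CommaMorphism.left hh'⟩
    calc g ≫ y' ≫ a = (g ≫ y') ≫ a := (Category.assoc _ _ _).symm
      _ = (l ≫ f.left) ≫ a := by rw [hl]
      _ = (l ≫ f.left) ≫ b := by simp only [Category.assoc, hab]
      _ = (g ≫ y') ≫ b := by rw [hl]
      _ = g ≫ y' ≫ b := Category.assoc _ _ _
  haveI := hmono
  haveI := hepi
  exact isIso_of_left_right f (isIso_of_mono_of_epi _) hr

end glue

end Groth.Agent.H30.Glue
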