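/-
Helper library (helper30): the glued category is a topos.
-/
import Groth.Agent.H30.Glue2

set_option autoImplicit false
set_option linter.style.haveILetI false

universe u

namespace Groth.Agent.H30.Glue

open CategoryTheory Limits Opposite

lemma isDetecting_sheafified_representables {C : Type u} [SmallCategory C]
    (J : GrothendieckTopology C) :
    (ObjectProperty.ofObj fun X : (Set.univ : Set C) =>
      (presheafToSheaf J (Type u)).obj (yoneda.obj (X : C))).IsDetecting :=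
  Groth.Agent.S3082.result J Set.univ (fun X => ⟨PUnit, fun _ => X, fun _ => 𝟙 X,
    J.covering_of_eq_top ((Sieve.id_mem_iff_eq_top).1
      ⟨X, 𝟙 X, 𝟙 X, Presieve.ofArrows.mk PUnit.unit, Category.id_comp _⟩),
    fun _ => Set.mem_univ _⟩)

theorem glued_isTopos {C D : Type u} [SmallCategory C] [SmallCategory D]
    (J : GrothendieckTopology C) (K : GrothendieckTopology D)
    (ρ : Sheaf J (Type u) ⥤ Sheaf K (Type u)) [PreservesFiniteLimits ρ] [ρ.IsAccessible.{u}] :
    SGA4.IsTopos.{u + 1, u} (Comma (𝟭 (Sheaf K (Type u))) ρ) := by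
  haveI : PreservesFiniteLimits (Comma.fst (𝟭 (Sheaf K (Type u))) ρ) :=
    preservesFiniteLimits_fst
  haveI : PreservesFiniteLimits (Comma.snd (𝟭 (Sheaf K (Type u))) ρ) :=
    preservesFiniteLimits_snd
  have hiso : ∀ {X Y : Comma (𝟭 (Sheaf K (Type u))) ρ} (f : X ⟶ Y),
      IsIso ((Comma.fst _ _).map f) → IsIso ((Comma.snd _ _).map f) → IsIso f :=
    fun f h₁ h₂ => isIso_of_left_right f h₁ h₂
  have hfaith : ∀ {X Y : Comma (𝟭 (Sheaf K (Type u))) ρ} (f g : X ⟶ Y),
      (Comma.fst _ _).map f = (Comma.fst _ _).map g →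
      (Comma.snd _ _).map f = (Comma.snd _ _).map g → f = g :=
    fun f g h₁ h₂ => CommaMorphism.ext h₁ h₂
  apply Groth.Agent.H30.Giraud.giraud.{u + 1, u}
  · exact hasDisjointUniversalCoproducts.{u, u + 1} (𝒢 := Comma (𝟭 (Sheaf K (Type u))) ρ)
      (Comma.fst (𝟭 (Sheaf K (Type u))) ρ) (Comma.snd (𝟭 (Sheaf K (Type u))) ρ) hiso hfaith
  · exact fun R A p₁ p₂ h =>
      effectiveUniversal.{u, u + 1} (𝒢 := Comma (𝟭 (Sheaf K (Type u))) ρ)
        (Comma.fst (𝟭 (Sheaf K (Type u))) ρ) (Comma.snd (𝟭 (Sheaf K (Type u))) ρ) hiso p₁ p₂ h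
  · obtain ⟨κ, _, _⟩ := Functor.IsAccessible.exists_cardinal (F := ρ)
    obtain ⟨P₀, _, hP₀⟩ :=
      HasCardinalFilteredGenerator.exists_small_generator (Cᵒᵖ ⥤ Type u) κ
    exact ⟨_, inferInstance, isDetecting_genFamily ρ _ _ P₀
      (isDetecting_sheafified_representables K) (isDetecting_sheafified_representables J) hP₀⟩

end Groth.Agent.H30.Glue
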