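import Groth.Agent.H45.Acyclic3
import Groth.Agent.H5.SpSeq.GrothSS
import Groth.Prelude.Def_RDer

/-!
# The comparison `H^q (Ψ K) ⟶ Ψ (H^q K)` is an isomorphism when the terms and the cohomology of `K`
are `Ψ`-acyclic (helper30)

Consequence: the second edge map `R^q (Φ ⋙ Ψ) X ⟶ Ψ (R^q Φ X)` is an isomorphism when `Φ` sends
injectives to `Ψ`-acyclics and all `R^n Φ X` are `Ψ`-acyclic.
-/

set_option autoImplicit false
universe w w' v v' u u'
open CategoryTheory CategoryTheory.Limits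
open Groth.Agent.H45.RDP

namespace Groth.Agent.H30.HomCmp

section Complex

variable {B : Type u} [Category.{v} B] [Abelian B] (K : CochainComplex B ℕ)

/-- boundaries, as the kernel of `Z^q ⟶ H^q`. -/
noncomputable def Bd (q : ℕ) : B := kernel (K.homologyπ q)

noncomputable def bι (q : ℕ) : Bd K q ⟶ K.cycles q := kernel.ι (K.homologyπ q)

instance (q : ℕ) : Mono (bι K q) :=
  inferInstanceAs (Mono (kernel.ι (K.homologyπ q)))

noncomputable def t (p q : ℕ) : K.X p ⟶ Bd K q :=
  kernel.lift (K.homologyπ q) (K.toCycles p q) (K.toCycles_comp_homologyπ p q)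

@[reassoc (attr := simp)]
lemma t_bι (p q : ℕ) : t K p q ≫ bι K q = K.toCycles p q := kernel.lift_ι _ _ _

lemma epi_t (p q : ℕ) (hp : (ComplexShape.up ℕ).prev q = p) : Epi (t K p q) := by
  have hS : (ShortComplex.mk (K.toCycles p q) (K.homologyπ q)
      (K.toCycles_comp_homologyπ p q)).Exact :=
    ShortComplex.exact_of_g_is_cokernel _ (K.homologyIsCokernel p q hp)
  exact hS.epi_kernelLift

/-- `0 → B^q → Z^q → H^q → 0`. -/
noncomputable def sb (q : ℕ) : ShortComplex B :=
  ShortComplex.mk (bι K q) (K.homologyπ q) (kernel.condition _)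

lemma sb_shortExact (q : ℕ) : (sb K q).ShortExact where
  exact := ShortComplex.exact_kernel _
  mono_f := by dsimp [sb]; infer_instance
  epi_g := by dsimp [sb]; infer_instance

lemma iCycles_t (p q : ℕ) : K.iCycles p ≫ t K p q = 0 := by
  rw [← cancel_mono (bι K q), ← cancel_mono (K.iCycles q)]
  simp only [Category.assoc, t_bι, HomologicalComplex.toCycles_i, zero_comp]
  by_cases h : (ComplexShape.up ℕ).Rel p q
  · have : (ComplexShape.up ℕ).next p = q := (ComplexShape.up ℕ).next_eq' h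
    subst this
    exact K.iCycles_d p _
  · rw [K.shape p q h, comp_zero]

/-- `0 → Z^p → K^p → B^{p+1} → 0`. -/
noncomputable def sa (p q : ℕ) : ShortComplex B :=
  ShortComplex.mk (K.iCycles p) (t K p q) (iCycles_t K p q)

lemma sa_shortExact (p q : ℕ) (h : p + 1 = q) : (sa K p q).ShortExact := by
  have hnext : (ComplexShape.up ℕ).next p = q := (ComplexShape.up ℕ).next_eq' h
  have hprev : (ComplexShape.up ℕ).prev q = p := (ComplexShape.up ℕ).prev_eq' h
  have hex : (sa K p q).Exact := by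
    let φ : sa K p q ⟶ ShortComplex.mk (K.iCycles p) (K.d p q) (by
        subst hnext; exact K.iCycles_d p _) :=
      { τ₁ := 𝟙 _
        τ₂ := 𝟙 _
        τ₃ := bι K q ≫ K.iCycles q
        comm₁₂ := by simp [sa]
        comm₂₃ := by simp [sa] }
    have h1 : Epi φ.τ₁ := @IsIso.epi_of_iso _ _ _ _ _ (IsIso.id _)
    have h2 : IsIso φ.τ₂ := IsIso.id _
    have h3 : Mono φ.τ₃ := inferInstanceAs (Mono (bι K q ≫ K.iCycles q))
    refine (ShortComplex.exact_iff_of_epi_of_isIso_of_mono φ).2 ?_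
    exact ShortComplex.exact_of_f_is_kernel _ (K.cyclesIsKernel p q hnext)
  exact { exact := hex
          mono_f := by dsimp [sa]; infer_instance
          epi_g := epi_t K p q hprev }

lemma isZero_Bd_zero : IsZero (Bd K 0) := by
  have h0 : K.toCycles 0 0 = 0 := by
    rw [← cancel_mono (K.iCycles 0), HomologicalComplex.toCycles_i, zero_comp]
    exact K.shape 0 0 (by simp)
  have hS : (ShortComplex.mk (K.toCycles 0 0) (K.homologyπ 0)
      (K.toCycles_comp_homologyπ 0 0)).Exact :=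
    ShortComplex.exact_of_g_is_cokernel _ (K.homologyIsCokernel 0 0 (by simp))
  have hm : Mono (K.homologyπ 0) := hS.mono_g h0
  exact isZero_kernel_of_mono _

end Complex

section Acyclic

variable {B : Type u} [Category.{v} B] [Abelian B] [HasDerivedCategory.{w} B] [EnoughInjectives B]
  {C : Type u'} [Category.{v'} C] [Abelian C] [HasDerivedCategory.{w'} C]
  (Ψ : B ⥤ C) [Ψ.Additive] [PreservesFiniteLimits Ψ] (K : CochainComplex B ℕ)
  (hK : ∀ n, Acy Ψ (K.X n)) (hH : ∀ n, Acy Ψ (K.homology n))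

omit [PreservesFiniteLimits Ψ] in
include hK hH in
lemma acy_Bd_cycles (q : ℕ) : Acy Ψ (Bd K q) ∧ Acy Ψ (K.cycles q) := by
  induction q with
  | zero =>
    have h0 : Acy Ψ (Bd K 0) := acy_of_isZero Ψ _ (isZero_Bd_zero K)
    exact ⟨h0, acy_X₂ Ψ (sb_shortExact K 0) h0 (hH 0)⟩
  | succ p ih =>
    have h1 : Acy Ψ (Bd K (p + 1)) := acy_X₃ Ψ (sa_shortExact K p (p + 1) rfl) ih.2 (hK p)
    exact ⟨h1, acy_X₂ Ψ (sb_shortExact K (p + 1)) h1 (hH (p + 1))⟩

include hK hH in
lemma epi_map_t (q : ℕ) : Epi (Ψ.map (t K ((ComplexShape.up ℕ).prev q) q)) := by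
  cases q with
  | zero =>
    have hz : IsZero (Ψ.obj (Bd K 0)) := Ψ.map_isZero (isZero_Bd_zero K)
    exact ⟨fun a b _ => hz.eq_of_src a b⟩
  | succ p =>
    have hp : (ComplexShape.up ℕ).prev (p + 1) = p := (ComplexShape.up ℕ).prev_eq' rfl
    rw [hp]
    exact (shortExact_map_of_acy Ψ (sa_shortExact K p (p + 1) rfl)
      (acy_Bd_cycles Ψ K hK hH p).2).epi_g

omit [HasDerivedCategory.{w} B] [EnoughInjectives B] [HasDerivedCategory.{w'} C] in
lemma isIso_cyclesComparison (q : ℕ) : IsIso (RDer.cyclesComparison Ψ K q) := by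
  let ΨK := (Ψ.mapHomologicalComplex (ComplexShape.up ℕ)).obj K
  have hmono : Mono (Ψ.map (K.iCycles q)) := inferInstance
  refine ⟨ΨK.liftCycles (Ψ.map (K.iCycles q)) _ rfl ?_, ?_, ?_⟩
  · change Ψ.map (K.iCycles q) ≫ Ψ.map (K.d q _) = 0
    rw [← Ψ.map_comp, K.iCycles_d, Ψ.map_zero]
  · rw [← cancel_mono (ΨK.iCycles q)]
    simp only [Category.assoc, HomologicalComplex.liftCycles_i, Category.id_comp]
    exact RDer.cyclesComparison_i Ψ K q
  · rw [← cancel_mono (Ψ.map (K.iCycles q))]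
    simp only [Category.assoc, RDer.cyclesComparison_i, Category.id_comp]
    exact HomologicalComplex.liftCycles_i _ _ _ _ _

include hK hH in
theorem isIso_homologyComparison_of_acy (q : ℕ) : IsIso (RDer.homologyComparison Ψ K q) := by
  let ΨK := (Ψ.mapHomologicalComplex (ComplexShape.up ℕ)).obj K
  let p := (ComplexShape.up ℕ).prev q
  have hκ := isIso_cyclesComparison Ψ K q
  let κ := RDer.cyclesComparison Ψ K q
  have hb : Acy Ψ (Bd K q) := (acy_Bd_cycles Ψ K hK hH q).1
  have hSb := shortExact_map_of_acy Ψ (sb_shortExact K q) hb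
  have hepiπ : Epi (Ψ.map (K.homologyπ q)) := hSb.epi_g
  -- epi
  have hfac : ΨK.homologyπ q ≫ RDer.homologyComparison Ψ K q = κ ≫ Ψ.map (K.homologyπ q) :=
    RDer.homologyπ_homologyComparison Ψ K q
  have hepi : Epi (RDer.homologyComparison Ψ K q) := by
    have : Epi (ΨK.homologyπ q ≫ RDer.homologyComparison Ψ K q) := by
      rw [hfac]; exact epi_comp _ _
    exact epi_of_epi (ΨK.homologyπ q) _
  -- mono
  have hw : ΨK.toCycles p q ≫ κ ≫ Ψ.map (K.homologyπ q) = 0 := by
    rw [← hfac, ← Category.assoc, ΨK.toCycles_comp_homologyπ, zero_comp]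
  let S₁ : ShortComplex C := ShortComplex.mk (ΨK.toCycles p q) (κ ≫ Ψ.map (K.homologyπ q)) hw
  have hepit : Epi (Ψ.map (t K p q)) := epi_map_t Ψ K hK hH q
  have hS₁ : S₁.Exact := by
    let φ : S₁ ⟶ (sb K q).map Ψ :=
      { τ₁ := Ψ.map (t K p q)
        τ₂ := κ
        τ₃ := 𝟙 _
        comm₁₂ := by
          change Ψ.map (t K p q) ≫ Ψ.map (bι K q) = ΨK.toCycles p q ≫ κ
          rw [← Ψ.map_comp, t_bι]
          exact (RDer.toCycles_cyclesComparison Ψ K q).symm
        comm₂₃ := by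
          change κ ≫ Ψ.map (K.homologyπ q) = (κ ≫ Ψ.map (K.homologyπ q)) ≫ 𝟙 _
          rw [Category.comp_id] }
    have h1 : Epi φ.τ₁ := hepit
    have h2 : IsIso φ.τ₂ := hκ
    have h3 : Mono φ.τ₃ := inferInstanceAs (Mono (𝟙 _))
    exact (ShortComplex.exact_iff_of_epi_of_isIso_of_mono φ).2 hSb.exact
  have hm₁ : Mono (cokernel.desc S₁.f S₁.g S₁.zero) := hS₁.mono_cokernelDesc
  let e : cokernel (ΨK.toCycles p q) ≅ ΨK.homology q :=
    (colimit.isColimit _).coconePointUniqueUpToIso (ΨK.homologyIsCokernel p q rfl)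
  have he : cokernel.π (ΨK.toCycles p q) ≫ e.hom = ΨK.homologyπ q :=
    (colimit.isColimit _).comp_coconePointUniqueUpToIso_hom
      (ΨK.homologyIsCokernel p q rfl) WalkingParallelPair.one
  have hcomp : e.hom ≫ RDer.homologyComparison Ψ K q = cokernel.desc S₁.f S₁.g S₁.zero := by
    rw [← cancel_epi (cokernel.π (ΨK.toCycles p q)), ← Category.assoc, he, hfac]
    exact (cokernel.π_desc S₁.f S₁.g S₁.zero).symm
  have hmono : Mono (RDer.homologyComparison Ψ K q) := by
    have h : RDer.homologyComparison Ψ K q = e.inv ≫ cokernel.desc S₁.f S₁.g S₁.zero := by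
      rw [← hcomp, e.inv_hom_id_assoc]
    rw [h]
    exact mono_comp _ _
  exact isIso_of_mono_of_epi _

end Acyclic

section Edge

universe v₁ v₂ v₃ u₁ u₂ u₃

variable {A : Type u₁} [Category.{v₁} A] [Abelian A] [HasInjectiveResolutions A]
  {B : Type u₂} [Category.{v₂} B] [Abelian B] [HasInjectiveResolutions B]
  {C : Type u₃} [Category.{v₃} C] [Abelian C]
  (Φ : A ⥤ B) [Φ.Additive] (Ψ : B ⥤ C) [Ψ.Additive] [PreservesFiniteLimits Ψ]

/-- classical form of the comparison theorem. -/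
theorem isIso_homologyComparison (K : CochainComplex B ℕ)
    (hK : ∀ n i : ℕ, IsZero ((Ψ.rightDerived (i + 1)).obj (K.X n)))
    (hH : ∀ n i : ℕ, IsZero ((Ψ.rightDerived (i + 1)).obj (K.homology n))) (q : ℕ) :
    IsIso (RDer.homologyComparison Ψ K q) := by
  letI := HasDerivedCategory.standard B
  letI := HasDerivedCategory.standard C
  haveI := Groth.Agent.H5.GSS.enoughInjectives_of_hasInjectiveResolutions B
  have hK' : ∀ n, Acy Ψ (K.X n) := fun n =>
    Groth.Agent.H5.GSS.acy_of_rightDerived Ψ _ (fun i hi => by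
      obtain ⟨j, rfl⟩ := Nat.exists_eq_succ_of_ne_zero hi.ne'
      exact hK n j)
  have hH' : ∀ n, Acy Ψ (K.homology n) := fun n =>
    Groth.Agent.H5.GSS.acy_of_rightDerived Ψ _ (fun i hi => by
      obtain ⟨j, rfl⟩ := Nat.exists_eq_succ_of_ne_zero hi.ne'
      exact hH n j)
  exact isIso_homologyComparison_of_acy Ψ K hK' hH' q

/-- The second edge map `R^q (Φ ⋙ Ψ) X ⟶ Ψ (R^q Φ X)` is an isomorphism when `Φ` sends injectives
to `Ψ`-acyclic objects and all `R^n Φ X` are `Ψ`-acyclic. -/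
theorem isIso_edgeOut
    (h1 : ∀ I : A, Injective I → ∀ i : ℕ, IsZero ((Ψ.rightDerived (i + 1)).obj (Φ.obj I)))
    (X : A) (h2 : ∀ n i : ℕ, IsZero ((Ψ.rightDerived (i + 1)).obj ((Φ.rightDerived n).obj X)))
    (q : ℕ) : IsIso (RDer.edgeOut Φ Ψ q X) := by
  let I := injectiveResolution X
  let K := (Φ.mapHomologicalComplex (ComplexShape.up ℕ)).obj I.cocomplex
  have hK : ∀ n i : ℕ, IsZero ((Ψ.rightDerived (i + 1)).obj (K.X n)) := fun n i =>
    h1 (I.cocomplex.X n) inferInstance i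
  have hH : ∀ n i : ℕ, IsZero ((Ψ.rightDerived (i + 1)).obj (K.homology n)) := fun n i =>
    (h2 n i).of_iso ((Ψ.rightDerived (i + 1)).mapIso (I.isoRightDerivedObj Φ n).symm)
  have h3 : IsIso (RDer.homologyComparison Ψ
      ((Φ.mapHomologicalComplex (ComplexShape.up ℕ)).obj (injectiveResolution X).cocomplex) q) :=
    isIso_homologyComparison Ψ K hK hH q
  have h4 : IsIso (Ψ.map ((injectiveResolution X).isoRightDerivedObj Φ q).inv) := inferInstance
  unfold RDer.edgeOut
  exact IsIso.comp_isIso' inferInstance (IsIso.comp_isIso' h3 h4)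

end Edge

end Groth.Agent.H30.HomCmp
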