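import Groth.Agent.H30.HomCmp

/-!
# Refined comparison: `H^q (Ψ K) ≅ Ψ (H^q K)` when the terms `K^n` and the cohomology `H^p K`, `p < q`,
are `Ψ`-acyclic (helper30)
-/

set_option autoImplicit false
universe w w' v v' u u'
open CategoryTheory CategoryTheory.Limits
open Groth.Agent.H45.RDP

namespace Groth.Agent.H30.HomCmp

section Acyclic

variable {B : Type u} [Category.{v} B] [Abelian B] [HasDerivedCategory.{w} B] [EnoughInjectives B]
  {C : Type u'} [Category.{v'} C] [Abelian C] [HasDerivedCategory.{w'} C]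
  (F : B ⥤ C) [F.Additive]

/-- the first term of a short exact sequence with acyclic middle and right terms, on which
`F` is right exact, is acyclic. -/
lemma acy_X₁ [PreservesFiniteLimits F] {S : ShortComplex B} (hS : S.ShortExact)
    (h₂ : Acy F S.X₂) (h₃ : Acy F S.X₃) (hepi : Epi (F.map S.g)) : Acy F S.X₁ := by
  intro n hn
  by_cases h1 : n = 1
  · subst h1
    obtain ⟨δ, w₁, w₂, e₁, e₂⟩ := RnF_exists_δ F hS 0 1 (by norm_num)
    -- `R⁰F(g)` is epi
    have i2 := isIso_uN_zero F S.X₂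
    have i3 := isIso_uN_zero F S.X₃
    have hepiS : Epi ((Src F 0).map S.g) := by
      have nat := (srcIso F).hom.naturality S.g
      have h0 : Epi ((Src F 0).map S.g ≫ (srcIso F).hom.app S.X₃) := by
        rw [nat]; exact epi_comp _ _
      have h := epi_comp ((Src F 0).map S.g ≫ (srcIso F).hom.app S.X₃)
        ((srcIso F).inv.app S.X₃)
      simpa using h
    have hepiR : Epi ((RnF F 0).map S.g) := by
      have nat := (uN F 0).naturality S.g
      have h0 : Epi ((uN F 0).app S.X₂ ≫ (RnF F 0).map S.g) := by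
        rw [← nat]; exact epi_comp _ _
      exact epi_of_epi ((uN F 0).app S.X₂) _
    have hδ0 : δ = 0 := by
      rw [← cancel_epi ((RnF F 0).map S.g), w₁, comp_zero]
    have hδepi : Epi δ := e₂.epi_f ((h₂ 1 (by norm_num)).eq_of_tgt _ _)
    rw [IsZero.iff_id_eq_zero, ← cancel_epi δ, hδ0, zero_comp, zero_comp]
  · obtain ⟨δ, w₁, w₂, e₁, e₂⟩ := RnF_exists_δ F hS (n - 1) n (by omega)
    exact e₂.isZero_of_both_zeros ((h₃ (n - 1) (by omega)).eq_of_src _ _)
      ((h₂ n hn).eq_of_tgt _ _)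

variable (Ψ : B ⥤ C) [Ψ.Additive] [PreservesFiniteLimits Ψ] (K : CochainComplex B ℕ) (q : ℕ)
  (hK : ∀ n, n < q → Acy Ψ (K.X n)) (hH : ∀ n, n < q → Acy Ψ (K.homology n))

omit [PreservesFiniteLimits Ψ] in
include hK hH in
lemma acy_Bd_lt : ∀ r, r ≤ q → Acy Ψ (Bd K r) := by
  intro r
  induction r with
  | zero => exact fun _ => acy_of_isZero Ψ _ (isZero_Bd_zero K)
  | succ p ih =>
    intro hp
    have h1 : Acy Ψ (K.cycles p) :=
      acy_X₂ Ψ (sb_shortExact K p) (ih (by omega)) (hH p (by omega))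
    exact acy_X₃ Ψ (sa_shortExact K p (p + 1) rfl) h1 (hK p (by omega))

include hK hH in
lemma epi_map_t_lt : Epi (Ψ.map (t K ((ComplexShape.up ℕ).prev q) q)) := by
  cases q with
  | zero =>
    have hz : IsZero (Ψ.obj (Bd K 0)) := Ψ.map_isZero (isZero_Bd_zero K)
    exact ⟨fun a b _ => hz.eq_of_src a b⟩
  | succ p =>
    have hp : (ComplexShape.up ℕ).prev (p + 1) = p := (ComplexShape.up ℕ).prev_eq' rfl
    rw [hp]
    have h1 : Acy Ψ (K.cycles p) :=
      acy_X₂ Ψ (sb_shortExact K p) (acy_Bd_lt Ψ K (p + 1) hK hH p (by omega)) (hH p (by omega))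
    exact (shortExact_map_of_acy Ψ (sa_shortExact K p (p + 1) rfl) h1).epi_g

include hK hH in
theorem isIso_homologyComparison_of_acy_lt : IsIso (RDer.homologyComparison Ψ K q) := by
  let ΨK := (Ψ.mapHomologicalComplex (ComplexShape.up ℕ)).obj K
  let p := (ComplexShape.up ℕ).prev q
  have hκ := isIso_cyclesComparison Ψ K q
  let κ := RDer.cyclesComparison Ψ K q
  have hb : Acy Ψ (Bd K q) := acy_Bd_lt Ψ K q hK hH q le_rfl
  have hSb := shortExact_map_of_acy Ψ (sb_shortExact K q) hb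
  have hepiπ : Epi (Ψ.map (K.homologyπ q)) := hSb.epi_g
  have hfac : ΨK.homologyπ q ≫ RDer.homologyComparison Ψ K q = κ ≫ Ψ.map (K.homologyπ q) :=
    RDer.homologyπ_homologyComparison Ψ K q
  have hepi : Epi (RDer.homologyComparison Ψ K q) := by
    have : Epi (ΨK.homologyπ q ≫ RDer.homologyComparison Ψ K q) := by
      rw [hfac]; exact epi_comp _ _
    exact epi_of_epi (ΨK.homologyπ q) _
  have hw : ΨK.toCycles p q ≫ κ ≫ Ψ.map (K.homologyπ q) = 0 := by
    rw [← hfac, ← Category.assoc, ΨK.toCycles_comp_homologyπ, zero_comp]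
  let S₁ : ShortComplex C := ShortComplex.mk (ΨK.toCycles p q) (κ ≫ Ψ.map (K.homologyπ q)) hw
  have hepit : Epi (Ψ.map (t K p q)) := epi_map_t_lt Ψ K q hK hH
  have hS₁ : S₁.Exact := by
    let φ : S₁ ⟶ (sb K q).map Ψ :=
      { τ₁ := Ψ.map (t K p q)
        τ₂ := κ
        τ₃ := 𝟙 _
        comm₁₂ := by
          change Ψ.map (t K p q) ≫ Ψ.map (bι K q) = ΨK.toCycles p q ≫ κ
          rw [← Ψ.map_comp, t_bι]
          exact (RDer.toCycles_cyclesComparison Ψ K q).symm
        comm₂₃ := by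
          change κ ≫ Ψ.map (K.homologyπ q) = (κ ≫ Ψ.map (K.homologyπ q)) ≫ 𝟙 _
          rw [Category.comp_id] }
    have h1 : Epi φ.τ₁ := hepit
    have h2 : IsIso φ.τ₂ := hκ
    have h3 : Mono φ.τ₃ := inferInstanceAs (Mono (𝟙 _))
    exact (ShortComplex.exact_iff_of_epi_of_isIso_of_mono φ).2 hSb.exact
  have hm₁ : Mono (cokernel.desc S₁.f S₁.g S₁.zero) := hS₁.mono_cokernelDesc
  let e : cokernel (ΨK.toCycles p q) ≅ ΨK.homology q :=
    (colimit.isColimit _).coconePointUniqueUpToIso (ΨK.homologyIsCokernel p q rfl)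
  have he : cokernel.π (ΨK.toCycles p q) ≫ e.hom = ΨK.homologyπ q :=
    (colimit.isColimit _).comp_coconePointUniqueUpToIso_hom
      (ΨK.homologyIsCokernel p q rfl) WalkingParallelPair.one
  have hcomp : e.hom ≫ RDer.homologyComparison Ψ K q = cokernel.desc S₁.f S₁.g S₁.zero := by
    rw [← cancel_epi (cokernel.π (ΨK.toCycles p q)), ← Category.assoc, he, hfac]
    exact (cokernel.π_desc S₁.f S₁.g S₁.zero).symm
  have hmono : Mono (RDer.homologyComparison Ψ K q) := by
    have h : RDer.homologyComparison Ψ K q = e.inv ≫ cokernel.desc S₁.f S₁.g S₁.zero := by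
      rw [← hcomp, e.inv_hom_id_assoc]
    rw [h]
    exact mono_comp _ _
  exact isIso_of_mono_of_epi _

end Acyclic

section Edge

universe v₁ v₂ v₃ u₁ u₂ u₃

variable {A : Type u₁} [Category.{v₁} A] [Abelian A] [HasInjectiveResolutions A]
  {B : Type u₂} [Category.{v₂} B] [Abelian B] [HasInjectiveResolutions B]
  {C : Type u₃} [Category.{v₃} C] [Abelian C]
  (Φ : A ⥤ B) [Φ.Additive] (Ψ : B ⥤ C) [Ψ.Additive] [PreservesFiniteLimits Ψ]

/-- The second edge map `R^q (Φ ⋙ Ψ) X ⟶ Ψ (R^q Φ X)` is an isomorphism when `Φ` sends injectives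
to `Ψ`-acyclic objects and `R^n Φ X` is `Ψ`-acyclic for all `n < q` (e.g. zero). -/
theorem isIso_edgeOut_of_lt
    (h1 : ∀ I : A, Injective I → ∀ i : ℕ, IsZero ((Ψ.rightDerived (i + 1)).obj (Φ.obj I)))
    (X : A) (q : ℕ)
    (h2 : ∀ n i : ℕ, n < q → IsZero ((Ψ.rightDerived (i + 1)).obj ((Φ.rightDerived n).obj X))) :
    IsIso (RDer.edgeOut Φ Ψ q X) := by
  letI := HasDerivedCategory.standard B
  letI := HasDerivedCategory.standard C
  haveI := Groth.Agent.H5.GSS.enoughInjectives_of_hasInjectiveResolutions B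
  let I := injectiveResolution X
  let K := (Φ.mapHomologicalComplex (ComplexShape.up ℕ)).obj I.cocomplex
  have hK : ∀ n, n < q → Acy Ψ (K.X n) := fun n _ =>
    Groth.Agent.H5.GSS.acy_of_rightDerived Ψ _ (fun i hi => by
      obtain ⟨k, rfl⟩ := Nat.exists_eq_succ_of_ne_zero hi.ne'
      exact h1 (I.cocomplex.X n) inferInstance k)
  have hH : ∀ n, n < q → Acy Ψ (K.homology n) := fun n hn =>
    Groth.Agent.H5.GSS.acy_of_rightDerived Ψ _ (fun i hi => by
      obtain ⟨k, rfl⟩ := Nat.exists_eq_succ_of_ne_zero hi.ne'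
      exact (h2 n k hn).of_iso ((Ψ.rightDerived (k + 1)).mapIso (I.isoRightDerivedObj Φ n).symm))
  have h3 : IsIso (RDer.homologyComparison Ψ
      ((Φ.mapHomologicalComplex (ComplexShape.up ℕ)).obj (injectiveResolution X).cocomplex) q) :=
    isIso_homologyComparison_of_acy_lt Ψ K q hK hH
  have h4 : IsIso (Ψ.map ((injectiveResolution X).isoRightDerivedObj Φ q).inv) := inferInstance
  unfold RDer.edgeOut
  exact IsIso.comp_isIso' inferInstance (IsIso.comp_isIso' h3 h4)

end Edge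

end Groth.Agent.H30.HomCmp
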