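import Groth.Agent.H30.HomCmp
import Groth.Agent.H30.RpushQcoh
import Groth.Agent.H67.TotAcyc4
import Groth.Prelude.Def_CohBC2

/-!
# The second Leray edge map is an isomorphism for `g` affine, `f` qcqs (helper30)
-/

set_option autoImplicit false
universe u
open CategoryTheory CategoryTheory.Limits AlgebraicGeometry TopologicalSpace Opposite

namespace Groth.Agent.H30.LerayOut

open Scheme.Modules Groth.Agent.H30.RpushQcoh

/-- Higher direct images (module level) of `f_* I` vanish for `I` an injective module. -/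
theorem isZero_Rpush_push_of_injective {X Y Z : Scheme.{u}} (f : X ⟶ Y) (g : Y ⟶ Z)
    (I : X.Modules) (hI' : Injective I) (i : ℕ) :
    IsZero ((Coh.Rpush g (i + 1)).obj ((pushforward f).obj I)) := by
  obtain ⟨e⟩ := Groth.Agent.S11319.result g ((pushforward f).obj I) (i + 1)
  apply isZero_of_isZero_toAb
  refine IsZero.of_iso ?_ e
  have hI : CohCx.IsTotallyAcyclic (Coh.toAb I) :=
    @Groth.Agent.H30.ModCech.isTotallyAcyclic_of_injective _ _ _ X.ringCatSheaf I hI'
  have hflat : RepresentablyFlat (Opens.map f.base) := inferInstance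
  have hpf : PreservesFiniteLimits (Opens.map f.base) := preservesFiniteLimits_of_flat _
  have hpush : CohCx.IsTotallyAcyclic (Coh.toAb ((pushforward f).obj I)) := fun K' p =>
    Groth.Agent.H67.TotAcyc.push_isTotallyAcyclic (Opens.grothendieckTopology X)
      (Opens.grothendieckTopology Y) (Opens.map f.base) p (Coh.toAb I) hI K'
  exact Groth.Agent.S0865.result _ _ (TopologicalSpace.Opens.map g.base) _ hpush i

theorem isZero_Rpush_Rpush {X Y Z : Scheme.{u}} (f : X ⟶ Y) (g : Y ⟶ Z)
    [QuasiCompact f] [QuasiSeparated f] [IsAffineHom g]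
    (M : X.Modules) [M.IsQuasicoherent] (n i : ℕ) :
    IsZero ((Coh.Rpush g (i + 1)).obj ((Coh.Rpush f n).obj M)) := by
  haveI : ((Coh.Rpush f n).obj M).IsQuasicoherent := isQCoh_Rpush f M n
  obtain ⟨e⟩ := Groth.Agent.S11319.result g ((Coh.Rpush f n).obj M) (i + 1)
  exact isZero_of_isZero_toAb _
    ((Groth.Agent.S0028.result g ((Coh.Rpush f n).obj M) (i + 1) (Nat.succ_pos i)).of_iso e)

theorem isIso_lerayEdgeOut {X Y Z : Scheme.{u}} (f : X ⟶ Y) (g : Y ⟶ Z)
    [QuasiCompact f] [QuasiSeparated f] [IsAffineHom g] [HasInjectiveResolutions X.Modules]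
    (M : X.Modules) [M.IsQuasicoherent] (p : ℕ) :
    IsIso (CohBC.lerayEdgeOut f g p M) := by
  have h := Groth.Agent.H30.HomCmp.isIso_edgeOut (pushforward f) (pushforward g)
    (fun I hI i => isZero_Rpush_push_of_injective f g I hI i) M
    (fun n i => isZero_Rpush_Rpush f g M n i) p
  unfold CohBC.lerayEdgeOut
  exact IsIso.comp_isIso' inferInstance h

end Groth.Agent.H30.LerayOut
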