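/-
Helper library (helper30): functors between sheaf topoi that preserve finite limits and
jointly epimorphic families are continuous for the canonical topologies; colimit-preserving
functors between sheaf topoi are left adjoints.
-/
import Groth.Agent.H30.CanSheaf
import Mathlib.CategoryTheory.Sites.CoverPreserving
import Mathlib.CategoryTheory.Sites.Localization
import Mathlib.CategoryTheory.Limits.Presheaf
import Mathlib.CategoryTheory.Adjunction.Restrict
import Mathlib.CategoryTheory.Functor.Flat

set_option autoImplicit false

universe u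

namespace Groth.Agent.H30.LexEpi

open CategoryTheory Limits Opposite
open Groth.Agent.H30.TFin Groth.Agent.H30.CanSheaf

variable {C : Type u} [SmallCategory C] {J : GrothendieckTopology C}

/-- The sections lying in a canonical covering sieve form a small jointly epimorphic family. -/
lemma je_sec_of_mem_canonical {X : Sheaf J (Type u)} (S : Sieve X)
    (hS : S ∈ Sheaf.canonicalTopology (Sheaf J (Type u)) X) :
    JE (fun p : Σ V : C, {t : X.obj.obj (op V) // S (sec t)} => sec p.2.1) := by
  intro Z a b hab
  apply je_of_mem_canonical S hS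
  intro Y g hg
  apply je_sec Y
  rintro ⟨V, y⟩
  dsimp only
  have hmem : S (sec (g.hom.app (op V) y)) := by
    rw [← sec_comp]
    exact S.downward_closed hg _
  have := hab ⟨V, g.hom.app (op V) y, hmem⟩
  dsimp only at this
  rw [← Category.assoc, ← Category.assoc, sec_comp]
  exact this

variable {D : Type u} [SmallCategory D] {K : GrothendieckTopology D}

/-- A functor between sheaf topoi preserving small jointly epimorphic families is cover
preserving for the canonical topologies. -/
lemma coverPreserving_of_je (f : Sheaf J (Type u) ⥤ Sheaf K (Type u))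
    (hf : ∀ (ι : Type u) (H : Sheaf J (Type u)) (G : ι → Sheaf J (Type u)) (g : ∀ i, G i ⟶ H),
      JE g → JE (fun i => f.map (g i))) :
    CoverPreserving (Sheaf.canonicalTopology (Sheaf J (Type u)))
      (Sheaf.canonicalTopology (Sheaf K (Type u))) f := by
  constructor
  intro X S hS
  have h1 := hf _ X _ _ (je_sec_of_mem_canonical S hS)
  have h2 := ofArrows_mem_canonical _ h1
  refine GrothendieckTopology.superset_covering _ ?_ h2
  rw [Sieve.ofArrows, Sieve.generate_le_iff]
  rintro Y g ⟨p⟩
  exact Sieve.image_mem_functorPushforward f S p.2.2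

/-- A lex functor between sheaf topoi preserving small jointly epimorphic families is
continuous for the canonical topologies. -/
lemma isContinuous_of_lex_je (f : Sheaf J (Type u) ⥤ Sheaf K (Type u)) [PreservesFiniteLimits f]
    (hf : ∀ (ι : Type u) (H : Sheaf J (Type u)) (G : ι → Sheaf J (Type u)) (g : ∀ i, G i ⟶ H),
      JE g → JE (fun i => f.map (g i))) :
    f.IsContinuous (Sheaf.canonicalTopology (Sheaf J (Type u)))
      (Sheaf.canonicalTopology (Sheaf K (Type u))) := by
  haveI : RepresentablyFlat f := flat_of_preservesFiniteLimits f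
  exact Functor.isContinuous_of_coverPreserving (compatiblePreservingOfFlat _ f)
    (coverPreserving_of_je f hf)

/-! ### Covering sieves become isomorphisms after sheafification -/

lemma W_functorInclusion {X : C} (S : Sieve X) (hS : S ∈ J X) :
    J.W (A := Type u) S.functorInclusion := by
  intro Z hZ
  rw [isSheaf_iff_isSheaf_of_type] at hZ
  rw [Function.bijective_iff_existsUnique]
  exact Presieve.isSheafFor_iff_yonedaSheafCondition.1 (hZ S hS)

lemma isIso_sheafify_functorInclusion {X : C} (S : Sieve X) (hS : S ∈ J X) :
    IsIso ((presheafToSheaf J (Type u)).map S.functorInclusion) :=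
  (J.W_iff _).1 (W_functorInclusion S hS)

/-- If a left adjoint `L` from presheaves inverts the inclusions of covering sieves, its
right adjoint takes values in sheaves. -/
lemma rightAdjoint_isSheaf {E : Type*} [Category E] {L : (Cᵒᵖ ⥤ Type u) ⥤ E}
    {R : E ⥤ (Cᵒᵖ ⥤ Type u)} (adj : L ⊣ R)
    (hL : ∀ (X : C) (S : Sieve X), S ∈ J X → IsIso (L.map S.functorInclusion)) (Y : E) :
    Presheaf.IsSheaf J (R.obj Y) := by
  rw [isSheaf_iff_isSheaf_of_type]
  intro X S hS
  rw [Presieve.isSheafFor_iff_yonedaSheafCondition]
  have h1 : Function.Bijective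
      (fun g : L.obj (yoneda.obj X) ⟶ Y => L.map S.functorInclusion ≫ g) := by
    haveI := hL X S hS
    exact ⟨fun a b h => (cancel_epi _).1 h,
      fun b => ⟨inv (L.map S.functorInclusion) ≫ b, by simp⟩⟩
  have h2 := (adj.map_comp_bijective_iff S.functorInclusion Y).1 h1
  exact (Function.bijective_iff_existsUnique _).1 h2

/-- A functor from a sheaf topos on a small site to a cocomplete category which preserves
small colimits is a left adjoint. -/
theorem isLeftAdjoint_of_preservesColimits {E : Type (u + 1)} [Category.{u} E]
    [HasColimitsOfSize.{u, u} E] (f : Sheaf J (Type u) ⥤ E)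
    [PreservesColimitsOfSize.{u, u} f] : f.IsLeftAdjoint := by
  let L : (Cᵒᵖ ⥤ Type u) ⥤ E := presheafToSheaf J (Type u) ⋙ f
  haveI : PreservesColimitsOfSize.{u, u} L := inferInstance
  haveI : L.IsLeftAdjoint := Presheaf.isLeftAdjoint_of_preservesColimits.{u} L
  let R := L.rightAdjoint
  let adj : L ⊣ R := Adjunction.ofIsLeftAdjoint L
  have hR : ∀ Y, Presheaf.IsSheaf J (R.obj Y) := fun Y =>
    rightAdjoint_isSheaf adj (fun X S hS => by
      haveI := isIso_sheafify_functorInclusion S hS
      show IsIso (f.map ((presheafToSheaf J (Type u)).map S.functorInclusion))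
      infer_instance) Y
  let R' : E ⥤ Sheaf J (Type u) := ObjectProperty.lift _ R hR
  exact (adj.restrictFullyFaithful (fullyFaithfulSheafToPresheaf J (Type u))
    (Functor.FullyFaithful.id _) (L := f) (R := R')
    ((Functor.associator _ _ _).symm ≪≫
      Functor.isoWhiskerRight (sheafificationNatIso J (Type u)).symm f ≪≫
      f.leftUnitor ≪≫ f.rightUnitor.symm)
    (R.leftUnitor ≪≫ (ObjectProperty.liftCompιIso _ R hR).symm)).isLeftAdjoint

end Groth.Agent.H30.LexEpi
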