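import Groth.Agent.H30.Cop
import Mathlib.CategoryTheory.Adjunction.Reflective
import Mathlib.CategoryTheory.Adjunction.FullyFaithful
import Mathlib.CategoryTheory.Monad.Limits
import Mathlib.CategoryTheory.Sites.Canonical
import Mathlib.CategoryTheory.Sites.IsSheafFor
import Mathlib.CategoryTheory.Subfunctor.Image
import Mathlib.CategoryTheory.Subfunctor.Sieves
import Mathlib.CategoryTheory.Limits.Types.Pullbacks
import Mathlib.CategoryTheory.Limits.FunctorCategory.Basic
import Mathlib.CategoryTheory.Limits.Preserves.Finite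

/-!
# The topology attached to a left exact reflective subcategory of presheaves
-/

set_option autoImplicit false
universe u

namespace Groth.Agent.H30.LexRefl

open CategoryTheory Limits Opposite

variable {C : Type u} [SmallCategory C] (P : ObjectProperty (Cᵒᵖ ⥤ Type u))
  [Reflective P.ι]

/-- A map is inverted by the reflector iff it induces bijections on maps into local objects. -/
lemma W_iff {A B : Cᵒᵖ ⥤ Type u} (f : A ⟶ B) :
    IsIso ((reflector P.ι).map f) ↔
      ∀ T : P.FullSubcategory, Function.Bijective (fun g : B ⟶ T.obj => f ≫ g) := by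
  rw [isIso_iff_coyoneda_map_bijective]
  refine forall_congr' fun T => ?_
  have key : (fun g' : (reflector P.ι).obj B ⟶ T => (reflector P.ι).map f ≫ g') =
      ((reflectorAdjunction P.ι).homEquiv A T).symm ∘ (fun g : B ⟶ T.obj => f ≫ g) ∘
        ((reflectorAdjunction P.ι).homEquiv B T) := by
    funext g'
    show _ = ((reflectorAdjunction P.ι).homEquiv A T).symm
      (f ≫ (reflectorAdjunction P.ι).homEquiv B T g')
    rw [Adjunction.homEquiv_naturality_left_symm, Equiv.symm_apply_apply]
  rw [key, Equiv.comp_bijective, Equiv.bijective_comp]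

variable [PreservesFiniteLimits (reflector P.ι)]

lemma W_of_isPullback {A' A B' B : Cᵒᵖ ⥤ Type u} {t : A' ⟶ B'} {l : A' ⟶ A} {r : B' ⟶ B}
    {b : A ⟶ B} (sq : IsPullback t l r b) (h : IsIso ((reflector P.ι).map b)) :
    IsIso ((reflector P.ι).map t) :=
  (sq.map (reflector P.ι)).isIso_fst_of_isIso

/-- The pullback square computing a pulled back sieve. -/
lemma isPullback_sieve_pullback {X Y : C} (S : Sieve X) (f : Y ⟶ X) :
    IsPullback (S.pullback f).functorInclusion
      ({ app := fun U => ↾fun g => ⟨g.1 ≫ f, g.2⟩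
         naturality := fun U V k => by
          ext g
          exact Subtype.ext (Category.assoc _ _ _) } : (S.pullback f).functor ⟶ S.functor)
      (yoneda.map f) S.functorInclusion := by
  refine IsPullback.of_forall_isPullback_app fun U => ?_
  rw [Types.isPullback_iff]
  refine ⟨rfl, ?_, ?_⟩
  · rintro x₁ y₁ ⟨h₁, -⟩
    exact Subtype.ext h₁
  · intro x₂ x₃ h
    have h' : x₂ ≫ f = x₃.1 := h
    exact ⟨⟨x₂, (h' ▸ x₃.2 : S (x₂ ≫ f))⟩, rfl, Subtype.ext h'⟩

/-- The pullback square computing the sieve of a section of a subfunctor. -/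
lemma isPullback_sieveOfSection {G : Cᵒᵖ ⥤ Type u} (I : Subfunctor G) {X : C}
    (x : G.obj (op X)) :
    IsPullback (I.sieveOfSection x).functorInclusion
      ({ app := fun U => ↾fun g => ⟨G.map g.1.op x, g.2⟩
         naturality := fun U V k => by
          ext g
          apply Subtype.ext
          show G.map (k.unop ≫ g.1).op x = G.map k (G.map g.1.op x)
          rw [op_comp, Quiver.Hom.op_unop, Functor.map_comp]
          rfl } :
        (I.sieveOfSection x).functor ⟶ I.toFunctor)
      (yonedaEquiv.symm x) I.ι := by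
  refine IsPullback.of_forall_isPullback_app fun U => ?_
  rw [Types.isPullback_iff]
  refine ⟨rfl, ?_, ?_⟩
  · rintro x₁ y₁ ⟨h₁, -⟩
    exact Subtype.ext h₁
  · intro x₂ x₃ h
    have h' : G.map x₂.op x = x₃.1 := h
    exact ⟨⟨x₂, (h' ▸ x₃.2 : G.map x₂.op x ∈ I.obj U)⟩, rfl, Subtype.ext h'⟩

/-- The topology attached to `P`. -/
def top : GrothendieckTopology C := Sheaf.finestTopology {F | P F}

lemma isSheaf_of_mem {F : Cᵒᵖ ⥤ Type u} (hF : P F) : Presieve.IsSheaf (top P) F :=
  Sheaf.sheaf_for_finestTopology _ hF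

lemma mem_top_iff {X : C} (S : Sieve X) :
    S ∈ top P X ↔ IsIso ((reflector P.ι).map S.functorInclusion) := by
  constructor
  · intro hS
    rw [W_iff]
    intro T
    have hs : Presieve.IsSheafFor T.obj S.arrows := isSheaf_of_mem P T.property S hS
    rw [Presieve.isSheafFor_iff_yonedaSheafCondition] at hs
    exact ⟨fun g₁ g₂ h => (hs (S.functorInclusion ≫ g₁)).unique rfl h.symm,
      fun f => (hs f).exists⟩
  · intro h
    apply Sheaf.mem_finestTopology_of_forall_isSheafFor
    intro F hF Y f
    rw [Presieve.isSheafFor_iff_yonedaSheafCondition]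
    have hW : IsIso ((reflector P.ι).map (S.pullback f).functorInclusion) :=
      W_of_isPullback P (isPullback_sieve_pullback S f) h
    have hb := (W_iff P _).1 hW ⟨F, hF⟩
    intro g
    obtain ⟨g', hg'⟩ := hb.2 g
    exact ⟨g', hg', fun g'' hg'' => hb.1 (hg''.trans hg'.symm)⟩

/-- If the reflector inverts the inclusion of a subfunctor, all sieves of sections are
covering. -/
lemma sieveOfSection_mem {G : Cᵒᵖ ⥤ Type u} (I : Subfunctor G)
    (hI : IsIso ((reflector P.ι).map I.ι)) {X : C} (x : G.obj (op X)) :
    I.sieveOfSection x ∈ top P X :=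
  (mem_top_iff P _).2 (W_of_isPullback P (isPullback_sieveOfSection I x) hI)

/-- If the reflector inverts `p`, it inverts the inclusion of the image of `p`. -/
lemma isIso_map_range_ι {A B : Cᵒᵖ ⥤ Type u} (p : A ⟶ B)
    (hp : IsIso ((reflector P.ι).map p)) :
    IsIso ((reflector P.ι).map (Subfunctor.range p).ι) := by
  have e : (reflector P.ι).map (Subfunctor.toRange p) ≫
      (reflector P.ι).map (Subfunctor.range p).ι = (reflector P.ι).map p := by
    rw [← Functor.map_comp, Subfunctor.toRange_ι]
  haveI : Mono ((reflector P.ι).map (Subfunctor.range p).ι) := inferInstance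
  haveI : IsSplitEpi ((reflector P.ι).map (Subfunctor.range p).ι) :=
    IsSplitEpi.mk' ⟨inv ((reflector P.ι).map p) ≫ (reflector P.ι).map (Subfunctor.toRange p), by
      rw [Category.assoc, e, IsIso.inv_hom_id]⟩
  exact isIso_of_mono_of_isSplitEpi _

theorem isIso_of_isSheaf {F G : Cᵒᵖ ⥤ Type u} (η : F ⟶ G)
    (hLη : IsIso ((reflector P.ι).map η)) (hF : Presieve.IsSheaf (top P) F)
    (hGsh : Presieve.IsSheaf (top P) G) : IsIso η := by
  -- injectivity
  have hinj : ∀ (X : C) (x y : F.obj (op X)), η.app (op X) x = η.app (op X) y → x = y := by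
    intro X x y hxy
    haveI : HasPullbacks P.FullSubcategory :=
      hasLimitsOfShape_of_reflective P.ι
    have hΔ : IsIso ((reflector P.ι).map (pullback.diagonal η)) :=
      (Groth.Agent.H30.Cop.isIso_map_diagonal_iff (reflector P.ι) η).2 inferInstance
    have hI := isIso_map_range_ι P (pullback.diagonal η) hΔ
    have sq := (IsPullback.of_hasPullback η η).app (op X)
    obtain ⟨z, hz₁, hz₂⟩ := Types.exists_of_isPullback sq x y hxy
    have hmem := sieveOfSection_mem P (Subfunctor.range (pullback.diagonal η)) hI z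
    refine (hF.isSeparated _ hmem).ext ?_
    rintro Y f ⟨w, hw⟩
    have h₁ := congrArg ((pullback.fst η η).app (op Y)) hw
    have h₂ := congrArg ((pullback.snd η η).app (op Y)) hw
    have n₁ : (pullback.fst η η).app (op Y) ((pullback η η).map f.op z) =
        F.map f.op ((pullback.fst η η).app (op X) z) :=
      NatTrans.naturality_apply (pullback.fst η η) f.op z
    have n₂ : (pullback.snd η η).app (op Y) ((pullback η η).map f.op z) =
        F.map f.op ((pullback.snd η η).app (op X) z) :=
      NatTrans.naturality_apply (pullback.snd η η) f.op z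
    have d₁ : (pullback.fst η η).app (op Y) ((pullback.diagonal η).app (op Y) w) = w :=
      congrArg (fun t : F ⟶ F => t.app (op Y) w) (pullback.diagonal_fst η)
    have d₂ : (pullback.snd η η).app (op Y) ((pullback.diagonal η).app (op Y) w) = w :=
      congrArg (fun t : F ⟶ F => t.app (op Y) w) (pullback.diagonal_snd η)
    rw [← hz₁, ← hz₂, ← n₁, ← n₂]
    exact (h₁.symm.trans d₁).trans (d₂.symm.trans h₂)
  -- surjectivity
  have hsurj : ∀ (X : C) (x : G.obj (op X)), ∃ t : F.obj (op X), η.app (op X) t = x := by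
    intro X x
    have hI := isIso_map_range_ι P η hLη
    have hmem := sieveOfSection_mem P (Subfunctor.range η) hI x
    let w : Presieve.FamilyOfElements F (Subfunctor.sieveOfSection (Subfunctor.range η) x).arrows :=
      fun Y f hf => (hf : ∃ t, η.app (op Y) t = G.map f.op x).choose
    have hw : ∀ {Y : C} (f : Y ⟶ X) (hf : (Subfunctor.sieveOfSection (Subfunctor.range η) x) f),
        η.app (op Y) (w f hf) = G.map f.op x :=
      fun {Y} f hf => (hf : ∃ t, η.app (op Y) t = G.map f.op x).choose_spec
    have hcomp : w.Compatible := by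
      intro Y₁ Y₂ Z g₁ g₂ f₁ f₂ h₁ h₂ e
      apply hinj
      have a₁ : η.app (op Z) (F.map g₁.op (w f₁ h₁)) = G.map g₁.op (η.app (op Y₁) (w f₁ h₁)) :=
        NatTrans.naturality_apply η g₁.op _
      have a₂ : η.app (op Z) (F.map g₂.op (w f₂ h₂)) = G.map g₂.op (η.app (op Y₂) (w f₂ h₂)) :=
        NatTrans.naturality_apply η g₂.op _
      rw [a₁, a₂, hw f₁ h₁, hw f₂ h₂, ← Functor.map_comp_apply,
        ← Functor.map_comp_apply, ← op_comp, ← op_comp, e]
    obtain ⟨t, ht, -⟩ := hF _ hmem w hcomp
    refine ⟨t, (hGsh.isSeparated _ hmem).ext ?_⟩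
    intro Y f hf
    have a : η.app (op Y) (F.map f.op t) = G.map f.op (η.app (op X) t) :=
      NatTrans.naturality_apply η f.op t
    rw [← a, ht f hf, hw f hf]
  rw [NatTrans.isIso_iff_isIso_app]
  intro U
  rw [isIso_iff_bijective]
  exact ⟨fun x y h => hinj U.unop x y h, fun x => hsurj U.unop x⟩

variable [P.IsClosedUnderIsomorphisms]

theorem mem_of_isSheaf {F : Cᵒᵖ ⥤ Type u} (hF : Presieve.IsSheaf (top P) F) : P F := by
  have hPG : P ((reflector P.ι).obj F).obj := ((reflector P.ι).obj F).property
  have h := (reflectorAdjunction P.ι).left_triangle_components F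
  have hLη : IsIso ((reflector P.ι).map ((reflectorAdjunction P.ι).unit.app F)) := by
    rw [IsIso.eq_inv_of_inv_hom_id h]
    infer_instance
  haveI := isIso_of_isSheaf P ((reflectorAdjunction P.ι).unit.app F) hLη hF
    (isSheaf_of_mem P hPG)
  exact P.prop_of_iso (asIso ((reflectorAdjunction P.ι).unit.app F)).symm hPG

end Groth.Agent.H30.LexRefl
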