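import Groth.Agent.H30.CechRes2
import Mathlib.Algebra.Category.ModuleCat.Presheaf.Free
import Mathlib.Algebra.Category.ModuleCat.Presheaf.Sheafification
import Mathlib.Algebra.Category.ModuleCat.Presheaf.Abelian
import Mathlib.Algebra.Category.ModuleCat.Sheaf.Abelian
import Mathlib.Algebra.Category.ModuleCat.Presheaf.Limits
import Mathlib.Algebra.Category.ModuleCat.Presheaf.Colimits

/-!
# The free `R`-module Čech complex of a morphism of sheaves of sets is exact in positive degrees
(helper30)

`R` a sheaf of rings on a small site.  `FR R : Sheaf J (Type u) ⥤ SheafOfModules R` is the free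
sheaf of modules on a sheaf of sets.  For every arrow `g` of sheaves of sets the alternating face
map complex of `g.cechNerve ⋙ FR R` is exact in positive degrees (`exactAt_succ`).
-/

set_option autoImplicit false

namespace Groth.Agent.H30.ModCech

open CategoryTheory Limits Opposite Simplicial AlgebraicTopology
open Groth.Agent.H30.CechRes

universe v' u' u

section ED

variable {𝒞 : Type u'} [Category.{v'} 𝒞] (f : Arrow 𝒞)
  [∀ n : ℕ, HasWidePullback.{0} f.right (fun _ : Fin (n + 1) => f.left) fun _ => f.hom] (H : 𝒞)

/-- any functor applied to `Hom(H, Čech_n(f))` gives a complex exact in positive degrees -/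
theorem exactAt_G_hom {D : Type*} [Category D] [Abelian D] (G : Type v' ⥤ D) (n : ℕ) :
    (AlternatingFaceMapComplex.obj
      ((f.cechNerve ⋙ coyoneda.obj (op H)) ⋙ G)).ExactAt (n + 1) := by
  let he := ((extraDeg f H).map G).homotopyEquiv
  have h1 : QuasiIsoAt he.hom (n + 1) := inferInstance
  exact (quasiIsoAt_iff_exactAt' he.hom (n + 1)
    (ChainComplex.exactAt_succ_single_obj _ n)).1 h1

end ED

/-- a faithful exact functor reflects exactness of alternating face map complexes -/
theorem exactAt_of_whiskering_faithful {𝒜 ℬ : Type*} [Category 𝒜] [Category ℬ] [Abelian 𝒜]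
    [Abelian ℬ] (F : 𝒜 ⥤ ℬ) [F.Additive] [F.PreservesHomology] [F.Faithful]
    (Z : SimplicialObject 𝒜) (m : ℕ)
    (h : (AlternatingFaceMapComplex.obj
      (((SimplicialObject.whiskering 𝒜 ℬ).obj F).obj Z)).ExactAt m) :
    (AlternatingFaceMapComplex.obj Z).ExactAt m := by
  have h1 := Functor.congr_obj (map_alternatingFaceMapComplex F) Z
  have h2 : ((F.mapHomologicalComplex _).obj (AlternatingFaceMapComplex.obj Z)).ExactAt m :=
    h.of_iso (eqToIso h1.symm)
  rw [HomologicalComplex.exactAt_iff] at h2 ⊢
  exact (ShortComplex.exact_map_iff_of_faithful _ F).1 h2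

variable {C : Type u} [SmallCategory C] {J : GrothendieckTopology C} (R : Sheaf J RingCat.{u})

/-- the free presheaf of modules on the underlying presheaf of a sheaf of sets -/
noncomputable abbrev FP : Sheaf J (Type u) ⥤ PresheafOfModules.{u} R.obj :=
  sheafToPresheaf J (Type u) ⋙ PresheafOfModules.free R.obj

/-- the free sheaf of modules on a sheaf of sets -/
noncomputable abbrev FR : Sheaf J (Type u) ⥤ SheafOfModules.{u} R :=
  FP R ⋙ PresheafOfModules.sheafification.{u} (𝟙 R.obj)

/-- the free module functor followed by the forgetful functor to abelian groups -/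
noncomputable abbrev GU (U : C) : Type u ⥤ AddCommGrpCat.{u} :=
  ModuleCat.free (R.obj.obj (op U)) ⋙
    forget₂ (ModuleCat.{u} (R.obj.obj (op U))) AddCommGrpCat.{u}

set_option maxHeartbeats 400000 in
lemma FP_toPresheaf_map_app {T T' : Sheaf J (Type u)} (ψ : T ⟶ T') (U : C) :
    ((FP R ⋙ PresheafOfModules.toPresheaf R.obj).map ψ).app (op U) =
      (GU R U).map (ψ.hom.app (op U)) := rfl

set_option maxHeartbeats 400000 in
/-- sections of the free presheaf of modules -/
noncomputable def evIsoR (U : C) :
    (FP R ⋙ PresheafOfModules.toPresheaf R.obj) ⋙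
        (evaluation Cᵒᵖ AddCommGrpCat.{u}).obj (op U) ≅
      coyoneda.obj (op (hh J U)) ⋙ GU R U :=
  NatIso.ofComponents (fun T => (GU R U).mapIso ((secIso J U).app T).symm) (by
    intro T T' ψ
    have h := congrArg (GU R U).map ((secIso J U).inv.naturality ψ)
    rw [Functor.map_comp, Functor.map_comp] at h
    exact h)

set_option maxHeartbeats 400000 in
/-- sectionwise exactness -/
theorem exactAt_succ_sections (g : Arrow (Sheaf J (Type u))) (n : ℕ) (U : C) :
    (AlternatingFaceMapComplex.obj
      ((g.cechNerve ⋙ FP R ⋙ PresheafOfModules.toPresheaf R.obj) ⋙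
        (evaluation Cᵒᵖ AddCommGrpCat.{u}).obj (op U))).ExactAt (n + 1) := by
  have h1 := exactAt_G_hom g (hh J U) (GU R U) n
  let e : (g.cechNerve ⋙ coyoneda.obj (op (hh J U))) ⋙ GU R U ≅
      (g.cechNerve ⋙ FP R ⋙ PresheafOfModules.toPresheaf R.obj) ⋙
        (evaluation Cᵒᵖ AddCommGrpCat.{u}).obj (op U) :=
    Functor.associator _ _ _ ≪≫ Functor.isoWhiskerLeft g.cechNerve (evIsoR R U).symm ≪≫
      (Functor.associator _ _ _).symm
  exact h1.of_iso ((alternatingFaceMapComplex AddCommGrpCat.{u}).mapIso e)

set_option maxHeartbeats 400000 in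
/-- exactness of the underlying complex of presheaves of abelian groups -/
theorem exactAt_succ_presheafAb (g : Arrow (Sheaf J (Type u))) (n : ℕ) :
    (AlternatingFaceMapComplex.obj
      (g.cechNerve ⋙ FP R ⋙ PresheafOfModules.toPresheaf R.obj)).ExactAt (n + 1) := by
  apply exactAt_of_evaluation
  intro U'
  exact exactAt_succ_sections R g n U'.unop

set_option maxHeartbeats 400000 in
/-- exactness of the complex of free presheaves of modules -/
theorem exactAt_succ_presheafMod (g : Arrow (Sheaf J (Type u))) (n : ℕ) :
    (AlternatingFaceMapComplex.obj (g.cechNerve ⋙ FP R)).ExactAt (n + 1) := by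
  apply exactAt_of_whiskering_faithful (PresheafOfModules.toPresheaf R.obj)
  exact (exactAt_succ_presheafAb R g n).of_iso
    ((alternatingFaceMapComplex _).mapIso (Functor.associator _ _ _).symm)

set_option maxHeartbeats 400000 in
/-- exactness of the free `R`-module Čech complex in positive degrees -/
theorem exactAt_succ (g : Arrow (Sheaf J (Type u))) (n : ℕ) :
    (AlternatingFaceMapComplex.obj (g.cechNerve ⋙ FR R)).ExactAt (n + 1) := by
  haveI : (PresheafOfModules.sheafification.{u} (𝟙 R.obj)).Additive :=
    (PresheafOfModules.sheafificationAdjunction.{u} (𝟙 R.obj)).left_adjoint_additive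
  have h1 := exactAt_whiskering (PresheafOfModules.sheafification.{u} (𝟙 R.obj)) _ (n + 1)
    (exactAt_succ_presheafMod R g n)
  exact h1.of_iso ((alternatingFaceMapComplex _).mapIso (Functor.associator _ _ _))

end Groth.Agent.H30.ModCech
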