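import Groth.Agent.H30.ModCech1
import Groth.Agent.H67.CechTopos

/-!
# Injective sheaves of modules are totally acyclic as abelian sheaves (helper30)

`R` a sheaf of rings on a small site, `I` an injective sheaf of `R`-modules.  Then the underlying
abelian sheaf of `I` is totally acyclic: `H^q(K, I) = 0` for every sheaf of sets `K` and `q > 0`.
-/

set_option autoImplicit false

namespace Groth.Agent.H30.ModCech

open CategoryTheory Limits Opposite Simplicial AlgebraicTopology
open Groth.Agent.H30.CechRes Groth.Agent.H67.CechTopos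

universe u

variable {C : Type u} [SmallCategory C] {J : GrothendieckTopology C} (R : Sheaf J RingCat.{u})

/-- the underlying abelian sheaf -/
noncomputable abbrev UU : SheafOfModules.{u} R ⥤ Sheaf J AddCommGrpCat.{u} :=
  SheafOfModules.toSheaf R

/-- the underlying sheaf of sets of an abelian sheaf -/
noncomputable abbrev W1 : Sheaf J AddCommGrpCat.{u} ⥤ Sheaf J (Type u) :=
  sheafCompose J (forget AddCommGrpCat.{u})

/-- the free abelian sheaf adjunction -/
noncomputable abbrev adj1 : Φ J ⊣ W1 (J := J) := Sheaf.adjunction J AddCommGrpCat.adj.{u}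

/-- the presheaf-level adjunction -/
noncomputable def adjP : PresheafOfModules.free R.obj ⋙
      PresheafOfModules.sheafification.{u} (𝟙 R.obj) ⊣
    (SheafOfModules.forget R ⋙ PresheafOfModules.restrictScalars (𝟙 R.obj)) ⋙
      (PresheafOfModules.toPresheaf R.obj ⋙
        (Functor.whiskeringRight _ _ _).obj (forget AddCommGrpCat.{u})) :=
  (PresheafOfModules.freeAdjunction R.obj).comp
    (PresheafOfModules.sheafificationAdjunction.{u} (𝟙 R.obj))

set_option maxHeartbeats 400000 in
/-- comparison of the two right adjoints -/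
noncomputable def comm2 : 𝟭 (SheafOfModules.{u} R) ⋙
      ((SheafOfModules.forget R ⋙ PresheafOfModules.restrictScalars (𝟙 R.obj)) ⋙
        (PresheafOfModules.toPresheaf R.obj ⋙
          (Functor.whiskeringRight _ _ _).obj (forget AddCommGrpCat.{u}))) ≅
    (UU R ⋙ W1) ⋙ sheafToPresheaf J (Type u) :=
  NatIso.ofComponents (fun M => Iso.refl _) (by
    intro M N f
    rfl)

/-- the free sheaf of modules adjunction -/
noncomputable def adj2 : FR R ⊣ UU R ⋙ W1 :=
  (adjP R).restrictFullyFaithful (fullyFaithfulSheafToPresheaf J (Type u))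
    (Functor.FullyFaithful.id _)
    ((Functor.associator _ _ _).symm ≪≫ (Functor.rightUnitor _).symm) (comm2 R)

/-- the comparison bijection -/
noncomputable def θ (K : Sheaf J (Type u)) (M : SheafOfModules.{u} R) :
    ((FR R).obj K ⟶ M) ≃ ((Φ J).obj K ⟶ (UU R).obj M) :=
  ((adj2 R).homEquiv K M).trans ((adj1 (J := J)).homEquiv K ((UU R).obj M)).symm

/-- the canonical map `ℤ[K] ⟶ R[K]` -/
noncomputable def ι (K : Sheaf J (Type u)) : (Φ J).obj K ⟶ (UU R).obj ((FR R).obj K) :=
  θ R K _ (𝟙 _)

lemma θ_eq (K : Sheaf J (Type u)) {M : SheafOfModules.{u} R} (h : (FR R).obj K ⟶ M) :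
    θ R K M h = ι R K ≫ (UU R).map h := by
  have h1 : (adj2 R).homEquiv K M (𝟙 _ ≫ h) =
      (adj2 R).homEquiv K _ (𝟙 _) ≫ (UU R ⋙ W1).map h :=
    (adj2 R).homEquiv_naturality_right _ _
  rw [Category.id_comp] at h1
  simp only [θ, ι, Equiv.trans_apply]
  rw [h1]
  exact (adj1 (J := J)).homEquiv_naturality_right_symm _ _

lemma θ_nat {K K' : Sheaf J (Type u)} (a : K ⟶ K') {M : SheafOfModules.{u} R}
    (h : (FR R).obj K' ⟶ M) :
    θ R K M ((FR R).map a ≫ h) = (Φ J).map a ≫ θ R K' M h := by
  simp only [θ, Equiv.trans_apply]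
  rw [(adj2 R).homEquiv_naturality_left]
  exact (adj1 (J := J)).homEquiv_naturality_left_symm _ _

lemma ι_nat {K K' : Sheaf J (Type u)} (a : K ⟶ K') :
    (Φ J).map a ≫ ι R K' = ι R K ≫ (UU R).map ((FR R).map a) := by
  rw [← θ_eq, ι, ← θ_nat, Category.comp_id]

end Groth.Agent.H30.ModCech
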