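import Groth.Agent.H30.ModCech3
import Groth.Agent.H30.ExtDer
import Groth.Agent.S0485
import Groth.Agent.H45.ToSheafColim

/-!
# Cohomology of modules versus cohomology of the underlying abelian sheaf (helper30)

`Ext^p_R(R[K], M) ≃+ Ext^p_ℤ(ℤ[K], M)` for a sheaf of sets `K` and a sheaf of modules `M` over a
sheaf of rings `R` on a small site.
-/

set_option autoImplicit false

namespace Groth.Agent.H30.ModCech

open CategoryTheory Limits Opposite Abelian
open Groth.Agent.H30.CechRes Groth.Agent.H67.CechTopos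

universe u

variable {C : Type u} [SmallCategory C] {J : GrothendieckTopology C} (R : Sheaf J RingCat.{u})

/-- additive version of `θ` -/
noncomputable def θAdd (K : Sheaf J (Type u)) (M : SheafOfModules.{u} R) :
    ((FR R).obj K ⟶ M) ≃+ ((Φ J).obj K ⟶ (UU R).obj M) :=
  { θ R K M with
    map_add' := fun h h' => by
      show θ R K M (h + h') = θ R K M h + θ R K M h'
      rw [θ_eq, θ_eq, θ_eq, Functor.map_add, Preadditive.comp_add] }

lemma θ_comp (K : Sheaf J (Type u)) {M M' : SheafOfModules.{u} R} (h : (FR R).obj K ⟶ M)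
    (g : M ⟶ M') : θ R K M' (h ≫ g) = θ R K M h ≫ (UU R).map g := by
  rw [θ_eq, θ_eq, Functor.map_comp, Category.assoc]

set_option maxHeartbeats 400000 in
/-- `Ext` out of the free module on a sheaf of sets is `Ext` out of the free abelian sheaf. -/
theorem ext_free_addEquiv [HasExt.{u} (SheafOfModules.{u} R)] (K : Sheaf J (Type u))
    (M : SheafOfModules.{u} R) (p : ℕ) :
    Nonempty (Ext ((FR R).obj K) M p ≃+ Ext ((Φ J).obj K) ((UU R).obj M) p) := by
  haveI : EnoughInjectives (SheafOfModules.{u} R) := Groth.Agent.S0485.result J R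
  haveI : PreservesFiniteColimits (SheafOfModules.toSheaf.{u} R) :=
    Groth.Agent.H45.toSheaf_preservesFiniteColimits R
  let F₀ : SheafOfModules.{u} R ⥤ AddCommGrpCat.{u} :=
    preadditiveCoyoneda.obj (op ((FR R).obj K))
  obtain ⟨i₁⟩ := ExtDer.main (𝟭 (SheafOfModules.{u} R)) ((FR R).obj K) F₀
    (fun M => AddEquiv.refl ((FR R).obj K ⟶ M)) (fun g x => rfl)
    (fun I hI q e => by haveI := hI; exact Ext.eq_zero_of_injective e) p M
  obtain ⟨i₂⟩ := ExtDer.main (UU R) ((Φ J).obj K) F₀
    (fun M => θAdd R K M) (fun g x => θ_comp R K x g)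
    (fun I hI q e => by
      haveI := hI
      exact @Subsingleton.elim _ (isTotallyAcyclic_of_injective R I K q) e 0) p M
  exact ⟨(i₁ ≪≫ i₂.symm).addCommGroupIsoToAddEquiv⟩

end Groth.Agent.H30.ModCech
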