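import Groth.Agent.H30.ModCech4

/-!
# `Ext^n_R(R, M) ≃ H^n(M)` (helper30)

The constant sheaf `ℤ` is the free abelian sheaf on the terminal sheaf of sets, so injective
`R`-modules are acyclic for `Hom(ℤ, -)`; and `Hom_R(R, M) ≃ Hom_ℤ(ℤ, M)`.
-/

set_option autoImplicit false

namespace Groth.Agent.H30.ModCech

open CategoryTheory Limits Opposite Abelian
open Groth.Agent.H30.CechRes Groth.Agent.H67.CechTopos

universe u

variable {C : Type u} [SmallCategory C] (J : GrothendieckTopology C)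

/-- the terminal sheaf of sets -/
noncomputable def K₀ : Sheaf J (Type u) :=
  ⟨(Functor.const Cᵒᵖ).obj PUnit.{u+1}, Presheaf.isSheaf_of_isTerminal J Types.isTerminalPUnit⟩

/-- the group `ℤ`, lifted -/
abbrev ZZ : AddCommGrpCat.{u} := AddCommGrpCat.of (ULift.{u} ℤ)

/-- the constant sheaf `ℤ` -/
noncomputable abbrev ZX : Sheaf J AddCommGrpCat.{u} :=
  (constantSheaf J AddCommGrpCat.{u}).obj ZZ.{u}

/-- `ℤ[pt] ≅ ℤ` -/
noncomputable def zIso : AddCommGrpCat.free.obj PUnit.{u+1} ≅ ZZ.{u} :=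
  ((FreeAbelianGroup.uniqueEquiv PUnit.{u+1}).trans AddEquiv.ulift.symm).toAddCommGrpIso

/-- the constant sheaf `ℤ` is the free abelian sheaf on the terminal sheaf of sets -/
noncomputable def αIso : ZX J ≅ (Φ J).obj (K₀ J) :=
  (presheafToSheaf J AddCommGrpCat.{u}).mapIso
    ((Functor.const Cᵒᵖ).mapIso zIso.{u}.symm ≪≫ (Functor.constComp _ _ _).symm)

variable {J} (R : Sheaf J RingCat.{u})

lemma ext_ZX_eq_zero (I : SheafOfModules.{u} R) [Injective I] (q : ℕ)
    (e : Ext (ZX J) ((UU R).obj I) (q + 1)) : e = 0 := by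
  have h0 : (Ext.mk₀ (αIso J).inv).comp e (zero_add _) = 0 :=
    @Subsingleton.elim _ (isTotallyAcyclic_of_injective R I (K₀ J) q) _ _
  have h1 : e = (Ext.mk₀ (αIso J).hom).comp
      ((Ext.mk₀ (αIso J).inv).comp e (zero_add _)) (zero_add _) := by
    rw [Ext.mk₀_comp_mk₀_assoc, Iso.hom_inv_id, Ext.mk₀_id_comp]
  rw [h1, h0, Ext.comp_zero]

lemma hom_ext_Z {A : AddCommGrpCat.{u}} (a b : ZZ.{u} ⟶ A)
    (h : a.hom ⟨1⟩ = b.hom ⟨1⟩) : a = b := by
  have h' : a.hom.comp AddEquiv.ulift.symm.toAddMonoidHom =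
      b.hom.comp AddEquiv.ulift.symm.toAddMonoidHom := by
    apply AddMonoidHom.ext_int
    exact h
  ext ⟨n⟩
  exact DFunLike.congr_fun h' n

/-- the unit section `ℤ → R`, on presheaves -/
noncomputable def η₀ : (Functor.const Cᵒᵖ).obj ZZ.{u} ⟶
    ((UU R).obj (SheafOfModules.unit R)).obj where
  app U := AddCommGrpCat.ofHom
    ((zmultiplesHom (R.obj.obj U) (1 : R.obj.obj U)).comp AddEquiv.ulift.toAddMonoidHom)
  naturality U V f := by
    apply hom_ext_Z
    show (1 : ℤ) • (1 : R.obj.obj V) =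
      ((SheafOfModules.unit R).val.map f) ((1 : ℤ) • (1 : R.obj.obj U))
    rw [one_smul, one_smul]
    exact (PresheafOfModules.unit_map_one _ f).symm

/-- the unit section `ℤ → R` -/
noncomputable def η : ZX J ⟶ (UU R).obj (SheafOfModules.unit R) :=
  ((sheafificationAdjunction J AddCommGrpCat.{u}).homEquiv _ _).symm (η₀ R)

/-- `Hom_R(R, M) → Hom_ℤ(ℤ, M)` -/
noncomputable def τ₂ (M : SheafOfModules.{u} R) :
    (SheafOfModules.unit R ⟶ M) →+ (ZX J ⟶ (UU R).obj M) where
  toFun f := η R ≫ (UU R).map f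
  map_zero' := by rw [Functor.map_zero, comp_zero]
  map_add' f f' := by rw [Functor.map_add, Preadditive.comp_add]

lemma key (M : SheafOfModules.{u} R) (f : SheafOfModules.unit R ⟶ M) (U : Cᵒᵖ) :
    (((sheafificationAdjunction J AddCommGrpCat.{u}).homEquiv _ _
      (η R ≫ (UU R).map f)).app U).hom ⟨1⟩ = f.val.app U (1 : R.obj.obj U) := by
  have h1 := (sheafificationAdjunction J AddCommGrpCat.{u}).homEquiv_naturality_right
    (η R) ((UU R).map f)
  have h2 : (sheafificationAdjunction J AddCommGrpCat.{u}).homEquiv _ _ (η R) = η₀ R :=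
    Equiv.apply_symm_apply _ _
  rw [h2] at h1
  refine (congrArg (fun t => (t.app U).hom ⟨1⟩) h1).trans ?_
  show f.val.app U ((1 : ℤ) • (1 : R.obj.obj U)) = _
  rw [one_smul]

lemma τ₂_injective (M : SheafOfModules.{u} R) : Function.Injective (τ₂ R M) := by
  intro f f' h
  apply (SheafOfModules.unitHomEquiv M).injective
  apply PresheafOfModules.sections_ext
  intro U
  rw [SheafOfModules.unitHomEquiv_apply_coe, SheafOfModules.unitHomEquiv_apply_coe,
    ← key, ← key]
  have h' : η R ≫ (UU R).map f = η R ≫ (UU R).map f' := h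
  exact congrArg (fun t => (((sheafificationAdjunction J AddCommGrpCat.{u}).homEquiv
    ((Functor.const Cᵒᵖ).obj ZZ.{u}) ((UU R).obj M) t).app U).hom
      (ULift.up 1 : ULift.{u} ℤ)) h'

lemma τ₂_surjective (M : SheafOfModules.{u} R) : Function.Surjective (τ₂ R M) := by
  intro g
  let g₀ := (sheafificationAdjunction J AddCommGrpCat.{u}).homEquiv _ _ g
  let s : M.sections := PresheafOfModules.sectionsMk
    (fun U => (g₀.app U).hom (ULift.up 1 : ULift.{u} ℤ))
    (fun U V f => by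
      have := congrArg (fun t => t.hom (ULift.up 1 : ULift.{u} ℤ)) (g₀.naturality f)
      exact this.symm)
  refine ⟨(SheafOfModules.unitHomEquiv M).symm s, ?_⟩
  apply ((sheafificationAdjunction J AddCommGrpCat.{u}).homEquiv _ _).injective
  ext U : 2
  apply hom_ext_Z
  show (((sheafificationAdjunction J AddCommGrpCat.{u}).homEquiv _ _
      (η R ≫ (UU R).map ((SheafOfModules.unitHomEquiv M).symm s))).app U).hom ⟨1⟩ = _
  rw [key]
  have h1 := SheafOfModules.unitHomEquiv_apply_coe M ((SheafOfModules.unitHomEquiv M).symm s) U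
  rw [Equiv.apply_symm_apply] at h1
  exact h1.symm

/-- `Hom_R(R, M) ≃+ Hom_ℤ(ℤ, M)` -/
noncomputable def τ₂Equiv (M : SheafOfModules.{u} R) :
    (SheafOfModules.unit R ⟶ M) ≃+ (ZX J ⟶ (UU R).obj M) :=
  AddEquiv.ofBijective (τ₂ R M) ⟨τ₂_injective R M, τ₂_surjective R M⟩

lemma τ₂_comp {M M' : SheafOfModules.{u} R} (x : SheafOfModules.unit R ⟶ M) (g : M ⟶ M') :
    τ₂Equiv R M' (x ≫ g) = τ₂Equiv R M x ≫ (UU R).map g := by
  show η R ≫ (UU R).map (x ≫ g) = (η R ≫ (UU R).map x) ≫ (UU R).map g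
  rw [Functor.map_comp, Category.assoc]

set_option maxHeartbeats 400000 in
/-- `Ext^p_R(R, M) ≃+ H^p(M)`. -/
theorem ext_unit_addEquiv [HasExt.{u} (SheafOfModules.{u} R)]
    (M : SheafOfModules.{u} R) (p : ℕ) :
    Nonempty (Ext (SheafOfModules.unit R) M p ≃+ Ext (ZX J) ((UU R).obj M) p) := by
  have : EnoughInjectives (SheafOfModules.{u} R) := Groth.Agent.S0485.result J R
  have : PreservesFiniteColimits (SheafOfModules.toSheaf.{u} R) :=
    Groth.Agent.H45.toSheaf_preservesFiniteColimits R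
  let F₀ : SheafOfModules.{u} R ⥤ AddCommGrpCat.{u} :=
    preadditiveCoyoneda.obj (op (SheafOfModules.unit R))
  obtain ⟨i₁⟩ := ExtDer.main (𝟭 (SheafOfModules.{u} R)) (SheafOfModules.unit R) F₀
    (fun M => AddEquiv.refl (SheafOfModules.unit R ⟶ M)) (fun g x => rfl)
    (fun I hI q e => by have := hI; exact Ext.eq_zero_of_injective e) p M
  obtain ⟨i₂⟩ := ExtDer.main (UU R) (ZX J) F₀
    (fun M => τ₂Equiv R M) (fun g x => τ₂_comp R x g)
    (fun I hI q e => by
      have := hI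
      exact ext_ZX_eq_zero R I q e) p M
  exact ⟨(i₁ ≪≫ i₂.symm).addCommGroupIsoToAddEquiv⟩

end Groth.Agent.H30.ModCech
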