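import Groth.Agent.H30.ModCech3
import Groth.Agent.H67.TotAcyc
import Groth.Agent.H42.CohTopLib
import Groth.Prelude.Def_Coh

/-!
# Injective O-modules on a scheme are flasque (helper30)

Via: injective sheaves of modules are totally acyclic as abelian sheaves (`H30.ModCech`), totally
acyclic sheaves extend along monomorphisms of sheaves of sets (helper67), and helper42's
`Zf`/`E` description of sections.
-/

set_option autoImplicit false
universe u
open CategoryTheory CategoryTheory.Limits TopologicalSpace Opposite

namespace Groth.Agent.H30.ModFlasque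

open Groth.Agent.H42.CohTopLib

variable {X : TopCat.{u}}

/-- The representable presheaf of an open is a sheaf. -/
lemma isSheaf_yoneda (V : Opens X) :
    Presheaf.IsSheaf (Opens.grothendieckTopology X) (yoneda.obj V) := by
  rw [isSheaf_iff_isSheaf_of_type]
  intro W R hR x hx
  have hWV : W ≤ V := by
    intro y hy
    obtain ⟨U', g, hg, hyU'⟩ := hR y hy
    exact (x g hg).le hyU'
  refine ⟨homOfLE hWV, ?_, ?_⟩
  · intro U' g hg
    exact Subsingleton.elim (α := (U' ⟶ V)) _ _
  · intro y _
    exact Subsingleton.elim (α := (W ⟶ V)) _ _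

/-- The representable sheaf of sets of an open. -/
noncomputable def Y (V : Opens X) : Sheaf (Opens.grothendieckTopology X) (Type u) :=
  ⟨yoneda.obj V, isSheaf_yoneda V⟩

/-- The map of representable sheaves attached to an inclusion. -/
noncomputable def Ymap {V U : Opens X} (i : V ⟶ U) : Y V ⟶ Y U := ⟨yoneda.map i⟩

instance {V U : Opens X} (i : V ⟶ U) : Mono (Ymap i) := by
  have h1 : Mono (yoneda.map i) := by
    have : ∀ W, Mono ((yoneda.map i).app W) := by
      intro W
      rw [mono_iff_injective]
      intro (a : W.unop ⟶ V) (b : W.unop ⟶ V) _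
      exact Subsingleton.elim a b
    exact NatTrans.mono_of_mono_app _
  have h2 : Mono (Ymap i).hom := h1
  exact Sheaf.Hom.mono_of_presheaf_mono _ _ _

/-- A totally acyclic abelian sheaf on a space is flasque. -/
theorem isFlasque_of_isTotallyAcyclic (F : CohTop.Ab X) (hF : CohCx.IsTotallyAcyclic F) :
    TopCat.Sheaf.IsFlasque F := by
  refine ⟨fun {U V} i => ?_⟩
  rw [AddCommGrpCat.epi_iff_surjective]
  intro s
  let φ : (Zf X).obj V.unop ⟶ F := (E V.unop F).symm s
  obtain ⟨ψ, hψ⟩ := Groth.Agent.H67.TotAcyc.extend_of_mono (Opens.grothendieckTopology X) F hF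
    (Ymap i.unop) φ
  have hψ' : (Zf X).map i.unop ≫ ψ = φ := hψ
  refine ⟨E U.unop F ψ, ?_⟩
  have h := E_map i.unop F ψ
  rw [hψ'] at h
  have h2 : E V.unop F φ = s := (E V.unop F).apply_symm_apply s
  rw [← h2, h]
  rfl

open AlgebraicGeometry in
/-- The abelian sheaf underlying an injective O-module on a scheme is flasque. -/
theorem isFlasque_toAb_of_injective {X : Scheme.{u}} (I : X.Modules) [hI : Injective I] :
    TopCat.Sheaf.IsFlasque (X := X.carrier) (Coh.toAb I) :=
  isFlasque_of_isTotallyAcyclic (X := X.carrier) _
    (@Groth.Agent.H30.ModCech.isTotallyAcyclic_of_injective _ _ _ X.ringCatSheaf I hI)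

open AlgebraicGeometry in
/-- Restriction maps of an injective O-module on a scheme are surjective. -/
theorem surjective_res {X : Scheme.{u}} (I : X.Modules) [Injective I] {A B : X.Opens} (h : B ≤ A) :
    Function.Surjective (I.presheaf.map (homOfLE h).op) := by
  have hfl := isFlasque_toAb_of_injective I
  have hepi : Epi ((Coh.toAb I).obj.map (homOfLE h).op) := hfl.epi _
  exact (AddCommGrpCat.epi_iff_surjective _).1 hepi

end Groth.Agent.H30.ModFlasque
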