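import Mathlib.RingTheory.Flat.Basic
import Mathlib.RingTheory.Flat.Stability
import Mathlib.RingTheory.Flat.Tensor
import Mathlib.LinearAlgebra.TensorProduct.RightExactness
import Mathlib.LinearAlgebra.DirectSum.Finsupp
import Mathlib.Algebra.Module.Projective
import Mathlib.Algebra.Module.Torsion.Basic

/-! Local criterion of flatness, nilpotent case, without `Tor` (helper30). -/

set_option autoImplicit false

universe u v

open TensorProduct LinearMap

namespace Groth.Agent.H30.NilFlat

variable (A : Type u) [CommRing A] (M : Type v) [AddCommGroup M] [Module A M]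

/-- `Good A M N`: for every surjection `p : N'' → N`, the map `(ker p) ⊗ M → N'' ⊗ M` is injective
(a `Tor`-free way of saying `Tor₁(N, M) = 0`). -/
def Good (N : Type u) [AddCommGroup N] [Module A N] : Prop :=
  ∀ (N'' : Type u) [AddCommGroup N''] [Module A N''] (p : N'' →ₗ[A] N), Function.Surjective p →
    Function.Injective (rTensor M (LinearMap.ker p).subtype)

theorem rTensor_injective_of_leftInverse {N₁ N₂ : Type*} [AddCommGroup N₁] [Module A N₁]
    [AddCommGroup N₂] [Module A N₂] (f : N₁ →ₗ[A] N₂) (g : N₂ →ₗ[A] N₁) (h : g ∘ₗ f = LinearMap.id) :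
    Function.Injective (rTensor M f) := by
  have : rTensor M g ∘ₗ rTensor M f = LinearMap.id := by
    rw [← rTensor_comp, h, rTensor_id]
  exact Function.LeftInverse.injective (g := rTensor M g) (fun x => by
    have := congrArg (fun φ => φ x) this
    simpa using this)

theorem good_of_projective (N : Type u) [AddCommGroup N] [Module A N] [Module.Projective A N] :
    Good A M N := by
  intro N'' _ _ p hp
  obtain ⟨s, hs⟩ := Module.projective_lifting_property p LinearMap.id hp
  have hs' : ∀ x, p (s x) = x := fun x => by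
    have := congrArg (fun φ => φ x) hs
    simpa using this
  let r : N'' →ₗ[A] LinearMap.ker p :=
    (LinearMap.id - s ∘ₗ p).codRestrict (LinearMap.ker p) (fun x => by
      simp [LinearMap.mem_ker, hs'])
  apply rTensor_injective_of_leftInverse A M _ r
  ext x
  have hx : p x.1 = 0 := x.2
  simp [r, hx]

/-- The abstract diagram chase behind `good_of_exact`. -/
theorem chase {Kp N'' P K₁ K F : Type*} [AddCommGroup Kp] [Module A Kp] [AddCommGroup N'']
    [Module A N''] [AddCommGroup P] [Module A P] [AddCommGroup K₁] [Module A K₁] [AddCommGroup K]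
    [Module A K] [AddCommGroup F] [Module A F]
    (s : Kp →ₗ[A] N'') (α : Kp →ₗ[A] K₁) (β : K₁ →ₗ[A] Kp) (hβα : β ∘ₗ α = LinearMap.id)
    (i₁ : K₁ →ₗ[A] P) (pr₁ : P →ₗ[A] F) (pr₂ : P →ₗ[A] N'') (γ : K →ₗ[A] P) (j : K →ₗ[A] F)
    (e1 : pr₂ ∘ₗ i₁ ∘ₗ α = s) (e2 : pr₁ ∘ₗ i₁ = 0) (e3 : pr₁ ∘ₗ γ = j)
    (hγ : Function.Exact γ pr₂) (hpr₂ : Function.Surjective pr₂)
    (hi₁ : Function.Injective (rTensor M i₁)) (hj : Function.Injective (rTensor M j)) :
    Function.Injective (rTensor M s) := by
  have hexT := rTensor_exact M hγ hpr₂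
  rw [injective_iff_map_eq_zero]
  intro x hx
  have h1 : rTensor M pr₂ (rTensor M (i₁ ∘ₗ α) x) = 0 := by
    rw [← LinearMap.comp_apply, ← rTensor_comp, e1, hx]
  obtain ⟨y, hy⟩ := (hexT _).1 h1
  have h2 : rTensor M pr₁ (rTensor M (i₁ ∘ₗ α) x) = 0 := by
    rw [← LinearMap.comp_apply, ← rTensor_comp, ← LinearMap.comp_assoc, e2, LinearMap.zero_comp,
      rTensor_zero, LinearMap.zero_apply]
  have h3 : rTensor M j y = 0 := by
    rw [← e3, rTensor_comp, LinearMap.comp_apply, hy, h2]
  have hy0 : y = 0 := (injective_iff_map_eq_zero _).1 hj y h3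
  have hx'0 : rTensor M (i₁ ∘ₗ α) x = 0 := by rw [← hy, hy0, map_zero]
  have h4 : rTensor M α x = 0 := by
    apply (injective_iff_map_eq_zero _).1 hi₁
    rw [← LinearMap.comp_apply, ← rTensor_comp]
    exact hx'0
  exact (injective_iff_map_eq_zero _).1 (rTensor_injective_of_leftInverse A M α β hβα) x h4

theorem good_of_exact {K F N : Type u} [AddCommGroup K] [Module A K] [AddCommGroup F] [Module A F]
    [AddCommGroup N] [Module A N] (j : K →ₗ[A] F) (π : F →ₗ[A] N) (hex : Function.Exact j π)
    (hπ : Function.Surjective π) (hF : Good A M F) (hj : Function.Injective (rTensor M j)) :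
    Good A M N := by
  intro N'' _ _ p hp
  obtain ⟨P, hPdef⟩ : ∃ P : Submodule A (F × N''),
      P = LinearMap.ker (π ∘ₗ LinearMap.fst A F N'' - p ∘ₗ LinearMap.snd A F N'') := ⟨_, rfl⟩
  have hP : ∀ x : F × N'', x ∈ P ↔ π x.1 = p x.2 := fun x => by
    simp [hPdef, LinearMap.mem_ker, sub_eq_zero]
  obtain ⟨pr₁, hpr₁def⟩ : ∃ pr₁ : P →ₗ[A] F, pr₁ = LinearMap.fst A F N'' ∘ₗ P.subtype := ⟨_, rfl⟩
  obtain ⟨pr₂, hpr₂def⟩ : ∃ pr₂ : P →ₗ[A] N'', pr₂ = LinearMap.snd A F N'' ∘ₗ P.subtype := ⟨_, rfl⟩
  have hpr₁a : ∀ x : P, pr₁ x = x.1.1 := fun x => by rw [hpr₁def]; rfl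
  have hpr₂a : ∀ x : P, pr₂ x = x.1.2 := fun x => by rw [hpr₂def]; rfl
  have hpr₁ : Function.Surjective pr₁ := fun f => by
    obtain ⟨n, hn⟩ := hp (π f)
    exact ⟨⟨(f, n), (hP _).2 hn.symm⟩, hpr₁a _⟩
  have hpr₂ : Function.Surjective pr₂ := fun n => by
    obtain ⟨f, hf⟩ := hπ (p n)
    exact ⟨⟨(f, n), (hP _).2 hf⟩, hpr₂a _⟩
  -- `ker p → ker pr₁`
  let α : LinearMap.ker p →ₗ[A] LinearMap.ker pr₁ :=
    { toFun := fun n => ⟨⟨(0, n.1), (hP _).2 (by simp)⟩, by
        rw [LinearMap.mem_ker, hpr₁a]⟩
      map_add' := fun x y => by ext <;> simp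
      map_smul' := fun a x => by ext <;> simp }
  let β : LinearMap.ker pr₁ →ₗ[A] LinearMap.ker p :=
    { toFun := fun x => ⟨x.1.1.2, by
        have h1 : x.1.1.1 = 0 := by rw [← hpr₁a]; exact x.2
        have h2 := (hP x.1.1).1 x.1.2
        rw [LinearMap.mem_ker, ← h2, h1, map_zero]⟩
      map_add' := fun x y => rfl
      map_smul' := fun a x => rfl }
  have hβα : β ∘ₗ α = LinearMap.id := by ext x; rfl
  -- `K → P`
  let γ : K →ₗ[A] P :=
    { toFun := fun k => ⟨(j k, 0), (hP _).2 (by simpa using hex.apply_apply_eq_zero k)⟩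
      map_add' := fun x y => by ext <;> simp
      map_smul' := fun a x => by ext <;> simp }
  have hγ : Function.Exact γ pr₂ := by
    intro x
    constructor
    · intro hx
      have h0 : x.1.2 = 0 := by rw [← hpr₂a]; exact hx
      have h1 : π x.1.1 = 0 := by rw [(hP x.1).1 x.2, h0, map_zero]
      obtain ⟨k, hk⟩ := (hex x.1.1).1 h1
      refine ⟨k, ?_⟩
      ext
      · exact hk
      · exact h0.symm
    · rintro ⟨k, rfl⟩
      rw [hpr₂a]
      rfl
  have hinjP : Function.Injective (rTensor M (LinearMap.ker pr₁).subtype) := hF P pr₁ hpr₁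
  refine chase A M (Kp := LinearMap.ker p) (K₁ := LinearMap.ker pr₁) (LinearMap.ker p).subtype α β hβα
    (LinearMap.ker pr₁).subtype pr₁ pr₂ γ j ?_ ?_ ?_ hγ hpr₂ hinjP hj
  · ext x
    simp only [LinearMap.comp_apply, Submodule.subtype_apply, hpr₂a]
    rfl
  · ext x
    simp only [LinearMap.comp_apply, Submodule.subtype_apply, LinearMap.zero_apply]
    exact x.2
  · ext k
    simp only [LinearMap.comp_apply, hpr₁a]
    rfl

theorem good_of_ext {N : Type u} [AddCommGroup N] [Module A N] (N₁ : Submodule A N)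
    (h1 : Good A M N₁) (h3 : Good A M (N ⧸ N₁)) : Good A M N := by
  intro N'' _ _ p hp
  let K' : Submodule A N'' := LinearMap.ker (N₁.mkQ ∘ₗ p)
  have hK' : ∀ x, x ∈ K' ↔ p x ∈ N₁ := fun x => by
    simp [K', LinearMap.mem_ker]
  have hinj3 := h3 N'' (N₁.mkQ ∘ₗ p) ((Submodule.mkQ_surjective N₁).comp hp)
  let p' : K' →ₗ[A] N₁ := (p ∘ₗ K'.subtype).codRestrict N₁ (fun x => (hK' x.1).1 x.2)
  have hp' : Function.Surjective p' := fun y => by
    obtain ⟨n, hn⟩ := hp y.1
    exact ⟨⟨n, (hK' n).2 (hn ▸ y.2)⟩, Subtype.ext hn⟩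
  have hinj1 := h1 K' p' hp'
  let ι : LinearMap.ker p →ₗ[A] LinearMap.ker p' :=
    { toFun := fun n => ⟨⟨n.1, (hK' _).2 (by rw [show p n.1 = 0 from n.2]; exact N₁.zero_mem)⟩, by
        rw [LinearMap.mem_ker]
        exact Subtype.ext n.2⟩
      map_add' := fun x y => rfl
      map_smul' := fun a x => rfl }
  let ρ : LinearMap.ker p' →ₗ[A] LinearMap.ker p :=
    { toFun := fun x => ⟨x.1.1, by
        have := congrArg Subtype.val (show p' x.1 = 0 from x.2)
        exact this⟩
      map_add' := fun x y => rfl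
      map_smul' := fun a x => rfl }
  have hρι : ρ ∘ₗ ι = LinearMap.id := by ext x; rfl
  have e : (LinearMap.ker p).subtype = K'.subtype ∘ₗ (LinearMap.ker p').subtype ∘ₗ ι := by
    ext x; rfl
  rw [e, rTensor_comp, rTensor_comp]
  exact (hinj3.comp hinj1).comp (rTensor_injective_of_leftInverse A M ι ρ hρι)

section Finsupp

variable {A M}

theorem finsuppLeft_natural {P Q : Type*} [AddCommGroup P] [Module A P] [AddCommGroup Q]
    [Module A Q] (S : Type*) [DecidableEq S] (f : P →ₗ[A] Q) (x : (S →₀ P) ⊗[A] M) :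
    finsuppLeft A A Q M S (rTensor M (Finsupp.mapRange.linearMap f) x) =
      Finsupp.mapRange.linearMap (rTensor M f) (finsuppLeft A A P M S x) := by
  induction x using TensorProduct.induction_on with
  | zero => simp
  | add x y hx hy => simp only [map_add, hx, hy]
  | tmul p m =>
    ext s
    simp [finsuppLeft_apply_tmul_apply]

theorem rTensor_mapRange_injective {P Q : Type*} [AddCommGroup P] [Module A P] [AddCommGroup Q]
    [Module A Q] (S : Type*) (f : P →ₗ[A] Q) (hf : Function.Injective (rTensor M f)) :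
    Function.Injective (rTensor M (Finsupp.mapRange.linearMap (α := S) f)) := by
  classical
  intro x y hxy
  have h := congrArg (finsuppLeft A A Q M S) hxy
  rw [finsuppLeft_natural, finsuppLeft_natural, Finsupp.mapRange.linearMap_apply,
    Finsupp.mapRange.linearMap_apply] at h
  have h' := Finsupp.mapRange_injective _ (map_zero _) hf h
  exact (finsuppLeft A A P M S).injective h'

variable (I : Ideal A)

theorem good_finsupp_quot (hinj : Function.Injective (rTensor M I.subtype)) (S : Type u) :
    Good A M (S →₀ A ⧸ I) := by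
  refine good_of_exact A M (Finsupp.mapRange.linearMap (α := S) I.subtype)
    (Finsupp.mapRange.linearMap (α := S) I.mkQ) ?_ ?_ (good_of_projective A M _)
    (rTensor_mapRange_injective S I.subtype hinj)
  · rw [LinearMap.exact_iff, Finsupp.ker_mapRange,
      Finsupp.range_mapRange_linearMap _ (Submodule.ker_subtype I), Submodule.ker_mkQ,
      Submodule.range_subtype]
  · exact Finsupp.mapRange_surjective _ (map_zero _) (Submodule.mkQ_surjective I)

theorem rTensor_restrictScalars_injective (B : Type u) [CommRing B] [Algebra A B]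
    [Module.Flat B (B ⊗[A] M)]
    {K F : Type u} [AddCommGroup K] [Module A K] [Module B K] [IsScalarTower A B K]
    [AddCommGroup F] [Module A F] [Module B F] [IsScalarTower A B F]
    (f : K →ₗ[B] F) (hf : Function.Injective f) :
    Function.Injective (rTensor M (f.restrictScalars A)) := by
  have hnat : ∀ x : K ⊗[B] (B ⊗[A] M),
      AlgebraTensorModule.cancelBaseChange A B B F M (rTensor (B ⊗[A] M) f x) =
        rTensor M (f.restrictScalars A) (AlgebraTensorModule.cancelBaseChange A B B K M x) := by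
    intro x
    induction x using TensorProduct.induction_on with
    | zero => simp
    | add x y hx hy => simp only [map_add, hx, hy]
    | tmul k y =>
      induction y using TensorProduct.induction_on with
      | zero => simp
      | add y z hy hz => simp only [TensorProduct.tmul_add, map_add, hy, hz]
      | tmul b m => simp
  have hflat := Module.Flat.rTensor_preserves_injective_linearMap (M := B ⊗[A] M) f hf
  intro x y hxy
  obtain ⟨x', rfl⟩ := (AlgebraTensorModule.cancelBaseChange A B B K M).surjective x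
  obtain ⟨y', rfl⟩ := (AlgebraTensorModule.cancelBaseChange A B B K M).surjective y
  rw [← hnat, ← hnat] at hxy
  rw [hflat ((AlgebraTensorModule.cancelBaseChange A B B F M).injective hxy)]

end Finsupp

end Groth.Agent.H30.NilFlat
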