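import Groth.Prelude.Def_SGA4a
import Groth.Agent.H30.TFin
import Mathlib.CategoryTheory.Comma.Over.Pullback
import Mathlib.CategoryTheory.ObjectProperty.FullSubcategory

/-!
# Open subtoposes and their closed complements (library)

For `U` a subterminal object of a sheaf topos, `CU U X` is the pushout `U ⨿_{U × X} X`; it is the
reflection of `X` in the closed complement of `U`.
-/

set_option autoImplicit false
universe u

namespace Groth.Agent.H30.OpenClosed

open CategoryTheory Limits
open Groth.Agent.H30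

variable {C : Type u} [SmallCategory C] {J : GrothendieckTopology C}

variable (U : Sheaf J (Type u))

/-- The pushout `U ⨿_{U × X} X`. -/
noncomputable abbrev CU (X : Sheaf J (Type u)) : Sheaf J (Type u) :=
  pushout (prod.fst : U ⨯ X ⟶ U) (prod.snd : U ⨯ X ⟶ X)

/-- The canonical map `U ⟶ CU U X`. -/
noncomputable abbrev il (X : Sheaf J (Type u)) : U ⟶ CU U X :=
  pushout.inl (prod.fst : U ⨯ X ⟶ U) (prod.snd : U ⨯ X ⟶ X)

/-- The canonical map `X ⟶ CU U X`. -/
noncomputable abbrev ir (X : Sheaf J (Type u)) : X ⟶ CU U X :=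
  pushout.inr (prod.fst : U ⨯ X ⟶ U) (prod.snd : U ⨯ X ⟶ X)

/-- The two-member family of objects `U`, `X`. -/
noncomputable def bF (X : Sheaf J (Type u)) : Bool → Sheaf J (Type u) := fun b => bif b then U else X

/-- The two-member family `U ⟶ CU U X`, `X ⟶ CU U X`. -/
noncomputable def bπ (X : Sheaf J (Type u)) : ∀ b, bF U X b ⟶ CU U X := fun b =>
  match b with
  | true => il U X
  | false => ir U X

lemma je_bπ (X : Sheaf J (Type u)) : TFin.JE (bπ U X) := by
  intro Z a b hab
  apply pushout.hom_ext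
  · exact hab true
  · exact hab false

variable {U}

lemma sub_eq (hU : Mono (terminal.from U)) {T : Sheaf J (Type u)} (a b : T ⟶ U) : a = b :=
  (cancel_mono (terminal.from U)).1 (Subsingleton.elim _ _)

/-- Any map to `CU U X` from an object over `U` factors through `U`. -/
lemma eq_inl (hU : Mono (terminal.from U)) {S X : Sheaf J (Type u)} (u : S ⟶ U)
    (c : S ⟶ CU U X) : c = u ≫ il U X := by
  apply (je_bπ U X).pullback c
  intro i
  cases i with
  | false =>
    show pullback.snd (ir U X) c ≫ c = pullback.snd (ir U X) c ≫ u ≫ il U X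
    calc pullback.snd (ir U X) c ≫ c = pullback.fst (ir U X) c ≫ ir U X :=
          pullback.condition.symm
      _ = (prod.lift (pullback.snd (ir U X) c ≫ u) (pullback.fst (ir U X) c) ≫ prod.snd) ≫
            ir U X := by rw [prod.lift_snd]
      _ = prod.lift (pullback.snd (ir U X) c ≫ u) (pullback.fst (ir U X) c) ≫ prod.fst ≫
            il U X := by rw [Category.assoc, pushout.condition]
      _ = pullback.snd (ir U X) c ≫ u ≫ il U X := by
          rw [← Category.assoc, prod.lift_fst, Category.assoc]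
  | true =>
    show pullback.snd (il U X) c ≫ c = pullback.snd (il U X) c ≫ u ≫ il U X
    rw [← pullback.condition, ← Category.assoc,
      sub_eq hU (pullback.snd (il U X) c ≫ u) (pullback.fst (il U X) c)]

/-- `CU U X` lies in the closed complement of `U`. -/
lemma closedCompl_CU (hU : Mono (terminal.from U)) (X : Sheaf J (Type u)) :
    SGA4.closedCompl U (CU U X) := by
  show IsIso (prod.fst : U ⨯ CU U X ⟶ U)
  refine ⟨⟨prod.lift (𝟙 U) (il U X), ?_, ?_⟩⟩
  · apply Limits.prod.hom_ext
    · rw [Category.assoc, prod.lift_fst, Category.comp_id, Category.id_comp]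
    · rw [Category.assoc, prod.lift_snd, Category.id_comp]
      exact (eq_inl hU prod.fst prod.snd).symm
  · rw [prod.lift_fst]

/-- An object over `U` has at most one map to an object of the closed complement. -/
lemma hom_eq_of_closedCompl {Y : Sheaf J (Type u)} (hY : SGA4.closedCompl U Y)
    {S : Sheaf J (Type u)} (u : S ⟶ U) (a b : S ⟶ Y) : a = b := by
  have : IsIso (prod.fst : U ⨯ Y ⟶ U) := hY
  have h : prod.lift u a = prod.lift u b := by
    rw [← cancel_mono (prod.fst : U ⨯ Y ⟶ U), prod.lift_fst, prod.lift_fst]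
  calc a = prod.lift u a ≫ prod.snd := (prod.lift_snd _ _).symm
    _ = prod.lift u b ≫ prod.snd := by rw [h]
    _ = b := prod.lift_snd _ _

/-- The unique map from `U` to an object of the closed complement. -/
noncomputable def fromU {Y : Sheaf J (Type u)} (hY : SGA4.closedCompl U Y) : U ⟶ Y :=
  haveI : IsIso (prod.fst : U ⨯ Y ⟶ U) := hY
  inv (prod.fst : U ⨯ Y ⟶ U) ≫ prod.snd

/-- Extension of a map `X ⟶ Y` with `Y` in the closed complement to `CU U X`. -/
noncomputable def descCU {X Y : Sheaf J (Type u)} (hY : SGA4.closedCompl U Y) (f : X ⟶ Y) :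
    CU U X ⟶ Y :=
  pushout.desc (fromU hY) f (hom_eq_of_closedCompl hY prod.fst _ _)

@[reassoc]
lemma ir_descCU {X Y : Sheaf J (Type u)} (hY : SGA4.closedCompl U Y) (f : X ⟶ Y) :
    ir U X ≫ descCU hY f = f :=
  pushout.inr_desc _ _ _

lemma CU_hom_ext {X Y : Sheaf J (Type u)} (hY : SGA4.closedCompl U Y) {g g' : CU U X ⟶ Y}
    (h : ir U X ≫ g = ir U X ≫ g') : g = g' := by
  apply pushout.hom_ext
  · exact hom_eq_of_closedCompl hY (𝟙 U) _ _
  · exact h

/-- The map `CU U X ⟶ CU U Y` induced by `m : X ⟶ Y`. -/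
noncomputable def mapCU (hU : Mono (terminal.from U)) {X Y : Sheaf J (Type u)} (m : X ⟶ Y) :
    CU U X ⟶ CU U Y :=
  descCU (closedCompl_CU hU Y) (m ≫ ir U Y)

@[reassoc]
lemma ir_mapCU (hU : Mono (terminal.from U)) {X Y : Sheaf J (Type u)} (m : X ⟶ Y) :
    ir U X ≫ mapCU hU m = m ≫ ir U Y :=
  ir_descCU _ _

lemma il_mapCU (hU : Mono (terminal.from U)) {X Y : Sheaf J (Type u)} (m : X ⟶ Y) :
    il U X ≫ mapCU hU m = il U Y :=
  hom_eq_of_closedCompl (closedCompl_CU hU Y) (𝟙 U) _ _

section adjunction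

variable {L : Sheaf J (Type u) ⥤ (SGA4.closedCompl U).FullSubcategory}
  (adj : L ⊣ (SGA4.closedCompl U).ι)

include adj

/-- The unit of the adjunction, with normalised source and target. -/
noncomputable def η (X : Sheaf J (Type u)) : X ⟶ (L.obj X).obj := adj.unit.app X

lemma η_naturality {X Y : Sheaf J (Type u)} (m : X ⟶ Y) :
    η adj X ≫ (L.map m).hom = m ≫ η adj Y := (adj.unit.naturality m).symm

/-- Maps out of the reflection are determined by their restriction along the unit. -/
lemma adj_ext {X Z : Sheaf J (Type u)} (hZ : SGA4.closedCompl U Z) {p q : (L.obj X).obj ⟶ Z}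
    (h : η adj X ≫ p = η adj X ≫ q) : p = q := by
  have := (adj.homEquiv X ⟨Z, hZ⟩).injective
    (a₁ := ObjectProperty.homMk p) (a₂ := ObjectProperty.homMk q) (by
      rw [adj.homEquiv_unit, adj.homEquiv_unit]
      exact h)
  exact congrArg (fun t => t.hom) this

/-- The comparison map `CU U X ⟶ L X`. -/
noncomputable def τ (X : Sheaf J (Type u)) : CU U X ⟶ (L.obj X).obj :=
  descCU (L.obj X).property (η adj X)

/-- The comparison map `L X ⟶ CU U X`. -/
noncomputable def σ (hU : Mono (terminal.from U)) (X : Sheaf J (Type u)) :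
    (L.obj X).obj ⟶ CU U X :=
  ((adj.homEquiv X ⟨CU U X, closedCompl_CU hU X⟩).symm (ir U X)).hom

lemma ir_τ (X : Sheaf J (Type u)) : ir U X ≫ τ adj X = η adj X :=
  ir_descCU _ _

lemma unit_σ (hU : Mono (terminal.from U)) (X : Sheaf J (Type u)) :
    η adj X ≫ σ adj hU X = ir U X := by
  have := (adj.homEquiv X ⟨CU U X, closedCompl_CU hU X⟩).apply_symm_apply (ir U X)
  rw [adj.homEquiv_unit] at this
  exact this

lemma τ_σ (hU : Mono (terminal.from U)) (X : Sheaf J (Type u)) :
    τ adj X ≫ σ adj hU X = 𝟙 _ := by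
  apply CU_hom_ext (closedCompl_CU hU X)
  rw [← Category.assoc, ir_τ, unit_σ, Category.comp_id]

lemma σ_τ (hU : Mono (terminal.from U)) (X : Sheaf J (Type u)) :
    σ adj hU X ≫ τ adj X = 𝟙 _ := by
  apply adj_ext adj (L.obj X).property
  rw [← Category.assoc, unit_σ, ir_τ, Category.comp_id]

/-- `CU U X` is the reflection of `X`: it is isomorphic to `L X` for any left adjoint `L` of the
inclusion. -/
noncomputable def θ (hU : Mono (terminal.from U)) (X : Sheaf J (Type u)) :
    CU U X ≅ (L.obj X).obj where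
  hom := τ adj X
  inv := σ adj hU X
  hom_inv_id := τ_σ adj hU X
  inv_hom_id := σ_τ adj hU X

lemma σ_mapCU (hU : Mono (terminal.from U)) {X Y : Sheaf J (Type u)} (m : X ⟶ Y) :
    σ adj hU X ≫ mapCU hU m = (L.map m).hom ≫ σ adj hU Y := by
  apply adj_ext adj (closedCompl_CU hU Y)
  rw [← Category.assoc, unit_σ, ir_mapCU, ← Category.assoc, η_naturality, Category.assoc, unit_σ]

lemma isIso_mapCU (hU : Mono (terminal.from U)) {X Y : Sheaf J (Type u)} (m : X ⟶ Y)
    [IsIso (L.map m)] : IsIso (mapCU hU m) := by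
  have e : mapCU hU m = τ adj X ≫ (L.map m).hom ≫ σ adj hU Y := by
    rw [← σ_mapCU adj hU m, ← Category.assoc, τ_σ, Category.id_comp]
  rw [e]
  have : IsIso (τ adj X) := (θ adj hU X).isIso_hom
  have : IsIso (σ adj hU Y) := (θ adj hU Y).isIso_inv
  infer_instance

end adjunction

end Groth.Agent.H30.OpenClosed
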