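import Mathlib
import Groth.Prelude.Def_Coh
import Groth.Prelude.Def_CohB1
import Groth.Prelude.Def_PerfAux
import Groth.Agent.H22.PullAmple
import Groth.Agent.H22.ResPropAmple
import Groth.Agent.H22.VeryAmpleConv
import Groth.Agent.H82.HHFinite
import Groth.Agent.H82.ProjFinite
import Groth.Agent.H8.CohKerCoker
import Groth.Agent.S0010
import Groth.Agent.H90.QCohHom

/-!
# Cohomological dimension of quasi-projective schemes is detected on vector bundles

For `X` with an immersion into `P^N_k`: if `H^i(X, E) = 0` for all finite locally free `E` and all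
`i > n`, then the same holds for all coherent modules (descending induction, using the resolution
property and vanishing above the size of a finite affine cover).
-/

set_option autoImplicit false
set_option linter.unusedSectionVars false
set_option linter.unusedVariables false
set_option linter.style.haveILetI false

universe u

open CategoryTheory CategoryTheory.Limits AlgebraicGeometry TopologicalSpace Opposite

namespace Groth.Agent.H30.QProjVan

open Groth.Agent.H82.HHFinite

variable {X : Scheme.{u}}

/-- descending induction -/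
theorem vanishing_aux [IsLocallyNoetherian X] (hres : PerfAux.HasResolutionProperty X)
    (n : ℕ) (h : ∀ E : X.Modules, FlatMod.IsFinLocFree E → ∀ i : ℕ, n < i →
      Subsingleton (Coh.HH X E i))
    (t : ℕ) (ht : ∀ (M : X.Modules), Coh.IsQCoh M → ∀ i : ℕ, t ≤ i → Subsingleton (Coh.HH X M i))
    (m : ℕ) : ∀ (i : ℕ), n < i → t ≤ i + m → ∀ (F : X.Modules), Coh.IsCoh F →
      Subsingleton (Coh.HH X F i) := by
  induction m with
  | zero =>
    intro i _ hti F hF
    exact ht F hF.1 i (by omega)
  | succ m ih =>
    intro i hi hti F hF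
    obtain ⟨E, π, hE, hπ⟩ := hres F hF.1 hF.2
    have hEc : Coh.IsCoh E := Groth.Agent.H90.QH.isCoh_of_isFinLocFree hE
    have hK : Coh.IsCoh (kernel π) := Groth.Agent.H8.isCoh_kernel hEc hF π
    let S : ShortComplex X.Modules := ShortComplex.mk (kernel.ι π) π (kernel.condition π)
    have hS : S.ShortExact :=
      { exact := ShortComplex.exact_of_f_is_kernel _ (kernelIsKernel π)
        mono_f := inferInstance
        epi_g := hπ }
    haveI h1 : Subsingleton (Coh.HH X (kernel π) (i + 1)) :=
      ih (i + 1) (by omega) (by omega) (kernel π) hK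
    haveI h2 : Subsingleton (Coh.HH X E i) := h E hE i hi
    have key : ∀ x : Coh.HH X F i, x = 0 := by
      intro x
      obtain ⟨y, hy⟩ := δ_exact S hS i x (Subsingleton.elim _ _)
      rw [← hy, Subsingleton.elim y 0, _root_.map_zero]
    exact ⟨fun x y => (key x).trans (key y).symm⟩

/-- a quasi-compact scheme with affine diagonal has a finite affine cover to which `S0010`
applies -/
theorem exists_bound [CompactSpace X] [X.IsSeparated] :
    ∃ t : ℕ, ∀ (M : X.Modules), Coh.IsQCoh M → ∀ i : ℕ, t ≤ i → Subsingleton (Coh.HH X M i) := by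
  classical
  let W : X → X.Opens := fun x => (X.affineCover.f (X.affineCover.idx x)).opensRange
  obtain ⟨s, hs⟩ := CompactSpace.elim_nhds_subcover
    (fun x : X => (W x : Set X))
    (fun x => (W x).isOpen.mem_nhds (X.affineCover.covers x))
  let e := (Fintype.equivFin ↥s).symm
  refine ⟨Fintype.card ↥s, fun M hM i hi => ?_⟩
  haveI : Coh.IsQCoh M := hM
  refine Groth.Agent.S0010.result X (Fintype.card ↥s)
    (fun j => W (e j).1)
    (fun j => isAffineOpen_opensRange _) ?_ (fun V W hV hW => hV.inf hW) M i hi
  rw [eq_top_iff]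
  intro x _
  have hx : x ∈ ⋃ y ∈ s, (W y : Set X) := by
    rw [hs]; trivial
  obtain ⟨y, hy, hxy⟩ := Set.mem_iUnion₂.mp hx
  refine Opens.mem_iSup.mpr ⟨e.symm ⟨y, hy⟩, ?_⟩
  rw [Equiv.apply_symm_apply]
  exact hxy

/-- main theorem -/
theorem main (k : Type u) [Field k] (N : ℕ) (ι : X ⟶ CohB1.ProjSpace N k) [IsImmersion ι]
    (n : ℕ) (h : ∀ E : X.Modules, FlatMod.IsFinLocFree E → ∀ i : ℕ, n < i →
      Subsingleton (Coh.HH X E i))
    (F : X.Modules) (hF : Coh.IsCoh F) (i : ℕ) (hi : n < i) :
    Subsingleton (Coh.HH X F i) := by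
  haveI : IsLocallyNoetherian (CohB1.ProjSpace N k) :=
    Groth.Agent.H82.ProjFinite.isLocallyNoetherian N k
  haveI : IsLocallyNoetherian X := LocallyOfFiniteType.isLocallyNoetherian ι
  haveI : CompactSpace (CohB1.ProjSpace N k) :=
    (Groth.Agent.H22.VeryAmpleConv.isAmple_N1 N k).2.1
  haveI : IsNoetherian (CohB1.ProjSpace N k) := {}
  haveI : NoetherianSpace X := ι.isEmbedding.isInducing.noetherianSpace
  haveI : CompactSpace X := inferInstance
  haveI : (CohB1.ProjSpace N k).IsSeparated :=
    inferInstanceAs (Scheme.IsSeparated (Proj (CohB1.polyGrading N k)))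
  haveI : X.IsSeparated := ⟨by
    rw [← terminal.comp_from ι]
    infer_instance⟩
  have hamp := Groth.Agent.H22.PullAmple.isAmple_pullback_of_isEmbedding ι ι.isEmbedding
    (Groth.Agent.H22.VeryAmpleConv.isAmple_N1 N k)
  have hres := Groth.Agent.H22.ResPropAmple.hasResolutionProperty_of_isAmple hamp
  obtain ⟨t, ht⟩ := exists_bound (X := X)
  exact vanishing_aux hres n h t ht t i hi (by omega) F hF

end Groth.Agent.H30.QProjVan
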