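import Mathlib
import Groth.Agent.H42.MVDerived
import Groth.Agent.H42.MVConcrete
import Groth.Agent.H45.ToSheafColim
import Groth.Agent.H30.ModFlasque

/-!
# Relative Mayer–Vietoris for O-modules (helper30)

For `f : X ⟶ S` and `U : X.Opens`, `G f U : X.Modules ⥤ S.Modules` is `M ↦ (f|_U)_* (M|_U)`,
written as `restrict U.ι ⋙ pushforward U.ι ⋙ pushforward f`.  Restriction natural transformations
`ρ f h : G f U ⟶ G f U'` for `U' ≤ U`, their section formulas, and the Mayer–Vietoris short exact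
sequence on injective modules.
-/

set_option autoImplicit false
universe u
open CategoryTheory CategoryTheory.Limits AlgebraicGeometry TopologicalSpace Opposite

namespace Groth.Agent.H30.RelMV

open Scheme.Modules

noncomputable instance restrictFunctor_additive {X Y : Scheme.{u}} (j : X ⟶ Y) [IsOpenImmersion j] :
    (restrictFunctor j).Additive :=
  (restrictAdjunction j).left_adjoint_additive

variable {X S : Scheme.{u}} (f : X ⟶ S)

/-- `M ↦ (f|_U)_* (M|_U)`. -/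
noncomputable def G (U : X.Opens) : X.Modules ⥤ S.Modules :=
  restrictFunctor U.ι ⋙ pushforward U.ι ⋙ pushforward f

instance (U : X.Opens) : (G f U).Additive := by
  unfold G
  infer_instance

/-- The open over which the sections of `G f U M` over `W` are taken. -/
abbrev im (U : X.Opens) (W : S.Opens) : X.Opens := U.ι ''ᵁ (U.ι ⁻¹ᵁ (f ⁻¹ᵁ W))

lemma mem_im {U : X.Opens} {W : S.Opens} {x : X} : x ∈ im f U W ↔ x ∈ U ∧ f x ∈ W := by
  constructor
  · rintro ⟨y, hy, rfl⟩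
    exact ⟨y.2, hy⟩
  · rintro ⟨hU, hW⟩
    exact ⟨⟨x, hU⟩, hW, rfl⟩

lemma im_eq (U : X.Opens) (W : S.Opens) : im f U W = U ⊓ f ⁻¹ᵁ W := by
  ext x
  exact mem_im f

variable {U' U : X.Opens} (h : U' ≤ U)

include h in
lemma im_mono (W : S.Opens) : im f U' W ≤ im f U W := by
  rw [im_eq, im_eq]
  exact inf_le_inf_right _ h

/-- `(M|_U)|_{U'} ≅ M|_{U'}`. -/
noncomputable def isoA :
    restrictFunctor U.ι ⋙ restrictFunctor (X.homOfLE h) ≅ restrictFunctor U'.ι :=
  (restrictFunctorComp (X.homOfLE h) U.ι).symm ≪≫ restrictFunctorCongr (X.homOfLE_ι h)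

/-- `(U' → U → X)_* ≅ (U' → X)_*`. -/
noncomputable def isoB : pushforward (X.homOfLE h) ⋙ pushforward U.ι ≅ pushforward U'.ι :=
  pushforwardComp (X.homOfLE h) U.ι ≪≫ pushforwardCongr (X.homOfLE_ι h)

/-- The restriction `(f|_U)_* (M|_U) ⟶ (f|_U')_* (M|_U')` for `U' ≤ U`. -/
noncomputable def ρ : G f U ⟶ G f U' :=
  (Functor.whiskerLeft (restrictFunctor U.ι)
    (Functor.whiskerRight (restrictAdjunction (X.homOfLE h)).unit
      (pushforward U.ι ⋙ pushforward f)) :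
      restrictFunctor U.ι ⋙ 𝟭 _ ⋙ (pushforward U.ι ⋙ pushforward f) ⟶ _) ≫
  (Functor.whiskerLeft (restrictFunctor U.ι ⋙ restrictFunctor (X.homOfLE h))
    (Functor.whiskerRight (isoB h).hom (pushforward f)) :
      (restrictFunctor U.ι ⋙ restrictFunctor (X.homOfLE h)) ⋙
        (pushforward (X.homOfLE h) ⋙ pushforward U.ι) ⋙ pushforward f ⟶ _) ≫
  (Functor.whiskerRight (isoA h).hom (pushforward U'.ι ⋙ pushforward f))

lemma pm4 (M : X.Modules) {A B C D E : (Opens X)ᵒᵖ} (a : A ⟶ B) (b : B ⟶ C) (c : C ⟶ D)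
    (d : D ⟶ E) (e : A ⟶ E) :
    M.presheaf.map a ≫ M.presheaf.map b ≫ M.presheaf.map c ≫ M.presheaf.map d =
      M.presheaf.map e := by
  simp only [← Functor.map_comp]
  congr 1

lemma pm2 (M : X.Modules) {A B C : (Opens X)ᵒᵖ} (a : A ⟶ B) (b : B ⟶ C) (e : A ⟶ C) :
    M.presheaf.map a ≫ M.presheaf.map b = M.presheaf.map e := by
  simp only [← Functor.map_comp]
  congr 1

/-- restriction maps of a module only depend on the opens -/
lemma pm_apply (M : X.Modules) {A B C : (Opens X)ᵒᵖ} (i : A ⟶ B) (j : B ⟶ C) (k : A ⟶ C)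
    (a : M.presheaf.obj A) : M.presheaf.map j (M.presheaf.map i a) = M.presheaf.map k a := by
  rw [← ConcreteCategory.comp_apply, ← M.presheaf.map_comp]
  have : i ≫ j = k := Subsingleton.elim _ _
  rw [this]

lemma restrict_map' {X Y : Scheme.{u}} (M : Y.Modules) (f : X ⟶ Y) [IsOpenImmersion f]
    {A B : (Opens X)ᵒᵖ} (i : A ⟶ B) :
    (M.restrict f).presheaf.map i = M.presheaf.map (f.opensFunctor.op.map i) := rfl

lemma ρ_app_app (M : X.Modules) (W : S.Opens) :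
    ((ρ f h).app M).app W =
      (M.presheaf.map (homOfLE (im_mono f h W)).op : Γ(M, im f U W) ⟶ Γ(M, im f U' W)) := by
  dsimp [ρ, isoA, isoB, G]
  simp
  rw [restrict_map', restrict_map', restrict_map']
  exact pm4 M _ _ _ _ _

lemma ρ_comp {U'' : X.Opens} (h' : U'' ≤ U') : ρ f h ≫ ρ f h' = ρ f (h'.trans h) := by
  ext M : 2
  apply Scheme.Modules.hom_ext
  intro W
  rw [NatTrans.comp_app, Scheme.Modules.Hom.comp_app, ρ_app_app, ρ_app_app, ρ_app_app]
  exact pm2 M _ _ _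


section ShortExact

variable {Y : Scheme.{u}}

/-- A short complex of O-modules which is sectionwise short exact is short exact. -/
theorem shortExact_of_sections (T : ShortComplex Y.Modules)
    (h₁ : ∀ O : Y.Opens, Function.Injective (T.f.app O))
    (h₂ : ∀ (O : Y.Opens) (b : Γ(T.X₂, O)), T.g.app O b = 0 → ∃ a, T.f.app O a = b)
    (h₃ : ∀ O : Y.Opens, Function.Surjective (T.g.app O)) : T.ShortExact := by
  let T' : ShortComplex (SheafOfModules.{u} Y.ringCatSheaf) := T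
  have : PreservesFiniteColimits (SheafOfModules.toSheaf.{u} Y.ringCatSheaf) :=
    Groth.Agent.H45.toSheaf_preservesFiniteColimits Y.ringCatSheaf
  have hT' : (T'.map (SheafOfModules.toSheaf.{u} Y.ringCatSheaf)).ShortExact :=
    Groth.Agent.H42.MVConcrete.shortExact_of_sections (Y := Y.carrier)
      (T'.map (SheafOfModules.toSheaf.{u} Y.ringCatSheaf))
      (fun O => h₁ O) (fun O b hb => h₂ O b hb) (fun O => h₃ O)
  have hm : Mono ((SheafOfModules.toSheaf.{u} Y.ringCatSheaf).map T'.f) := hT'.mono_f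
  have he : Epi ((SheafOfModules.toSheaf.{u} Y.ringCatSheaf).map T'.g) := hT'.epi_g
  have key : T'.ShortExact :=
    { exact := (ShortComplex.exact_map_iff_of_faithful T'
        (SheafOfModules.toSheaf.{u} Y.ringCatSheaf)).1 hT'.exact
      mono_f := (SheafOfModules.toSheaf.{u} Y.ringCatSheaf).mono_of_mono_map hm
      epi_g := (SheafOfModules.toSheaf.{u} Y.ringCatSheaf).epi_of_epi_map he }
  exact key

end ShortExact


section MV

open Groth.Agent.H45 Groth.Agent.H42.MVDerived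

/-- Gluing two sections of a module. -/
lemma glue₂ (I : X.Modules) {U₁ U₂ : X.Opens} (a₁ : Γ(I, U₁)) (a₂ : Γ(I, U₂))
    (h : I.presheaf.map (homOfLE (inf_le_left : U₁ ⊓ U₂ ≤ U₁)).op a₁ =
      I.presheaf.map (homOfLE (inf_le_right : U₁ ⊓ U₂ ≤ U₂)).op a₂) :
    ∃ b : Γ(I, U₁ ⊔ U₂), I.presheaf.map (homOfLE (le_sup_left : U₁ ≤ U₁ ⊔ U₂)).op b = a₁ ∧
      I.presheaf.map (homOfLE (le_sup_right : U₂ ≤ U₁ ⊔ U₂)).op b = a₂ :=
  Groth.Agent.H45.LocCohZLib.exists_glue₂ (X := X.carrier) (Coh.toAb I) a₁ a₂ h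

/-- Sections of a module agreeing on two opens covering `V` agree. -/
lemma eq_of_res₂ (I : X.Modules) {U₁ U₂ V : X.Opens} (h₁ : U₁ ≤ V) (h₂ : U₂ ≤ V)
    (hcover : V ≤ U₁ ⊔ U₂) (s t : Γ(I, V))
    (e₁ : I.presheaf.map (homOfLE h₁).op s = I.presheaf.map (homOfLE h₁).op t)
    (e₂ : I.presheaf.map (homOfLE h₂).op s = I.presheaf.map (homOfLE h₂).op t) : s = t :=
  TopCat.Sheaf.eq_of_locally_eq₂ (X := X.carrier) (Coh.toAb I) (homOfLE h₁) (homOfLE h₂) hcover
    s t e₁ e₂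

lemma im_sup_le (U V : X.Opens) (W : S.Opens) : im f (U ⊔ V) W ≤ im f U W ⊔ im f V W := by
  intro x hx
  obtain ⟨h1, h2⟩ := (mem_im f).1 hx
  rcases h1 with h | h
  · exact Or.inl ((mem_im f).2 ⟨h, h2⟩)
  · exact Or.inr ((mem_im f).2 ⟨h, h2⟩)

lemma sup_im_le (U V : X.Opens) (W : S.Opens) : im f U W ⊔ im f V W ≤ im f (U ⊔ V) W := by
  apply sup_le
  · exact im_mono f le_sup_left W
  · exact im_mono f le_sup_right W

lemma im_inf_le (U V : X.Opens) (W : S.Opens) : im f U W ⊓ im f V W ≤ im f (U ⊓ V) W := by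
  rintro x ⟨h1, h2⟩
  obtain ⟨h1, h3⟩ := (mem_im f).1 h1
  obtain ⟨h2, -⟩ := (mem_im f).1 h2
  exact (mem_im f).2 ⟨⟨h1, h2⟩, h3⟩

lemma w_eq (U V : X.Opens) :
    ρ f (le_sup_left : U ≤ U ⊔ V) ≫ ρ f (inf_le_left : U ⊓ V ≤ U) =
      ρ f (le_sup_right : V ≤ U ⊔ V) ≫ ρ f (inf_le_right : U ⊓ V ≤ V) := by
  rw [ρ_comp, ρ_comp]

lemma ρ_apply {U' U : X.Opens} (h : U' ≤ U) (M : X.Modules) (W : S.Opens) (a : Γ(M, im f U W)) :
    ((ρ f h).app M).app W a = M.presheaf.map (homOfLE (im_mono f h W)).op a := by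
  rw [ρ_app_app]
  rfl

lemma secA (I : X.Modules) (U V : X.Opens) (O : S.Opens) (a a' : Γ((G f (U ⊔ V)).obj I, O))
    (e₂ : ((ρ f (le_sup_left : U ≤ U ⊔ V)).app I).app O a =
      ((ρ f (le_sup_left : U ≤ U ⊔ V)).app I).app O a')
    (e₃ : ((ρ f (le_sup_right : V ≤ U ⊔ V)).app I).app O a =
      ((ρ f (le_sup_right : V ≤ U ⊔ V)).app I).app O a') : a = a' := by
  have e₂' := (ρ_apply f (le_sup_left : U ≤ U ⊔ V) I O a).symm.trans
    (e₂.trans (ρ_apply f (le_sup_left : U ≤ U ⊔ V) I O a'))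
  have e₃' := (ρ_apply f (le_sup_right : V ≤ U ⊔ V) I O a).symm.trans
    (e₃.trans (ρ_apply f (le_sup_right : V ≤ U ⊔ V) I O a'))
  exact eq_of_res₂ I (im_mono f le_sup_left O) (im_mono f le_sup_right O) (im_sup_le f U V O)
    a a' e₂' e₃'

lemma secB (I : X.Modules) (U V : X.Opens) (O : S.Opens) (b₂ : Γ((G f U).obj I, O))
    (b₃ : Γ((G f V).obj I, O))
    (hb : ((ρ f (inf_le_left : U ⊓ V ≤ U)).app I).app O b₂ =
      ((ρ f (inf_le_right : U ⊓ V ≤ V)).app I).app O b₃) :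
    ∃ a : Γ((G f (U ⊔ V)).obj I, O),
      ((ρ f (le_sup_left : U ≤ U ⊔ V)).app I).app O a = b₂ ∧
      ((ρ f (le_sup_right : V ≤ U ⊔ V)).app I).app O a = b₃ := by
  have hb' := (ρ_apply f (inf_le_left : U ⊓ V ≤ U) I O b₂).symm.trans
    (hb.trans (ρ_apply f (inf_le_right : U ⊓ V ≤ V) I O b₃))
  let c₂ : Γ(I, im f U O) := b₂
  let c₃ : Γ(I, im f V O) := b₃
  have hglue : I.presheaf.map (homOfLE (inf_le_left : im f U O ⊓ im f V O ≤ im f U O)).op c₂ =
      I.presheaf.map (homOfLE (inf_le_right : im f U O ⊓ im f V O ≤ im f V O)).op c₃ := by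
    have := congrArg (I.presheaf.map (homOfLE (im_inf_le f U V O)).op) hb'
    exact (pm_apply I _ _ _ c₂).symm.trans (this.trans (pm_apply I _ _ _ c₃))
  obtain ⟨c, hc₂, hc₃⟩ := glue₂ I c₂ c₃ hglue
  refine ⟨I.presheaf.map (homOfLE (im_sup_le f U V O)).op c, ?_, ?_⟩
  · exact (ρ_apply f (le_sup_left : U ≤ U ⊔ V) I O _).trans ((pm_apply I _ _ _ c).trans hc₂)
  · exact (ρ_apply f (le_sup_right : V ≤ U ⊔ V) I O _).trans ((pm_apply I _ _ _ c).trans hc₃)

lemma secC (I : X.Modules) [Injective I] (U V : X.Opens) (O : S.Opens)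
    (c : Γ((G f (U ⊓ V)).obj I, O)) :
    ∃ b₂ : Γ((G f U).obj I, O), ((ρ f (inf_le_left : U ⊓ V ≤ U)).app I).app O b₂ = c := by
  obtain ⟨b₂, hb₂⟩ := Groth.Agent.H30.ModFlasque.surjective_res I
    (im_mono f (inf_le_left : U ⊓ V ≤ U) O) c
  exact ⟨b₂, (ρ_apply f (inf_le_left : U ⊓ V ≤ U) I O b₂).trans hb₂⟩

theorem exactOnInjectives [HasInjectiveResolutions X.Modules] (U V : X.Opens) :
    RDerivedLES.ExactOnInjectives
      (αm (ρ f (le_sup_left : U ≤ U ⊔ V)) (ρ f (le_sup_right : V ≤ U ⊔ V)))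
      (βm (ρ f (inf_le_left : U ⊓ V ≤ U)) (ρ f (inf_le_right : U ⊓ V ≤ V)))
      (αm_βm _ _ _ _ (w_eq f U V)) := by
  intro I hI
  let GU := (G f U).obj I
  let GV := (G f V).obj I
  let αU := (ρ f (le_sup_left : U ≤ U ⊔ V)).app I
  let αV := (ρ f (le_sup_right : V ≤ U ⊔ V)).app I
  let βU := (ρ f (inf_le_left : U ⊓ V ≤ U)).app I
  let βV := (ρ f (inf_le_right : U ⊓ V ≤ V)).app I
  have total : ∀ (O : S.Opens) (b : Γ(GU ⊞ GV, O)),
      b = (biprod.inl : GU ⟶ GU ⊞ GV).app O ((biprod.fst : GU ⊞ GV ⟶ GU).app O b) +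
          (biprod.inr : GV ⟶ GU ⊞ GV).app O ((biprod.snd : GU ⊞ GV ⟶ GV).app O b) := by
    intro O b
    have := congrArg (fun φ : GU ⊞ GV ⟶ GU ⊞ GV => φ.app O b)
      (biprod.total : (biprod.fst : GU ⊞ GV ⟶ GU) ≫ biprod.inl + biprod.snd ≫ biprod.inr = 𝟙 _)
    exact this.symm
  have lift_fst : ∀ (O : S.Opens) a,
      (biprod.fst : GU ⊞ GV ⟶ GU).app O ((biprod.lift αU αV).app O a) = αU.app O a := by
    intro O a
    change ((biprod.lift αU αV ≫ biprod.fst).app O) a = _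
    rw [biprod.lift_fst]
  have lift_snd : ∀ (O : S.Opens) a,
      (biprod.snd : GU ⊞ GV ⟶ GV).app O ((biprod.lift αU αV).app O a) = αV.app O a := by
    intro O a
    change ((biprod.lift αU αV ≫ biprod.snd).app O) a = _
    rw [biprod.lift_snd]
  have inl_desc : ∀ (O : S.Opens) b,
      (biprod.desc βU (-βV)).app O ((biprod.inl : GU ⟶ GU ⊞ GV).app O b) = βU.app O b := by
    intro O b
    change ((biprod.inl ≫ biprod.desc βU (-βV)).app O) b = _
    rw [biprod.inl_desc]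
  have inr_desc : ∀ (O : S.Opens) b,
      (biprod.desc βU (-βV)).app O ((biprod.inr : GV ⟶ GU ⊞ GV).app O b) = -βV.app O b := by
    intro O b
    change ((biprod.inr ≫ biprod.desc βU (-βV)).app O) b = _
    rw [biprod.inr_desc]
    rfl
  apply shortExact_of_sections
  · -- injectivity
    intro O a a' haa'
    change (biprod.lift αU αV).app O a = (biprod.lift αU αV).app O a' at haa'
    have e₂ := congrArg (fun b => (biprod.fst : GU ⊞ GV ⟶ GU).app O b) haa'
    have e₃ := congrArg (fun b => (biprod.snd : GU ⊞ GV ⟶ GV).app O b) haa'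
    simp only [lift_fst, lift_snd] at e₂ e₃
    exact secA f I U V O a a' e₂ e₃
  · -- exactness in the middle
    intro O b hb
    change (biprod.desc βU (-βV)).app O b = 0 at hb
    set b₂ := (biprod.fst : GU ⊞ GV ⟶ GU).app O b with hb₂
    set b₃ := (biprod.snd : GU ⊞ GV ⟶ GV).app O b with hb₃
    have hb' : βU.app O b₂ = βV.app O b₃ := by
      rw [total O b, map_add, inl_desc, inr_desc] at hb
      exact sub_eq_zero.1 ((sub_eq_add_neg _ _).trans hb)
    obtain ⟨a, h2', h3'⟩ := secB f I U V O b₂ b₃ hb'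
    refine ⟨a, ?_⟩
    have h2 : (biprod.fst : GU ⊞ GV ⟶ GU).app O ((biprod.lift αU αV).app O a) = b₂ :=
      (lift_fst O a).trans h2'
    have h3 : (biprod.snd : GU ⊞ GV ⟶ GV).app O ((biprod.lift αU αV).app O a) = b₃ :=
      (lift_snd O a).trans h3'
    change (biprod.lift αU αV).app O a = b
    rw [total O ((biprod.lift αU αV).app O a), h2, h3]
    exact (total O b).symm
  · -- surjectivity
    intro O c
    obtain ⟨b₂, hb₂⟩ := secC f I U V O c
    refine ⟨(biprod.inl : GU ⟶ GU ⊞ GV).app O b₂, ?_⟩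
    exact (inl_desc O b₂).trans hb₂

end MV

end Groth.Agent.H30.RelMV
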