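import Groth.Agent.H30.RpushQcoh
import Groth.Agent.S6163
import Groth.Agent.H42.SSCollapse
import Groth.Agent.H42.CohTopLib

/-!
# `R^p (g ∘ f)_* F ≅ g_* R^p f_* F` for `g` affine, `f` qcqs, `F` quasi-coherent (abelian sheaves)
(helper30; via helper5's Leray spectral sequence S6163, helper42's collapse lemma, S0030, S0028)
-/

set_option autoImplicit false
universe u
open CategoryTheory CategoryTheory.Limits AlgebraicGeometry TopologicalSpace Opposite

namespace Groth.Agent.H30.RpushAffComp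

theorem main {X Y Z : Scheme.{u}} (f : X ⟶ Y) (g : Y ⟶ Z)
    [QuasiSeparated f] [QuasiCompact f] [IsAffineHom g] (F : X.Modules) [Coh.IsQCoh F] (p : ℕ) :
    Nonempty ((Coh.RpushAb (f ≫ g) p).obj (Coh.toAb F) ≅
      (Coh.pushAb g).obj ((Coh.RpushAb f p).obj (Coh.toAb F))) := by
  classical
  haveI : F.IsQuasicoherent := ‹Coh.IsQCoh F›
  let J := Opens.grothendieckTopology X
  let K := Opens.grothendieckTopology Y
  let L := Opens.grothendieckTopology Z
  have hrefl : ReflectsLimits (forget (Type u)) := reflectsLimits_of_reflectsIsomorphisms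
  have hpbf : PreservesFiniteLimits ((Opens.map f.base).sheafPullback (Type u) K J) := by
    have hflat : RepresentablyFlat (Opens.map f.base) := inferInstance
    have hlan : PreservesFiniteLimits ((Opens.map f.base).op.lan : (_ ⥤ _ ⥤ Type u)) := by
      apply lan_preservesFiniteLimits_of_flat
    apply Functor.sheafPullbackConstruction.preservesFiniteLimits
  have hpbg : PreservesFiniteLimits ((Opens.map g.base).sheafPullback (Type u) L K) := by
    have hflat : RepresentablyFlat (Opens.map g.base) := inferInstance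
    have hlan : PreservesFiniteLimits ((Opens.map g.base).op.lan : (_ ⥤ _ ⥤ Type u)) := by
      apply lan_preservesFiniteLimits_of_flat
    apply Functor.sheafPullbackConstruction.preservesFiniteLimits
  haveI : (Opens.map g.base ⋙ Opens.map f.base).IsContinuous L J :=
    Functor.isContinuous_comp _ _ L K J
  obtain ⟨E, a, hfin, -, hE2⟩ := Groth.Agent.S6163.result J K L (Opens.map f.base)
    (Opens.map g.base) (Coh.toAb F)
  -- vanishing of `R^{p'+1} g_* (R^q f_* F)`
  have hvan : ∀ (p' q' : ℕ), IsZero ((Coh.RpushAb g (p' + 1)).obj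
      ((Coh.RpushAb f q').obj (Coh.toAb F))) := by
    intro p' q'
    obtain ⟨e⟩ := Groth.Agent.S11319.result f F q'
    haveI : ((Coh.Rpush f q').obj F).IsQuasicoherent :=
      Groth.Agent.H30.RpushQcoh.isQCoh_Rpush f F q'
    have hz := Groth.Agent.S0028.result g ((Coh.Rpush f q').obj F) (p' + 1) (Nat.succ_pos p')
    exact hz.of_iso ((Coh.RpushAb g (p' + 1)).mapIso e.symm)
  have hz : ∀ pq : ℤ × ℤ, pq.1 ≠ 0 → IsZero ((E.page 2 le_rfl).X pq) := by
    rintro ⟨p', q'⟩ hp
    obtain ⟨e⟩ := hE2 p' q'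
    refine IsZero.of_iso ?_ e
    by_cases hpq : 0 ≤ p' ∧ 0 ≤ q'
    · rw [if_pos hpq]
      obtain ⟨p'', hp''⟩ : ∃ p'' : ℕ, p'.toNat = p'' + 1 := ⟨p'.toNat - 1, by
        have : p' ≠ 0 := hp
        omega⟩
      rw [hp'']
      exact hvan p'' q'.toNat
    · rw [if_neg hpq]
      exact isZero_zero _
  obtain ⟨e1⟩ := Groth.Agent.H42.SSCollapse.nonempty_iso_of_cols_zero E a hfin hz (p : ℤ)
  obtain ⟨e2⟩ := hE2 0 (p : ℤ)
  have hcond : (0 : ℤ) ≤ 0 ∧ (0 : ℤ) ≤ (p : ℤ) := ⟨le_rfl, Int.natCast_nonneg p⟩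
  rw [if_pos hcond] at e2
  rw [if_pos hcond.2] at e1
  have h1 : ((p : ℤ)).toNat = p := Int.toNat_natCast p
  have h2 : (0 : ℤ).toNat = 0 := rfl
  rw [h1] at e1 e2
  rw [h2] at e2
  have hlim : PreservesFiniteLimits (Coh.pushAb g) := by
    have := Groth.Agent.H42.CohTopLib.preservesLimits_push g.base
    exact inferInstanceAs (PreservesFiniteLimits (CohTop.push g.base))
  exact ⟨e1 ≪≫ e2 ≪≫ ((Coh.pushAb g).rightDerivedZeroIsoSelf).app _⟩

end Groth.Agent.H30.RpushAffComp
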