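import Groth.Agent.H30.RpushQcoh
import Groth.Agent.H30.ModFlasque
import Groth.Agent.H42.CmpLib
import Groth.Agent.H45.AffineVanishing
import Groth.Prelude.Def_CohCmp

/-!
# The pinned comparison `ε_⊤ : H^q(X, F) → Γ(S, R^q f_* F)` is bijective over an affine base
(helper30)

Four-lemma induction over the class of "good" modules (all `R^n f_* F` are `Γ(S,-)`-acyclic).
-/

set_option autoImplicit false
universe u
open CategoryTheory CategoryTheory.Limits AlgebraicGeometry TopologicalSpace Opposite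
open CategoryTheory.Abelian

namespace Groth.Agent.H30.SectCmp

section Top

variable {X : TopCat.{u}}

/-- an abelian sheaf with vanishing higher cohomology. -/
def Acyc (G : CohTop.Ab X) : Prop := ∀ i : ℕ, Subsingleton (Sheaf.H G (i + 1))

lemma acyc_of_iso {G G' : CohTop.Ab X} (e : G ≅ G') (h : Acyc G) : Acyc G' := by
  intro i
  haveI := h i
  refine ⟨fun a b => ?_⟩
  have ha : Sheaf.H.map e.inv (i + 1) a = Sheaf.H.map e.inv (i + 1) b := Subsingleton.elim _ _
  have := congrArg (Sheaf.H.map e.hom (i + 1)) ha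
  simpa [Sheaf.H.map, Ext.comp_assoc_of_second_deg_zero] using this

lemma acyc_of_isFlasque (G : CohTop.Ab X) [TopCat.Sheaf.IsFlasque G] : Acyc G := fun i =>
  ⟨fun a b => by
    rw [Groth.Agent.H42.CohTopLib.ext_succ_eq_zero_of_isFlasque
        (Groth.Agent.H42.CohTopLib.secRepConst X) G i a,
      Groth.Agent.H42.CohTopLib.ext_succ_eq_zero_of_isFlasque
        (Groth.Agent.H42.CohTopLib.secRepConst X) G i b]⟩

lemma acyc_of_isZero (G : CohTop.Ab X) (h : IsZero G) : Acyc G := fun i =>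
  ⟨fun a b => by
    haveI := h.injective
    rw [Ext.eq_zero_of_injective a, Ext.eq_zero_of_injective b]⟩

variable {S : ShortComplex (CohTop.Ab X)} (hS : S.ShortExact)

include hS in
lemma acyc_X₂ (h₁ : Acyc S.X₁) (h₃ : Acyc S.X₃) : Acyc S.X₂ := by
  intro i
  haveI := h₁ i
  haveI := h₃ i
  refine subsingleton_of_forall_eq 0 fun x₂ => ?_
  obtain ⟨x₁, rfl⟩ := Ext.covariant_sequence_exact₂ _ hS x₂ (Subsingleton.elim _ _)
  rw [Subsingleton.elim x₁ 0, Ext.zero_comp]

include hS in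
lemma acyc_X₃ (h₁ : Acyc S.X₁) (h₂ : Acyc S.X₂) : Acyc S.X₃ := by
  intro i
  haveI := h₁ (i + 1)
  haveI := h₂ i
  refine subsingleton_of_forall_eq 0 fun x₃ => ?_
  obtain ⟨x₂, rfl⟩ := Ext.covariant_sequence_exact₃ _ hS x₃ rfl (Subsingleton.elim _ _)
  rw [Subsingleton.elim x₂ 0, Ext.zero_comp]

include hS in
/-- sections over `⊤` of `g` are surjective when `X₁` is acyclic. -/
lemma surjective_sections (h₁ : Acyc S.X₁) (c : S.X₃.obj.obj (op ⊤)) :
    ∃ b : S.X₂.obj.obj (op ⊤), S.g.hom.app (op ⊤) b = c := by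
  haveI := h₁ 0
  have hT : IsTerminal (⊤ : Opens X) := isTerminalTop
  let x₃ := (Sheaf.H.equiv₀ S.X₃ hT).symm c
  obtain ⟨x₂, hx₂⟩ := Ext.covariant_sequence_exact₃ _ hS x₃ rfl (Subsingleton.elim _ _)
  refine ⟨Sheaf.H.equiv₀ S.X₂ hT x₂, ?_⟩
  rw [Sheaf.H.equiv₀_naturality]
  have : Sheaf.H.map S.g 0 x₂ = x₃ := hx₂
  rw [this]
  exact (Sheaf.H.equiv₀ S.X₃ hT).apply_symm_apply c

include hS in
/-- left exactness of sections over `⊤`. -/
lemma exists_of_sections_g_eq_zero (b : S.X₂.obj.obj (op ⊤)) (hb : S.g.hom.app (op ⊤) b = 0) :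
    ∃ a : S.X₁.obj.obj (op ⊤), S.f.hom.app (op ⊤) a = b := by
  have hT : IsTerminal (⊤ : Opens X) := isTerminalTop
  let x₂ := (Sheaf.H.equiv₀ S.X₂ hT).symm b
  have h0 : x₂.comp (Ext.mk₀ S.g) (add_zero 0) = 0 := by
    have h1 : Sheaf.H.map S.g 0 x₂ = (Sheaf.H.equiv₀ S.X₃ hT).symm (S.g.hom.app (op ⊤) b) :=
      Sheaf.H.equiv₀_symm_naturality hT S.g b
    rw [hb, map_zero] at h1
    exact h1
  obtain ⟨x₁, hx₁⟩ := Ext.covariant_sequence_exact₂ _ hS x₂ h0
  refine ⟨Sheaf.H.equiv₀ S.X₁ hT x₁, ?_⟩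
  rw [Sheaf.H.equiv₀_naturality]
  have : Sheaf.H.map S.f 0 x₁ = x₂ := hx₁
  rw [this]
  exact (Sheaf.H.equiv₀ S.X₂ hT).apply_symm_apply b

end Top

section Sch

open Scheme.Modules

variable {Y : Scheme.{u}}

/-- an `O_Y`-module whose underlying abelian sheaf has vanishing higher cohomology. -/
def AcycM (A : Y.Modules) : Prop := Acyc (X := Y.carrier) (Coh.toAb A)

/-- the underlying abelian sheaf functor, typed on `Y.Modules`. -/
noncomputable abbrev toSh (Y : Scheme.{u}) :
    Y.Modules ⥤ Sheaf (Opens.grothendieckTopology Y) AddCommGrpCat.{u} :=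
  SheafOfModules.toSheaf.{u} Y.ringCatSheaf

instance toSh_additive (Y : Scheme.{u}) : (toSh Y).Additive where
  map_add := by
    intros
    rfl

instance (Y : Scheme.{u}) : PreservesFiniteLimits (toSh Y) :=
  inferInstanceAs (PreservesFiniteLimits (SheafOfModules.toSheaf.{u} Y.ringCatSheaf))

instance (Y : Scheme.{u}) : PreservesFiniteColimits (toSh Y) :=
  Groth.Agent.H45.toSheaf_preservesFiniteColimits Y.ringCatSheaf

lemma shortExact_toAb {T : ShortComplex Y.Modules} (hT : T.ShortExact) :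
    (T.map (toSh Y)).ShortExact :=
  hT.map_of_exact (toSh Y)

lemma acycM_of_iso {A A' : Y.Modules} (e : A ≅ A') (h : AcycM A) : AcycM A' :=
  acyc_of_iso (X := Y.carrier) ((toSh Y).mapIso e) h

lemma acycM_of_isZero (A : Y.Modules) (h : IsZero A) : AcycM A :=
  acyc_of_isZero (X := Y.carrier) _ ((toSh Y).map_isZero h)

lemma acycM_X₂ {T : ShortComplex Y.Modules} (hT : T.ShortExact) (h₁ : AcycM T.X₁)
    (h₃ : AcycM T.X₃) : AcycM T.X₂ :=
  acyc_X₂ (X := Y.carrier) (shortExact_toAb hT) h₁ h₃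

lemma acycM_X₃ {T : ShortComplex Y.Modules} (hT : T.ShortExact) (h₁ : AcycM T.X₁)
    (h₂ : AcycM T.X₂) : AcycM T.X₃ :=
  acyc_X₃ (X := Y.carrier) (shortExact_toAb hT) h₁ h₂

lemma surjective_app_top {T : ShortComplex Y.Modules} (hT : T.ShortExact) (h₁ : AcycM T.X₁)
    (c : T.X₃.presheaf.obj (op ⊤)) : ∃ b : T.X₂.presheaf.obj (op ⊤), T.g.app ⊤ b = c :=
  surjective_sections (X := Y.carrier) (shortExact_toAb hT) h₁ c

lemma exists_of_app_top_eq_zero {T : ShortComplex Y.Modules} (hT : T.ShortExact)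
    (b : T.X₂.presheaf.obj (op ⊤)) (hb : T.g.app ⊤ b = 0) :
    ∃ a : T.X₁.presheaf.obj (op ⊤), T.f.app ⊤ a = b :=
  exists_of_sections_g_eq_zero (X := Y.carrier) (shortExact_toAb hT) b hb

lemma acycM_of_isQuasicoherent [IsAffine Y] (A : Y.Modules) [A.IsQuasicoherent] : AcycM A :=
  fun i => Groth.Agent.H45.AffineVanishing.subsingleton_HH A i

end Sch

section Main

open Scheme.Modules Groth.Agent.H30.RpushQcoh

variable {X S : Scheme.{u}} (f : X ⟶ S) [HasInjectiveResolutions X.Modules]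

/-- all higher direct images are `Γ(S, -)`-acyclic. -/
def Good (F : X.Modules) : Prop := ∀ n, AcycM ((Coh.Rpush f n).obj F)

omit [HasInjectiveResolutions X.Modules] in
lemma acycM_push_of_injective (I : X.Modules) (hI : Injective I) :
    AcycM ((pushforward f).obj I) := by
  haveI := hI
  haveI := Groth.Agent.H30.ModFlasque.isFlasque_toAb_of_injective I
  change Acyc (X := S.carrier) ((CohTop.push f.base).obj (Coh.toAb I))
  haveI : TopCat.Sheaf.IsFlasque ((CohTop.push f.base).obj (Coh.toAb I)) :=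
    TopCat.Sheaf.IsFlasque.pushforward_isFlasque (X := X.carrier) (Coh.toAb I) f.base
  exact acyc_of_isFlasque _

lemma good_of_injective (I : X.Modules) (hI : Injective I) : Good f I := by
  intro n
  haveI := hI
  cases n with
  | zero =>
    exact acycM_of_iso (((pushforward f).rightDerivedZeroIsoSelf).app I).symm
      (acycM_push_of_injective f I hI)
  | succ k =>
    exact acycM_of_isZero _ (Functor.isZero_rightDerived_obj_injective_succ _ _ _)

lemma bijective_app_of_isIso {Y : Scheme.{u}} {A B : Y.Modules} (φ : A ⟶ B) [IsIso φ]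
    (V : Y.Opens) : Function.Bijective (φ.app V) := by
  rw [Function.bijective_iff_has_inverse]
  refine ⟨(inv φ).app V, fun a => ?_, fun b => ?_⟩
  · have h : φ.app V ≫ (inv φ).app V = 𝟙 _ := by rw [← Hom.comp_app, IsIso.hom_inv_id, Hom.id_app]
    exact ConcreteCategory.congr_hom h a
  · have h : (inv φ).app V ≫ φ.app V = 𝟙 _ := by rw [← Hom.comp_app, IsIso.inv_hom_id, Hom.id_app]
    exact ConcreteCategory.congr_hom h b

variable (Δ : RDer.DerivedLES (pushforward f))

/-- the bottom row: sections over `⊤` of the long exact sequence of higher direct images. -/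
theorem bottom {T : ShortComplex X.Modules} (hT : T.ShortExact) (hI : Injective T.X₂)
    (hF : Good f T.X₁) (q : ℕ) :
    AcycM ((Coh.Rpush f q).obj T.X₃) ∧
    (∀ y : ((Coh.Rpush f (q + 1)).obj T.X₁).presheaf.obj (op ⊤),
      ∃ z : ((Coh.Rpush f q).obj T.X₃).presheaf.obj (op ⊤),
        (Δ.δ T hT q (q + 1) rfl).app ⊤ z = y) ∧
    (∀ z : ((Coh.Rpush f q).obj T.X₃).presheaf.obj (op ⊤),
      (Δ.δ T hT q (q + 1) rfl).app ⊤ z = 0 →
        ∃ u : ((Coh.Rpush f q).obj T.X₂).presheaf.obj (op ⊤),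
          ((Coh.Rpush f q).map T.g).app ⊤ u = z) := by
  haveI := hI
  let δ := Δ.δ T hT q (q + 1) rfl
  have hz1 : IsZero ((Coh.Rpush f (q + 1)).obj T.X₂) :=
    Functor.isZero_rightDerived_obj_injective_succ _ _ _
  have hepi : Epi δ := (Δ.exact₁ T hT q (q + 1) rfl).epi_f (hz1.eq_of_tgt _ _)
  cases q with
  | zero =>
    let SES2 : ShortComplex S.Modules := ShortComplex.mk (kernel.ι δ) δ (kernel.condition δ)
    have hSES2 : SES2.ShortExact :=
      { exact := ShortComplex.exact_kernel δ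
        mono_f := inferInstanceAs (Mono (kernel.ι δ))
        epi_g := hepi }
    let γ : (Coh.Rpush f 0).obj T.X₂ ⟶ kernel δ :=
      kernel.lift δ ((Coh.Rpush f 0).map T.g) (Δ.comp_δ T hT 0 1 rfl)
    have hγ : Epi γ := (Δ.exact₃ T hT 0 1 rfl).epi_kernelLift
    let a := (Coh.Rpush f 0).map T.f
    let e := (pushforward f).rightDerivedZeroIsoSelf
    have hma : Mono a := by
      haveI := hT.mono_f
      have hn : a ≫ e.hom.app T.X₂ = e.hom.app T.X₁ ≫ (pushforward f).map T.f :=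
        e.hom.naturality T.f
      have : Mono (a ≫ e.hom.app T.X₂) := by rw [hn]; exact mono_comp _ _
      exact mono_of_mono a (e.hom.app T.X₂)
    have hγι : γ ≫ kernel.ι δ = (Coh.Rpush f 0).map T.g := kernel.lift_ι _ _ _
    have hw : a ≫ γ = 0 := by
      rw [← cancel_mono (kernel.ι δ), Category.assoc, hγι, zero_comp, ← Functor.map_comp,
        T.zero, Functor.map_zero]
    let SES1 : ShortComplex S.Modules := ShortComplex.mk a γ hw
    have hSES1 : SES1.ShortExact := by
      have hex : SES1.Exact := by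
        let φ : SES1 ⟶ ShortComplex.mk a ((Coh.Rpush f 0).map T.g) (by
            rw [← Functor.map_comp, T.zero, Functor.map_zero]) :=
          { τ₁ := 𝟙 _
            τ₂ := 𝟙 _
            τ₃ := kernel.ι δ
            comm₁₂ := by simp [SES1]
            comm₂₃ := by
              change 𝟙 _ ≫ (Coh.Rpush f 0).map T.g = γ ≫ kernel.ι δ
              rw [hγι, Category.id_comp] }
        have h1 : Epi φ.τ₁ := @IsIso.epi_of_iso _ _ _ _ _ (IsIso.id _)
        have h2 : IsIso φ.τ₂ := IsIso.id _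
        have h3 : Mono φ.τ₃ := inferInstanceAs (Mono (kernel.ι δ))
        exact (ShortComplex.exact_iff_of_epi_of_isIso_of_mono φ).2 (Δ.exact₂ T hT 0)
      exact { exact := hex, mono_f := hma, epi_g := hγ }
    have hK : AcycM (kernel δ) := acycM_X₃ hSES1 (hF 0) (good_of_injective f T.X₂ hI 0)
    refine ⟨acycM_X₂ hSES2 hK (hF 1), fun y => surjective_app_top hSES2 hK y, fun z hz => ?_⟩
    obtain ⟨k, hk⟩ := exists_of_app_top_eq_zero hSES2 z hz
    obtain ⟨u, hu⟩ := surjective_app_top hSES1 (hF 0) k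
    refine ⟨u, ?_⟩
    have h1 : ((Coh.Rpush f 0).map T.g).app ⊤ = γ.app ⊤ ≫ (kernel.ι δ).app ⊤ := by
      rw [← Hom.comp_app, hγι]
    rw [h1]
    change (kernel.ι δ).app ⊤ (γ.app ⊤ u) = z
    rw [show γ.app ⊤ u = k from hu]
    exact hk
  | succ k =>
    have hz0 : IsZero ((Coh.Rpush f (k + 1)).obj T.X₂) :=
      Functor.isZero_rightDerived_obj_injective_succ _ _ _
    have hmono : Mono δ := (Δ.exact₃ T hT (k + 1) (k + 2) rfl).mono_g (hz0.eq_of_src _ _)
    haveI : IsIso δ := isIso_of_mono_of_epi δ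
    have hbij := bijective_app_of_isIso δ ⊤
    refine ⟨acycM_of_iso (asIso δ).symm (hF (k + 2)), fun y => hbij.2 y, fun z hz => ⟨0, ?_⟩⟩
    have : z = 0 := hbij.1 (by rw [hz, map_zero])
    rw [this, map_zero]

omit [HasInjectiveResolutions X.Modules] in
/-- the top row: the long exact Ext sequence over an open `U` of `X`. -/
theorem top_row {T : ShortComplex X.Modules} (hI : Injective T.X₂) (U : X.Opens)
    (hA : (T.map (CohCmp.toAbOn X U)).ShortExact) (q : ℕ) :
    (∀ w : Coh.HHon X T.X₁ U (q + 1), ∃ x : Coh.HHon X T.X₃ U q, CohCmp.extδ hA q x = w) ∧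
    (∀ x : Coh.HHon X T.X₃ U q, CohCmp.extδ hA q x = 0 →
      ∃ v : Coh.HHon X T.X₂ U q, CohPull.mapH ((restrictFunctor U.ι).map T.g) q v = x) ∧
    (∀ v : Coh.HHon X T.X₂ U q,
      CohCmp.extδ hA q (CohPull.mapH ((restrictFunctor U.ι).map T.g) q v) = 0) := by
  haveI := hI
  haveI : Injective ((restrictFunctor U.ι).obj T.X₂) :=
    Groth.Agent.H30.ExtZeroSch.injective_restrict U T.X₂
  haveI : TopCat.Sheaf.IsFlasque (X := (U : Scheme.{u}).carrier)
      (Coh.toAb ((restrictFunctor U.ι).obj T.X₂)) :=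
    Groth.Agent.H30.ModFlasque.isFlasque_toAb_of_injective _
  have hsub : ∀ w₂ : Coh.HHon X T.X₂ U (q + 1), w₂ = 0 := fun w₂ =>
    Groth.Agent.H42.CohTopLib.ext_succ_eq_zero_of_isFlasque
      (Groth.Agent.H42.CohTopLib.secRepConst (U : Scheme.{u}).carrier)
      (Coh.toAb ((restrictFunctor U.ι).obj T.X₂)) q w₂
  refine ⟨fun w => ?_, fun x hx => ?_, fun v => ?_⟩
  · exact Ext.covariant_sequence_exact₁ _ hA w (hsub _) rfl
  · exact Ext.covariant_sequence_exact₃ _ hA x rfl hx
  · change ((v.comp (Ext.mk₀ (T.map (CohCmp.toAbOn X U)).g) (add_zero q)).comp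
      hA.extClass rfl) = 0
    rw [Ext.comp_assoc_of_second_deg_zero]
    erw [hA.comp_extClass]
    apply Ext.comp_zero

variable {Δ} (E : CohCmp.SectCmp f Δ)

/-- the pinned comparison over `⊤` is bijective on good modules. -/
theorem bijective_ε (q : ℕ) : ∀ (F : X.Modules), Good f F → Function.Bijective (E.ε ⊤ F q) := by
  induction q with
  | zero =>
    intro F _
    have hiso : IsIso ((pushforward f).toRightDerivedZero.app F) := inferInstance
    have hb := bijective_app_of_isIso ((pushforward f).toRightDerivedZero.app F) ⊤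
    have hcomp : ∀ s, E.ε ⊤ F 0 (CohPull.sectH0 F (f ⁻¹ᵁ ⊤) s) =
        ((pushforward f).toRightDerivedZero.app F).app ⊤ s := E.zero ⊤ F
    constructor
    · intro x y hxy
      obtain ⟨s, rfl⟩ := (CohPull.sectH0 F (f ⁻¹ᵁ ⊤)).surjective x
      obtain ⟨t, rfl⟩ := (CohPull.sectH0 F (f ⁻¹ᵁ ⊤)).surjective y
      rw [hcomp, hcomp] at hxy
      rw [hb.1 hxy]
    · intro y
      obtain ⟨s, hs⟩ := hb.2 y
      exact ⟨CohPull.sectH0 F _ s, (hcomp s).trans hs⟩
  | succ q ih =>
    intro F hF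
    let R := injectiveResolution F
    let I := R.cocomplex.X 0
    let i : F ⟶ I := R.ι.f 0
    have hi : Mono i := (inferInstance : Mono (R.ι.f 0))
    let T : ShortComplex X.Modules := ShortComplex.mk i (cokernel.π i) (cokernel.condition i)
    have hT : T.ShortExact :=
      { exact := ShortComplex.exact_cokernel i
        mono_f := hi
        epi_g := inferInstanceAs (Epi (cokernel.π i)) }
    have hI : Injective T.X₂ := R.injective 0
    obtain ⟨-, hC1, hC2⟩ := bottom f Δ hT hI hF q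
    have hQgood : Good f T.X₃ := fun n => (bottom f Δ hT hI hF n).1
    have hIgood : Good f T.X₂ := good_of_injective f T.X₂ hI
    have ihQ := ih T.X₃ hQgood
    have ihI := ih T.X₂ hIgood
    have hA := Groth.Agent.H42.CmpLib.shortExact_map_toAbOn X (f ⁻¹ᵁ ⊤) hT
    obtain ⟨hB1, hB2, hB3⟩ := top_row hI (f ⁻¹ᵁ ⊤) hA q
    constructor
    · rw [injective_iff_map_eq_zero]
      intro w hw
      obtain ⟨x, rfl⟩ := hB1 w
      rw [E.delta ⊤ T hT hA q x] at hw
      obtain ⟨u, hu⟩ := hC2 _ hw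
      obtain ⟨v, rfl⟩ := ihI.2 u
      rw [← E.natural ⊤ T.g q v] at hu
      have h3 := ihQ.1 hu
      rw [← h3]
      exact hB3 v
    · intro y
      obtain ⟨z, rfl⟩ := hC1 y
      obtain ⟨x, rfl⟩ := ihQ.2 z
      exact ⟨CohCmp.extδ hA q x, E.delta ⊤ T hT hA q x⟩

/-- **S16959**. -/
theorem bijective_ε_of_isAffine [QuasiCompact f] [QuasiSeparated f] [IsAffine S]
    (F : X.Modules) [F.IsQuasicoherent] (q : ℕ) : Function.Bijective (E.ε ⊤ F q) := by
  apply bijective_ε f E q F
  intro n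
  haveI : ((Coh.Rpush f n).obj F).IsQuasicoherent := isQCoh_Rpush f F n
  exact acycM_of_isQuasicoherent _

end Main

end Groth.Agent.H30.SectCmp
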