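import Mathlib.CategoryTheory.Monoidal.Cartesian.Grp
import Mathlib.CategoryTheory.Monoidal.Grp
import Mathlib.CategoryTheory.Limits.Shapes.KernelPair
import Mathlib.CategoryTheory.Limits.Shapes.Equalizers
import Mathlib.CategoryTheory.Limits.Shapes.Pullback.IsPullback.Basic
import Mathlib.CategoryTheory.EffectiveEpi.Basic
import Mathlib.CategoryTheory.EquivalenceRelation
import Mathlib.Tactic.Group

/-!
# Quotients of group objects by subgroup objects, in an abstract "exact" cartesian category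

Everything is proved in an abstract cartesian monoidal category `𝒞` satisfying the exactness
properties `Exact 𝒞` (true in a Grothendieck topos), and instantiated for sheaves elsewhere.
-/

set_option autoImplicit false
universe v u

namespace Groth.Agent.H30.ShQuot

open CategoryTheory Limits MonoidalCategory CartesianMonoidalCategory MonObj

/-- Exactness properties of epimorphisms and equivalence relations (true in any topos). -/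
structure Exact (𝒞 : Type u) [Category.{v} 𝒞] : Prop where
  local_lift : ∀ {A B T : 𝒞} (f : A ⟶ B) [Epi f] (b : T ⟶ B),
    ∃ (T' : 𝒞) (p : T' ⟶ T) (a : T' ⟶ A), Epi p ∧ a ≫ f = p ≫ b
  effective : ∀ {A B : 𝒞} (f : A ⟶ B) [Epi f], EffectiveEpi f
  kernelPair : ∀ {R X : 𝒞} (p₁ p₂ : R ⟶ X), IsEquivalenceRelation p₁ p₂ →
    ∃ (B : 𝒞) (π : X ⟶ B), IsKernelPair π p₁ p₂

variable {𝒞 : Type u} [Category.{v} 𝒞] [CartesianMonoidalCategory 𝒞]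

namespace Exact

lemma epi_whiskerLeft (hE : Exact 𝒞) (X : 𝒞) {A B : 𝒞} (f : A ⟶ B) [Epi f] : Epi (X ◁ f) := by
  constructor
  intro Z a b hab
  obtain ⟨T', p, a', hp, hpa⟩ := hE.local_lift f (snd X B)
  have key : lift (p ≫ fst X B) a' ≫ (X ◁ f) = p := by
    rw [lift_whiskerLeft, hpa, lift_comp_fst_snd]
  rw [← cancel_epi p, ← key, Category.assoc, Category.assoc, hab]

lemma epi_whiskerRight (hE : Exact 𝒞) {A B : 𝒞} (f : A ⟶ B) [Epi f] (X : 𝒞) : Epi (f ▷ X) := by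
  constructor
  intro Z a b hab
  obtain ⟨T', p, a', hp, hpa⟩ := hE.local_lift f (fst B X)
  have key : lift a' (p ≫ snd B X) ≫ (f ▷ X) = p := by
    rw [lift_whiskerRight, hpa, lift_comp_fst_snd]
  rw [← cancel_epi p, ← key, Category.assoc, Category.assoc, hab]

lemma epi_tensorHom (hE : Exact 𝒞) {A B A' B' : 𝒞} (f : A ⟶ B) (g : A' ⟶ B') [Epi f] [Epi g] :
    Epi (f ⊗ₘ g) := by
  have := hE.epi_whiskerRight f A'
  have := hE.epi_whiskerLeft B g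
  rw [tensorHom_def]
  exact epi_comp _ _

end Exact

lemma ext_elem₂ {A B Z : 𝒞} {a b : A ⊗ B ⟶ Z}
    (h : ∀ (T : 𝒞) (x : T ⟶ A) (y : T ⟶ B), lift x y ≫ a = lift x y ≫ b) : a = b := by
  have := h _ (fst A B) (snd A B)
  rwa [lift_fst_snd, Category.id_comp, Category.id_comp] at this

lemma ext_elem₃ {A B D Z : 𝒞} {a b : (A ⊗ B) ⊗ D ⟶ Z}
    (h : ∀ (T : 𝒞) (x : T ⟶ A) (y : T ⟶ B) (z : T ⟶ D),
      lift (lift x y) z ≫ a = lift (lift x y) z ≫ b) : a = b := by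
  have := h _ (fst _ _ ≫ fst _ _) (fst _ _ ≫ snd _ _) (snd _ _)
  rwa [lift_comp_fst_snd, lift_fst_snd, Category.id_comp, Category.id_comp] at this

lemma mono_snd_of_isPullback {P X Y Z : 𝒞} {p₁ : P ⟶ X} {p₂ : P ⟶ Y} {f : X ⟶ Z} {g : Y ⟶ Z}
    (hP : IsPullback p₁ p₂ f g) [Mono f] : Mono p₂ := by
  constructor
  intro W a b hab
  apply hP.hom_ext _ hab
  rw [← cancel_mono f, Category.assoc, Category.assoc, hP.w, ← Category.assoc, ← Category.assoc,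
    hab]

section grp
variable {G : 𝒞} [GrpObj G]

lemma lift_mul {T : 𝒞} (x y : T ⟶ G) : lift x y ≫ μ = x * y := (Hom.mul_def x y).symm

lemma comp_mul' {T : 𝒞} (g : T ⟶ G ⊗ G) : g ≫ μ = (g ≫ fst _ _) * (g ≫ snd _ _) := by
  rw [Hom.mul_def, lift_comp_fst_snd]

lemma comp_one_eq {T : 𝒞} (x : T ⟶ 𝟙_ 𝒞) : x ≫ η = (1 : T ⟶ G) := by
  rw [Hom.one_def, toUnit_unique x (toUnit T)]

end grp

section quot
variable {H G Q : 𝒞} [GrpObj H] [GrpObj G]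

lemma lift_whisker_mul (u : H ⟶ G) {T : 𝒞} (x : T ⟶ G) (h : T ⟶ H) :
    lift x h ≫ (G ◁ u) ≫ μ = x * (h ≫ u) := by
  rw [lift_whiskerLeft_assoc, Hom.mul_def]

lemma comp_p₂ (u : H ⟶ G) {T : 𝒞} (f : T ⟶ G ⊗ H) :
    f ≫ (G ◁ u) ≫ μ = (f ≫ fst G H) * ((f ≫ snd G H) ≫ u) := by
  rw [← lift_whisker_mul, lift_comp_fst_snd]

lemma eq_of_mul {u : H ⟶ G} {π : G ⟶ Q} (hK : IsKernelPair π (fst G H) ((G ◁ u) ≫ μ))
    {T : 𝒞} (x : T ⟶ G) (h : T ⟶ H) : (x * (h ≫ u)) ≫ π = x ≫ π := by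
  have e1 : (x * (h ≫ u)) ≫ π = lift x h ≫ (((G ◁ u) ≫ μ) ≫ π) := by
    rw [← lift_whisker_mul u x h, Category.assoc]
  rw [e1, ← hK.w, lift_fst_assoc]

lemma exists_of_eq {u : H ⟶ G} {π : G ⟶ Q} (hK : IsKernelPair π (fst G H) ((G ◁ u) ≫ μ))
    {T : 𝒞} (x y : T ⟶ G) (hxy : x ≫ π = y ≫ π) : ∃ h : T ⟶ H, y = x * (h ≫ u) := by
  obtain ⟨l, h1, h2⟩ := IsPullback.exists_lift hK x y hxy
  refine ⟨l ≫ snd G H, ?_⟩
  rw [← h2, comp_p₂ u l, h1]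

/-! ### The equivalence relation `G × H ⇉ G` -/

theorem isEquivalenceRelation [HasPullbacks 𝒞] (u : H ⟶ G) [IsMonHom u] [Mono u] :
    IsEquivalenceRelation (fst G H) ((G ◁ u) ≫ μ) := by
  obtain ⟨c, ⟨hc⟩⟩ : ∃ c : PullbackCone ((G ◁ u) ≫ μ) (fst G H), Nonempty (IsLimit c) :=
    ⟨pullback.cone _ _, ⟨pullback.isLimit _ _⟩⟩
  have p₂_eq : (G ◁ u) ≫ μ = fst G H * (snd G H ≫ u) := by
    rw [← lift_whisker_mul, lift_fst_snd, Category.id_comp]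
  refine ⟨⟨{
    right_cancellation := ?_
    r := lift (𝟙 G) 1
    reflexivity₁ := ?_
    reflexivity₂ := ?_
    s := lift ((G ◁ u) ≫ μ) (snd G H)⁻¹
    symmetry₁ := ?_
    symmetry₂ := ?_
    c := c
    isLimit := hc
    t := lift (c.fst ≫ fst G H) ((c.fst ≫ snd G H) * (c.snd ≫ snd G H))
    transitivity₁ := ?_
    transitivity₂ := ?_ }⟩⟩
  · intro Y f g h1 h2
    rw [comp_p₂ u f, comp_p₂ u g, h1] at h2
    have h3 := (cancel_mono u).1 (mul_left_cancel h2)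
    exact CartesianMonoidalCategory.hom_ext _ _ h1 h3
  · rw [lift_fst]
  · rw [lift_whisker_mul, MonObj.one_comp, _root_.mul_one]
  · rw [lift_fst]
  · rw [lift_whisker_mul, GrpObj.inv_comp, p₂_eq, mul_inv_cancel_right]
  · rw [lift_fst]
  · have hcc : c.fst ≫ (G ◁ u) ≫ μ = c.snd ≫ fst G H := c.condition
    rw [lift_whisker_mul, comp_p₂ u c.snd, ← hcc, comp_p₂ u c.fst, MonObj.mul_comp _ _ u,
      _root_.mul_assoc]

/-- The quotient map is the kernel pair of `G × H ⇉ G`. -/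
theorem isKernelPair_coequalizer (hE : Exact 𝒞) [HasPullbacks 𝒞] (u : H ⟶ G) [IsMonHom u] [Mono u]
    [HasCoequalizer (fst G H) ((G ◁ u) ≫ μ)] :
    IsKernelPair (coequalizer.π (fst G H) ((G ◁ u) ≫ μ)) (fst G H) ((G ◁ u) ≫ μ) := by
  obtain ⟨B, π, hπ⟩ := hE.kernelPair _ _ (isEquivalenceRelation u)
  have hfac : coequalizer.π (fst G H) ((G ◁ u) ≫ μ) ≫ coequalizer.desc π hπ.w = π :=
    coequalizer.π_desc _ _
  apply IsKernelPair.cancel_right (coequalizer.condition _ _) (f₂ := coequalizer.desc π hπ.w)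
  rw [hfac]
  exact hπ

/-! ### The action of `G` on `G/H` -/

lemma act_wd {u : H ⟶ G} {π : G ⟶ Q} (hK : IsKernelPair π (fst G H) ((G ◁ u) ≫ μ))
    {Z : 𝒞} (g₁ g₂ : Z ⟶ G ⊗ G) (hg : g₁ ≫ (G ◁ π) = g₂ ≫ (G ◁ π)) :
    g₁ ≫ μ ≫ π = g₂ ≫ μ ≫ π := by
  have h1 : g₁ ≫ fst G G = g₂ ≫ fst G G := by
    have := congrArg (· ≫ fst G Q) hg
    simpa only [Category.assoc, whiskerLeft_fst] using this
  have h2 : (g₁ ≫ snd G G) ≫ π = (g₂ ≫ snd G G) ≫ π := by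
    have := congrArg (· ≫ snd G Q) hg
    simpa only [Category.assoc, whiskerLeft_snd] using this
  obtain ⟨h, hh⟩ := exists_of_eq hK _ _ h2
  calc g₁ ≫ μ ≫ π = ((g₁ ≫ fst G G) * (g₁ ≫ snd G G)) ≫ π := by
        rw [← comp_mul', Category.assoc]
    _ = (((g₁ ≫ fst G G) * (g₁ ≫ snd G G)) * (h ≫ u)) ≫ π := (eq_of_mul hK _ h).symm
    _ = ((g₂ ≫ fst G G) * (g₂ ≫ snd G G)) ≫ π := by rw [_root_.mul_assoc, ← hh, h1]
    _ = g₂ ≫ μ ≫ π := by rw [← comp_mul', Category.assoc]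

theorem action_existsUnique (hE : Exact 𝒞) {u : H ⟶ G} {π : G ⟶ Q} [Epi π]
    (hK : IsKernelPair π (fst G H) ((G ◁ u) ≫ μ)) :
    ∃! act : G ⊗ Q ⟶ Q, (η ▷ Q) ≫ act = (λ_ Q).hom ∧
      (μ ▷ Q) ≫ act = (α_ G G Q).hom ≫ (G ◁ act) ≫ act ∧
      μ ≫ π = (G ◁ π) ≫ act := by
  have e3 := hE.epi_whiskerLeft G π
  have e4 := hE.effective (G ◁ π)
  obtain ⟨act, hact⟩ : ∃ act : G ⊗ Q ⟶ Q, (G ◁ π) ≫ act = μ ≫ π :=
    ⟨EffectiveEpi.desc (G ◁ π) (μ ≫ π) (fun g₁ g₂ hg => act_wd hK g₁ g₂ hg),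
      EffectiveEpi.fac _ _ _⟩
  have key : ∀ {T : 𝒞} (a y : T ⟶ G), lift a (y ≫ π) ≫ act = (a * y) ≫ π := by
    intro T a y
    rw [← lift_whiskerLeft, Category.assoc, hact, ← Category.assoc, lift_mul]
  have e1 := hE.epi_whiskerLeft (𝟙_ 𝒞) π
  have e2 := hE.epi_whiskerLeft (G ⊗ G) π
  refine ⟨act, ⟨?_, ?_, hact.symm⟩, ?_⟩
  · rw [← cancel_epi (𝟙_ 𝒞 ◁ π)]
    apply ext_elem₂
    intro T x y
    have L : lift x y ≫ (𝟙_ 𝒞 ◁ π) ≫ (η ▷ Q) ≫ act = y ≫ π := by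
      rw [lift_whiskerLeft_assoc, lift_whiskerRight_assoc, key, comp_one_eq, _root_.one_mul]
    have R : lift x y ≫ (𝟙_ 𝒞 ◁ π) ≫ (λ_ Q).hom = y ≫ π := by
      rw [lift_whiskerLeft_assoc, lift_leftUnitor_hom]
    rw [L, R]
  · rw [← cancel_epi ((G ⊗ G) ◁ π)]
    apply ext_elem₃
    intro T x y z
    have L : lift (lift x y) z ≫ ((G ⊗ G) ◁ π) ≫ (μ ▷ Q) ≫ act = ((x * y) * z) ≫ π := by
      rw [lift_whiskerLeft_assoc, lift_whiskerRight_assoc, lift_mul, key]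
    have R : lift (lift x y) z ≫ ((G ⊗ G) ◁ π) ≫ (α_ G G Q).hom ≫ (G ◁ act) ≫ act =
        (x * (y * z)) ≫ π := by
      rw [lift_whiskerLeft_assoc, lift_lift_associator_hom_assoc, lift_whiskerLeft_assoc, key, key]
    rw [L, R, _root_.mul_assoc]
  · rintro act' ⟨-, -, h3⟩
    rw [← cancel_epi (G ◁ π), ← h3, hact]

/-! ### Second isomorphism theorem: the kernel pair of `L ⟶ G ⟶ G/H` -/

theorem kernelPair_inter {u : H ⟶ G} {π : G ⟶ Q} [Mono u]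
    (hK : IsKernelPair π (fst G H) ((G ◁ u) ≫ μ))
    {L P : 𝒞} [GrpObj L] (l : L ⟶ G) [IsMonHom l]
    {p₁ : P ⟶ H} {p₂ : P ⟶ L} (hP : IsPullback p₁ p₂ u l) :
    IsKernelPair (l ≫ π) (fst L P) ((L ◁ p₂) ≫ μ) := by
  have hmul : ∀ {T : 𝒞} (x : T ⟶ L) (z : T ⟶ P), lift x z ≫ (L ◁ p₂) ≫ μ = x * (z ≫ p₂) := by
    intro T x z; rw [lift_whiskerLeft_assoc, lift_mul]
  have : Mono p₂ := mono_snd_of_isPullback hP
  refine IsPullback.mk' ?_ ?_ ?_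
  · apply ext_elem₂
    intro T x z
    calc lift x z ≫ fst L P ≫ l ≫ π = (x ≫ l) ≫ π := by rw [lift_fst_assoc, Category.assoc]
      _ = ((x ≫ l) * ((z ≫ p₁) ≫ u)) ≫ π := (eq_of_mul hK _ _).symm
      _ = ((x * (z ≫ p₂)) ≫ l) ≫ π := by
          rw [MonObj.mul_comp x (z ≫ p₂) l, Category.assoc z p₂ l, ← hP.w, Category.assoc z p₁ u]
      _ = lift x z ≫ ((L ◁ p₂) ≫ μ) ≫ l ≫ π := by
          rw [← hmul x z]; simp only [Category.assoc]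
  · intro T φ φ' h1 h2
    have e1 : φ ≫ ((L ◁ p₂) ≫ μ) = (φ ≫ fst L P) * ((φ ≫ snd L P) ≫ p₂) := by
      rw [← hmul, lift_comp_fst_snd]
    have e2 : φ' ≫ ((L ◁ p₂) ≫ μ) = (φ' ≫ fst L P) * ((φ' ≫ snd L P) ≫ p₂) := by
      rw [← hmul, lift_comp_fst_snd]
    rw [e1, e2, h1] at h2
    have hz := (cancel_mono p₂).1 (mul_left_cancel h2)
    exact CartesianMonoidalCategory.hom_ext _ _ h1 hz
  · intro T a b hab
    have hab' : (a ≫ l) ≫ π = (b ≫ l) ≫ π := by simpa only [Category.assoc] using hab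
    obtain ⟨h, hh⟩ := exists_of_eq hK _ _ hab'
    have hw : h ≫ u = (a⁻¹ * b) ≫ l := by
      rw [MonObj.mul_comp a⁻¹ b l, GrpObj.inv_comp a l, hh, inv_mul_cancel_left]
    refine ⟨lift a (hP.lift h (a⁻¹ * b) hw), by rw [lift_fst], ?_⟩
    rw [hmul, hP.lift_snd, mul_inv_cancel_left]

/-! ### The group structure on `G/H` for `H` normal -/

lemma mul_wd {u : H ⟶ G} [IsMonHom u] {π : G ⟶ Q}
    (hK : IsKernelPair π (fst G H) ((G ◁ u) ≫ μ))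
    (hn : ∀ (Y : 𝒞) (g : Y ⟶ G) (h : Y ⟶ H), ∃ h' : Y ⟶ H, g * (h ≫ u) * g⁻¹ = h' ≫ u)
    {Z : 𝒞} (g₁ g₂ : Z ⟶ G ⊗ G) (hg : g₁ ≫ (π ⊗ₘ π) = g₂ ≫ (π ⊗ₘ π)) :
    g₁ ≫ μ ≫ π = g₂ ≫ μ ≫ π := by
  have h1 : (g₁ ≫ fst G G) ≫ π = (g₂ ≫ fst G G) ≫ π := by
    have := congrArg (· ≫ fst Q Q) hg
    simpa only [Category.assoc, tensorHom_fst] using this
  have h2 : (g₁ ≫ snd G G) ≫ π = (g₂ ≫ snd G G) ≫ π := by
    have := congrArg (· ≫ snd Q Q) hg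
    simpa only [Category.assoc, tensorHom_snd] using this
  obtain ⟨h, hh⟩ := exists_of_eq hK _ _ h1
  obtain ⟨k, hk⟩ := exists_of_eq hK _ _ h2
  obtain ⟨h', hh'⟩ := hn _ (g₁ ≫ snd G G)⁻¹ h
  have key : (g₂ ≫ fst G G) * (g₂ ≫ snd G G) =
      ((g₁ ≫ fst G G) * (g₁ ≫ snd G G)) * ((h' * k) ≫ u) := by
    rw [MonObj.mul_comp h' k u, ← hh', hh, hk, inv_inv]
    group
  calc g₁ ≫ μ ≫ π = ((g₁ ≫ fst G G) * (g₁ ≫ snd G G)) ≫ π := by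
        rw [← comp_mul', Category.assoc]
    _ = (((g₁ ≫ fst G G) * (g₁ ≫ snd G G)) * ((h' * k) ≫ u)) ≫ π := (eq_of_mul hK _ _).symm
    _ = ((g₂ ≫ fst G G) * (g₂ ≫ snd G G)) ≫ π := by rw [key]
    _ = g₂ ≫ μ ≫ π := by rw [← comp_mul', Category.assoc]

lemma inv_wd {u : H ⟶ G} [IsMonHom u] {π : G ⟶ Q}
    (hK : IsKernelPair π (fst G H) ((G ◁ u) ≫ μ))
    (hn : ∀ (Y : 𝒞) (g : Y ⟶ G) (h : Y ⟶ H), ∃ h' : Y ⟶ H, g * (h ≫ u) * g⁻¹ = h' ≫ u)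
    {Z : 𝒞} (g₁ g₂ : Z ⟶ G) (hg : g₁ ≫ π = g₂ ≫ π) : g₁ ≫ ι ≫ π = g₂ ≫ ι ≫ π := by
  obtain ⟨h, hh⟩ := exists_of_eq hK _ _ hg
  obtain ⟨h', hh'⟩ := hn _ g₁ h⁻¹
  have key : g₂⁻¹ = g₁⁻¹ * (h' ≫ u) := by
    rw [← hh', hh, GrpObj.inv_comp h u]
    group
  calc g₁ ≫ ι ≫ π = g₁⁻¹ ≫ π := by rw [Hom.inv_def, Category.assoc]
    _ = (g₁⁻¹ * (h' ≫ u)) ≫ π := (eq_of_mul hK _ _).symm
    _ = g₂⁻¹ ≫ π := by rw [key]
    _ = g₂ ≫ ι ≫ π := by rw [Hom.inv_def, Category.assoc]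

theorem exists_grpObj (hE : Exact 𝒞) {u : H ⟶ G} [IsMonHom u] {π : G ⟶ Q} [Epi π]
    (hK : IsKernelPair π (fst G H) ((G ◁ u) ≫ μ))
    (hn : ∀ (Y : 𝒞) (g : Y ⟶ G) (h : Y ⟶ H), ∃ h' : Y ⟶ H, g * (h ≫ u) * g⁻¹ = h' ≫ u) :
    ∃ str : GrpObj Q, @IsMonHom 𝒞 _ _ G Q _ str.toMonObj π := by
  have e1 := hE.epi_tensorHom π π
  have e2 := hE.effective (π ⊗ₘ π)
  have e3 := hE.effective π
  obtain ⟨mulQ, hmul⟩ : ∃ m : Q ⊗ Q ⟶ Q, (π ⊗ₘ π) ≫ m = μ ≫ π :=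
    ⟨EffectiveEpi.desc (π ⊗ₘ π) (μ ≫ π) (fun g₁ g₂ hg => mul_wd hK hn g₁ g₂ hg),
      EffectiveEpi.fac _ _ _⟩
  obtain ⟨invQ, hinv⟩ : ∃ i : Q ⟶ Q, π ≫ i = ι ≫ π :=
    ⟨EffectiveEpi.desc π (ι ≫ π) (fun g₁ g₂ hg => inv_wd hK hn g₁ g₂ hg),
      EffectiveEpi.fac _ _ _⟩
  have key : ∀ {T : 𝒞} (a b : T ⟶ G), lift (a ≫ π) (b ≫ π) ≫ mulQ = (a * b) ≫ π := by
    intro T a b
    rw [← lift_map, Category.assoc, hmul, ← Category.assoc, lift_mul]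
  have e4 := hE.epi_whiskerLeft (𝟙_ 𝒞) π
  have e5 := hE.epi_whiskerRight π (𝟙_ 𝒞)
  have e6 := hE.epi_tensorHom (π ⊗ₘ π) π
  refine ⟨{ one := η ≫ π, mul := mulQ, one_mul := ?_, mul_one := ?_, mul_assoc := ?_,
            inv := invQ, left_inv := ?_, right_inv := ?_ }, ?_⟩
  · rw [← cancel_epi (𝟙_ 𝒞 ◁ π)]
    apply ext_elem₂
    intro T x y
    have L : lift x y ≫ (𝟙_ 𝒞 ◁ π) ≫ ((η ≫ π) ▷ Q) ≫ mulQ = y ≫ π := by
      rw [lift_whiskerLeft_assoc, lift_whiskerRight_assoc, ← Category.assoc x, key, comp_one_eq,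
        _root_.one_mul]
    have R : lift x y ≫ (𝟙_ 𝒞 ◁ π) ≫ (λ_ Q).hom = y ≫ π := by
      rw [lift_whiskerLeft_assoc, lift_leftUnitor_hom]
    rw [L, R]
  · rw [← cancel_epi (π ▷ 𝟙_ 𝒞)]
    apply ext_elem₂
    intro T x y
    have L : lift x y ≫ (π ▷ 𝟙_ 𝒞) ≫ (Q ◁ (η ≫ π)) ≫ mulQ = x ≫ π := by
      rw [lift_whiskerRight_assoc, lift_whiskerLeft_assoc, ← Category.assoc y, key, comp_one_eq,
        _root_.mul_one]
    have R : lift x y ≫ (π ▷ 𝟙_ 𝒞) ≫ (ρ_ Q).hom = x ≫ π := by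
      rw [lift_whiskerRight_assoc, lift_rightUnitor_hom]
    rw [L, R]
  · rw [← cancel_epi ((π ⊗ₘ π) ⊗ₘ π)]
    apply ext_elem₃
    intro T x y z
    have L : lift (lift x y) z ≫ ((π ⊗ₘ π) ⊗ₘ π) ≫ (mulQ ▷ Q) ≫ mulQ = ((x * y) * z) ≫ π := by
      simp only [lift_map_assoc, lift_map, lift_whiskerRight_assoc, key]
    have R : lift (lift x y) z ≫ ((π ⊗ₘ π) ⊗ₘ π) ≫ (α_ Q Q Q).hom ≫ (Q ◁ mulQ) ≫ mulQ =
        (x * (y * z)) ≫ π := by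
      simp only [lift_map_assoc, lift_map, lift_lift_associator_hom_assoc,
        lift_whiskerLeft_assoc, key]
    rw [L, R, _root_.mul_assoc]
  · rw [← cancel_epi π, comp_lift_assoc, hinv, Category.comp_id, comp_toUnit_assoc]
    have h1 : lift (ι ≫ π) π ≫ mulQ = ((ι : G ⟶ G) * 𝟙 G) ≫ π := by
      rw [← key, Category.id_comp]
    rw [h1, GrpObj.inv_eq_inv, inv_mul_cancel, Hom.one_def, Category.assoc]
  · rw [← cancel_epi π, comp_lift_assoc, hinv, Category.comp_id, comp_toUnit_assoc]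
    have h1 : lift π (ι ≫ π) ≫ mulQ = (𝟙 G * (ι : G ⟶ G)) ≫ π := by
      rw [← key, Category.id_comp]
    rw [h1, GrpObj.inv_eq_inv, mul_inv_cancel, Hom.one_def, Category.assoc]
  · refine @IsMonHom.mk 𝒞 _ _ G Q _ ?_ π ?_ ?_
    · rfl
    · exact hmul.symm

theorem grpObj_unique (hE : Exact 𝒞) {π : G ⟶ Q} [Epi π] (s₁ s₂ : GrpObj Q)
    (h₁ : @IsMonHom 𝒞 _ _ G Q _ s₁.toMonObj π) (h₂ : @IsMonHom 𝒞 _ _ G Q _ s₂.toMonObj π) :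
    s₁ = s₂ := by
  have := hE.epi_tensorHom π π
  apply GrpObj.ext
  apply MonObj.ext
  rw [← cancel_epi (π ⊗ₘ π)]
  have e₁ := @IsMonHom.mul_hom 𝒞 _ _ G Q _ s₁.toMonObj π h₁
  have e₂ := @IsMonHom.mul_hom 𝒞 _ _ G Q _ s₂.toMonObj π h₂
  rw [← e₁, ← e₂]

theorem grpObj_existsUnique (hE : Exact 𝒞) {u : H ⟶ G} [IsMonHom u] {π : G ⟶ Q} [Epi π]
    (hK : IsKernelPair π (fst G H) ((G ◁ u) ≫ μ))
    (hn : ∀ (Y : 𝒞) (g : Y ⟶ G) (h : Y ⟶ H), ∃ h' : Y ⟶ H, g * (h ≫ u) * g⁻¹ = h' ≫ u) :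
    ∃! str : GrpObj Q, @IsMonHom 𝒞 _ _ G Q _ str.toMonObj π := by
  obtain ⟨str, hstr⟩ := exists_grpObj hE hK hn
  exact ⟨str, hstr, fun s hs => grpObj_unique hE s str hs hstr⟩

end quot

/-! ### Third isomorphism theorem -/

section third
variable {H K G Q₁ Q₂ Q₃ : 𝒞} [GrpObj H] [GrpObj K] [GrpObj G]

theorem third_iso (hE : Exact 𝒞) (h : H ⟶ K) (k : K ⟶ G) [IsMonHom h] [IsMonHom k] [Mono k]
    {π₁ : G ⟶ Q₁} {π₂ : K ⟶ Q₂} {π₃ : G ⟶ Q₃} [Epi π₁] [Epi π₂]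
    (hK₁ : IsKernelPair π₁ (fst G H) ((G ◁ (h ≫ k)) ≫ μ))
    (hK₂ : IsKernelPair π₂ (fst K H) ((K ◁ h) ≫ μ))
    (w₃ : fst G K ≫ π₃ = ((G ◁ k) ≫ μ) ≫ π₃) (hC₃ : IsColimit (Cofork.ofπ π₃ w₃))
    (act : Q₁ ⊗ Q₂ ⟶ Q₁) (hact : (π₁ ⊗ₘ π₂) ≫ act = (G ◁ k) ≫ μ ≫ π₁)
    (qbar : Q₁ ⟶ Q₃) (hq : π₁ ≫ qbar = π₃) :
    Mono (lift act (fst Q₁ Q₂)) ∧
    ∃ wq : fst Q₁ Q₂ ≫ qbar = act ≫ qbar, Nonempty (IsColimit (Cofork.ofπ qbar wq)) := by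
  have e12 := hE.epi_tensorHom π₁ π₂
  have hact' : ∀ {T : 𝒞} (x : T ⟶ G) (y : T ⟶ K),
      lift (x ≫ π₁) (y ≫ π₂) ≫ act = (x * (y ≫ k)) ≫ π₁ := by
    intro T x y
    rw [← lift_map, Category.assoc, hact, lift_whiskerLeft_assoc, ← Category.assoc, lift_mul]
  have wq : fst Q₁ Q₂ ≫ qbar = act ≫ qbar := by
    rw [← cancel_epi (π₁ ⊗ₘ π₂)]
    calc (π₁ ⊗ₘ π₂) ≫ fst Q₁ Q₂ ≫ qbar = fst G K ≫ π₃ := by rw [tensorHom_fst_assoc, hq]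
      _ = ((G ◁ k) ≫ μ) ≫ π₃ := w₃
      _ = ((π₁ ⊗ₘ π₂) ≫ act) ≫ qbar := by rw [hact, ← hq]; simp only [Category.assoc]
      _ = (π₁ ⊗ₘ π₂) ≫ act ≫ qbar := Category.assoc _ _ _
  have : Epi π₃ := by
    have := Cofork.IsColimit.epi hC₃
    rwa [Cofork.π_ofπ] at this
  have : Epi qbar := by
    have : Epi (π₁ ≫ qbar) := by rw [hq]; infer_instance
    exact epi_of_epi π₁ qbar
  refine ⟨?_, wq, ⟨?_⟩⟩
  · constructor
    intro T a b hab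
    have h1 : a ≫ act = b ≫ act := by
      have := congrArg (· ≫ fst Q₁ Q₁) hab
      simpa only [Category.assoc, lift_fst] using this
    have h2 : a ≫ fst Q₁ Q₂ = b ≫ fst Q₁ Q₂ := by
      have := congrArg (· ≫ snd Q₁ Q₁) hab
      simpa only [Category.assoc, lift_snd] using this
    apply CartesianMonoidalCategory.hom_ext _ _ h2
    obtain ⟨T₁, p₁, x₁, hp₁, e₁⟩ := hE.local_lift π₁ (a ≫ fst Q₁ Q₂)
    obtain ⟨T₂, p₂, y₂, hp₂, e₂⟩ := hE.local_lift π₂ (p₁ ≫ a ≫ snd Q₁ Q₂)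
    obtain ⟨T₃, p₃, y₃, hp₃, e₃⟩ := hE.local_lift π₂ (p₂ ≫ p₁ ≫ b ≫ snd Q₁ Q₂)
    have : Epi (p₂ ≫ p₁) := epi_comp p₂ p₁
    have : Epi (p₃ ≫ p₂ ≫ p₁) := epi_comp p₃ (p₂ ≫ p₁)
    obtain ⟨p, hp⟩ : ∃ p, p = p₃ ≫ p₂ ≫ p₁ := ⟨_, rfl⟩
    have : Epi p := by rw [hp]; infer_instance
    obtain ⟨x, hx⟩ : ∃ x, x = p₃ ≫ p₂ ≫ x₁ := ⟨_, rfl⟩
    obtain ⟨y, hy⟩ : ∃ y, y = p₃ ≫ y₂ := ⟨_, rfl⟩
    have ea : p ≫ a = lift (x ≫ π₁) (y ≫ π₂) := by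
      apply CartesianMonoidalCategory.hom_ext
      · rw [lift_fst, hx, hp]; simp only [Category.assoc, e₁]
      · rw [lift_snd, hy, hp]; simp only [Category.assoc, e₂]
    have eb : p ≫ b = lift (x ≫ π₁) (y₃ ≫ π₂) := by
      apply CartesianMonoidalCategory.hom_ext
      · rw [lift_fst, hx, hp]; simp only [Category.assoc, e₁, h2]
      · rw [lift_snd, hp]; simp only [Category.assoc, e₃]
    have hab' : (x * (y ≫ k)) ≫ π₁ = (x * (y₃ ≫ k)) ≫ π₁ := by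
      rw [← hact', ← hact', ← ea, ← eb, Category.assoc, Category.assoc, h1]
    obtain ⟨z, hz⟩ := exists_of_eq hK₁ _ _ hab'
    have hy₃ : y₃ = y * (z ≫ h) := by
      rw [← cancel_mono k, MonObj.mul_comp y (z ≫ h) k, Category.assoc]
      rw [_root_.mul_assoc] at hz
      exact mul_left_cancel hz
    rw [← cancel_epi p]
    calc p ≫ a ≫ snd Q₁ Q₂ = y ≫ π₂ := by rw [← Category.assoc, ea, lift_snd]
      _ = (y * (z ≫ h)) ≫ π₂ := (eq_of_mul hK₂ y z).symm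
      _ = y₃ ≫ π₂ := by rw [hy₃]
      _ = p ≫ b ≫ snd Q₁ Q₂ := by rw [← Category.assoc, eb, lift_snd]
  · apply Cofork.IsColimit.ofExistsUnique
    intro s
    have hs : fst G K ≫ (π₁ ≫ s.π) = ((G ◁ k) ≫ μ) ≫ (π₁ ≫ s.π) := by
      calc fst G K ≫ π₁ ≫ s.π = (π₁ ⊗ₘ π₂) ≫ fst Q₁ Q₂ ≫ s.π := by rw [tensorHom_fst_assoc]
        _ = (π₁ ⊗ₘ π₂) ≫ act ≫ s.π := by rw [s.condition]
        _ = ((G ◁ k) ≫ μ) ≫ π₁ ≫ s.π := by
            rw [← Category.assoc, hact]; simp only [Category.assoc]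
    refine ⟨Cofork.IsColimit.desc hC₃ (π₁ ≫ s.π) hs, ?_, ?_⟩
    · show qbar ≫ _ = s.π
      rw [← cancel_epi π₁, ← Category.assoc, hq]
      exact Cofork.IsColimit.π_desc' hC₃ _ hs
    · intro m hm
      have hm' : qbar ≫ m = s.π := hm
      apply Cofork.IsColimit.hom_ext hC₃
      rw [Cofork.IsColimit.π_desc' hC₃ _ hs]
      show π₃ ≫ m = π₁ ≫ s.π
      rw [← hq, Category.assoc, hm']

end third

end Groth.Agent.H30.ShQuot
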