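import Groth.Agent.H30.ShQuot
import Mathlib.CategoryTheory.Subobject.Basic
import Mathlib.CategoryTheory.Subobject.FactorThru

/-!
# Subobjects and quotients in an abstract "exact" category; subgroup correspondence
-/

set_option autoImplicit false
universe v u

namespace Groth.Agent.H30.ShQuot

open CategoryTheory Limits MonoidalCategory CartesianMonoidalCategory MonObj

section general
variable {𝒞 : Type u} [Category.{v} 𝒞]

lemma Exact.factor_of_epi (hE : Exact 𝒞) {T' T A Y : 𝒞} (p : T' ⟶ T) [Epi p] (m : A ⟶ Y)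
    [Mono m] (x : T ⟶ Y) (k : T' ⟶ A) (hk : k ≫ m = p ≫ x) : ∃ k' : T ⟶ A, k' ≫ m = x := by
  haveI := hE.effective p
  refine ⟨EffectiveEpi.desc p k (fun g₁ g₂ hg => ?_), ?_⟩
  · rw [← cancel_mono m, Category.assoc, Category.assoc, hk, ← Category.assoc,
      ← Category.assoc, hg]
  · rw [← cancel_epi p, EffectiveEpi.fac_assoc, hk]

lemma Exact.mono_of_kernel (hE : Exact 𝒞) {Y Q B : 𝒞} (q : Y ⟶ Q) [Epi q] (g : Q ⟶ B)
    (h : ∀ {T : 𝒞} (s t : T ⟶ Y), s ≫ q ≫ g = t ≫ q ≫ g → s ≫ q = t ≫ q) : Mono g := by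
  constructor
  intro T s t hst
  obtain ⟨T₁, p₁, s', hp₁, e₁⟩ := hE.local_lift q s
  obtain ⟨T₂, p₂, t', hp₂, e₂⟩ := hE.local_lift q (p₁ ≫ t)
  have h1 : (p₂ ≫ s') ≫ q ≫ g = t' ≫ q ≫ g := by
    rw [Category.assoc, ← Category.assoc s', e₁, ← Category.assoc t', e₂]
    simp only [Category.assoc, hst]
  have h2 := h _ _ h1
  rw [Category.assoc, e₁, e₂] at h2
  haveI : Epi (p₂ ≫ p₁) := epi_comp p₂ p₁
  rw [← cancel_epi (p₂ ≫ p₁)]
  simpa only [Category.assoc] using h2

lemma Exact.lift₂ (hE : Exact 𝒞) {G Q : 𝒞} (π : G ⟶ Q) [Epi π] {T : 𝒞} (x y : T ⟶ Q) :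
    ∃ (T' : 𝒞) (p : T' ⟶ T) (x' y' : T' ⟶ G), Epi p ∧ x' ≫ π = p ≫ x ∧ y' ≫ π = p ≫ y := by
  obtain ⟨T₁, p₁, x', hp₁, e₁⟩ := hE.local_lift π x
  obtain ⟨T₂, p₂, y', hp₂, e₂⟩ := hE.local_lift π (p₁ ≫ y)
  refine ⟨T₂, p₂ ≫ p₁, p₂ ≫ x', y', epi_comp p₂ p₁, ?_, ?_⟩
  · rw [Category.assoc, e₁, Category.assoc]
  · rw [e₂, Category.assoc]

lemma Exact.exists_image (hE : Exact 𝒞) [HasPullbacks 𝒞] [HasCoequalizers 𝒞] {Y B : 𝒞}
    (f : Y ⟶ B) : ∃ (I : 𝒞) (q : Y ⟶ I) (m : I ⟶ B), Epi q ∧ Mono m ∧ q ≫ m = f := by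
  refine ⟨coequalizer (pullback.fst f f) (pullback.snd f f), coequalizer.π _ _,
    coequalizer.desc f pullback.condition, inferInstance, ?_, coequalizer.π_desc _ _⟩
  apply hE.mono_of_kernel (coequalizer.π (pullback.fst f f) (pullback.snd f f))
  intro T s t hst
  rw [coequalizer.π_desc] at hst
  have e1 : pullback.lift s t hst ≫ pullback.fst f f = s := pullback.lift_fst _ _ _
  have e2 : pullback.lift s t hst ≫ pullback.snd f f = t := pullback.lift_snd _ _ _
  calc s ≫ coequalizer.π (pullback.fst f f) (pullback.snd f f)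
      = (pullback.lift s t hst ≫ pullback.fst f f) ≫
          coequalizer.π (pullback.fst f f) (pullback.snd f f) := by rw [e1]
    _ = (pullback.lift s t hst ≫ pullback.snd f f) ≫
          coequalizer.π (pullback.fst f f) (pullback.snd f f) := by
        rw [Category.assoc, coequalizer.condition, Category.assoc]
    _ = t ≫ coequalizer.π (pullback.fst f f) (pullback.snd f f) := by rw [e2]

/-! ### Subobjects via generalized elements -/

lemma factors_iff' {X Y : 𝒞} (P : Subobject Y) (f : X ⟶ Y) :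
    P.Factors f ↔ ∃ g : X ⟶ (P : 𝒞), g ≫ P.arrow = f :=
  ⟨fun h => ⟨P.factorThru f h, P.factorThru_arrow f h⟩,
    fun ⟨g, hg⟩ => hg ▸ Subobject.factors_comp_arrow g⟩

lemma mk_factors_iff' {X Y Z : 𝒞} (f : Y ⟶ X) [Mono f] (g : Z ⟶ X) :
    (Subobject.mk f).Factors g ↔ ∃ g' : Z ⟶ Y, g' ≫ f = g := Iff.rfl

lemma factors_pullback_iff [HasPullbacks 𝒞] {X Y T : 𝒞} (f : X ⟶ Y) (P : Subobject Y)
    (x : T ⟶ X) : ((Subobject.pullback f).obj P).Factors x ↔ P.Factors (x ≫ f) := by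
  have hP := Subobject.isPullback f P
  constructor
  · intro h
    obtain ⟨g, hg⟩ := (factors_iff' _ _).1 h
    rw [factors_iff']
    exact ⟨g ≫ Subobject.pullbackπ f P, by rw [Category.assoc, hP.w, ← Category.assoc, hg]⟩
  · intro h
    obtain ⟨g, hg⟩ := (factors_iff' _ _).1 h
    rw [factors_iff']
    exact ⟨hP.lift g x hg, hP.lift_snd _ _ _⟩

lemma subobject_ext {Y : 𝒞} {P Q : Subobject Y}
    (h : ∀ (T : 𝒞) (x : T ⟶ Y), P.Factors x ↔ Q.Factors x) : P = Q :=
  le_antisymm (Subobject.le_of_factors ((h _ _).1 (Subobject.factors_self P)))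
    (Subobject.le_of_factors ((h _ _).2 (Subobject.factors_self Q)))

theorem pullback_le_imp_le (hE : Exact 𝒞) [HasPullbacks 𝒞] {X B : 𝒞} (π : X ⟶ B) [Epi π]
    {A₁ A₂ : Subobject B}
    (h : (Subobject.pullback π).obj A₁ ≤ (Subobject.pullback π).obj A₂) : A₁ ≤ A₂ := by
  apply Subobject.le_of_factors
  obtain ⟨T', p, a, hp, ha⟩ := hE.local_lift π A₁.arrow
  have h1 : ((Subobject.pullback π).obj A₁).Factors a := by
    rw [factors_pullback_iff, ha]
    exact Subobject.factors_of_factors_right _ (Subobject.factors_self A₁)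
  have h2 := Subobject.factors_of_le a h h1
  rw [factors_pullback_iff, ha] at h2
  obtain ⟨k, hk⟩ := (factors_iff' _ _).1 h2
  obtain ⟨k', hk'⟩ := hE.factor_of_epi p A₂.arrow A₁.arrow k hk
  exact (factors_iff' _ _).2 ⟨k', hk'⟩

theorem pullback_injective (hE : Exact 𝒞) [HasPullbacks 𝒞] {X B : 𝒞} (π : X ⟶ B) [Epi π] :
    Function.Injective (Subobject.pullback π).obj := by
  intro A₁ A₂ h
  exact le_antisymm (pullback_le_imp_le hE π (le_of_eq h)) (pullback_le_imp_le hE π (le_of_eq h.symm))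

theorem range_pullback (hE : Exact 𝒞) [HasPullbacks 𝒞] [HasCoequalizers 𝒞] {R X B : 𝒞}
    {p₁ p₂ : R ⟶ X} {π : X ⟶ B} (hK : IsKernelPair π p₁ p₂) :
    Set.range (Subobject.pullback π).obj =
      {Y : Subobject X | (Subobject.pullback p₁).obj Y = (Subobject.pullback p₂).obj Y} := by
  ext Y
  constructor
  · rintro ⟨A, rfl⟩
    show (Subobject.pullback p₁).obj ((Subobject.pullback π).obj A) =
      (Subobject.pullback p₂).obj ((Subobject.pullback π).obj A)
    rw [← Subobject.pullback_comp, ← Subobject.pullback_comp, hK.w]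
  · intro hY
    have hY' : (Subobject.pullback p₁).obj Y = (Subobject.pullback p₂).obj Y := hY
    obtain ⟨I, q, m, hq, hm, hfac⟩ := hE.exists_image (Y.arrow ≫ π)
    refine ⟨Subobject.mk m, ?_⟩
    apply subobject_ext
    intro T x
    rw [factors_pullback_iff, mk_factors_iff']
    constructor
    · rintro ⟨i, hi⟩
      obtain ⟨T', p, y, hp, hy⟩ := hE.local_lift q i
      have e1 : (y ≫ Y.arrow) ≫ π = (p ≫ x) ≫ π := by
        rw [Category.assoc, ← hfac, ← Category.assoc, hy, Category.assoc, hi, Category.assoc]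
      obtain ⟨r, hr1, hr2⟩ := IsPullback.exists_lift hK _ _ e1
      have h1 : ((Subobject.pullback p₁).obj Y).Factors r := by
        rw [factors_pullback_iff, hr1]
        exact Subobject.factors_comp_arrow y
      rw [hY', factors_pullback_iff, hr2] at h1
      obtain ⟨k, hk⟩ := (factors_iff' _ _).1 h1
      obtain ⟨k', hk'⟩ := hE.factor_of_epi p Y.arrow x k hk
      exact (factors_iff' _ _).2 ⟨k', hk'⟩
    · intro h
      obtain ⟨y, hy⟩ := (factors_iff' _ _).1 h
      exact ⟨y ≫ q, by rw [Category.assoc, hfac, ← Category.assoc, hy]⟩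

/-- `S5226`: the induced map on quotients of a subobject is mono. -/
theorem mono_quotient_of_sub (hE : Exact 𝒞) [HasPullbacks 𝒞] {R X Y B : 𝒞} {p₁ p₂ : R ⟶ X}
    {π : X ⟶ B} (hK : IsKernelPair π p₁ p₂) (j : Y ⟶ X)
    [HasCoequalizer (pullback.fst (pullback.fst p₁ j ≫ p₂) j ≫ pullback.snd p₁ j)
      (pullback.snd (pullback.fst p₁ j ≫ p₂) j)]
    (g : coequalizer (pullback.fst (pullback.fst p₁ j ≫ p₂) j ≫ pullback.snd p₁ j)
      (pullback.snd (pullback.fst p₁ j ≫ p₂) j) ⟶ B)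
    (hg : coequalizer.π _ _ ≫ g = j ≫ π) : Mono g := by
  apply hE.mono_of_kernel (coequalizer.π
    (pullback.fst (pullback.fst p₁ j ≫ p₂) j ≫ pullback.snd p₁ j)
    (pullback.snd (pullback.fst p₁ j ≫ p₂) j))
  intro T s t hst
  rw [hg] at hst
  have hst' : (s ≫ j) ≫ π = (t ≫ j) ≫ π := by simpa only [Category.assoc] using hst
  obtain ⟨r, hr1, hr2⟩ := IsPullback.exists_lift hK _ _ hst'
  have w1 : pullback.lift r s hr1 ≫ pullback.fst p₁ j ≫ p₂ = t ≫ j := by
    rw [pullback.lift_fst_assoc, hr2]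
  have e1 : pullback.lift (pullback.lift r s hr1) t w1 ≫
      (pullback.fst (pullback.fst p₁ j ≫ p₂) j ≫ pullback.snd p₁ j) = s := by
    rw [pullback.lift_fst_assoc, pullback.lift_snd]
  have e2 : pullback.lift (pullback.lift r s hr1) t w1 ≫
      pullback.snd (pullback.fst p₁ j ≫ p₂) j = t := pullback.lift_snd _ _ _
  have hc := coequalizer.condition
    (pullback.fst (pullback.fst p₁ j ≫ p₂) j ≫ pullback.snd p₁ j)
    (pullback.snd (pullback.fst p₁ j ≫ p₂) j)
  calc s ≫ coequalizer.π _ _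
      = (pullback.lift (pullback.lift r s hr1) t w1 ≫
        (pullback.fst (pullback.fst p₁ j ≫ p₂) j ≫ pullback.snd p₁ j)) ≫ coequalizer.π _ _ := by
        rw [e1]
    _ = (pullback.lift (pullback.lift r s hr1) t w1 ≫
        pullback.snd (pullback.fst p₁ j ≫ p₂) j) ≫ coequalizer.π _ _ := by
        rw [Category.assoc, hc, Category.assoc]
    _ = t ≫ coequalizer.π _ _ := by rw [e2]

end general

/-! ### Subgroup objects -/

section subgroup
variable {𝒞 : Type u} [Category.{v} 𝒞] [CartesianMonoidalCategory 𝒞]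

/-- Generalized-element subgroup predicate on a subobject of a group object. -/
structure IsSubgrp {G : 𝒞} [GrpObj G] (P : Subobject G) : Prop where
  mul : ∀ {T : 𝒞} (x y : T ⟶ G), P.Factors x → P.Factors y → P.Factors (x * y)
  inv : ∀ {T : 𝒞} (x : T ⟶ G), P.Factors x → P.Factors x⁻¹
  one : ∀ (T : 𝒞), P.Factors (1 : T ⟶ G)

variable {G : 𝒞} [GrpObj G]

lemma isSubgrp_of_str (P : Subobject G) [GrpObj (P : 𝒞)] [IsMonHom P.arrow] : IsSubgrp P := by
  refine ⟨?_, ?_, ?_⟩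
  · intro T x y hx hy
    obtain ⟨x', rfl⟩ := (factors_iff' _ _).1 hx
    obtain ⟨y', rfl⟩ := (factors_iff' _ _).1 hy
    rw [← MonObj.mul_comp x' y' P.arrow]
    exact Subobject.factors_comp_arrow _
  · intro T x hx
    obtain ⟨x', rfl⟩ := (factors_iff' _ _).1 hx
    rw [← GrpObj.inv_comp x' P.arrow]
    exact Subobject.factors_comp_arrow _
  · intro T
    rw [← MonObj.one_comp (X := T) P.arrow]
    exact Subobject.factors_comp_arrow _

theorem exists_grpObj_of_closed {A : 𝒞} (a : A ⟶ G) [Mono a]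
    (hmul : ∀ {T : 𝒞} (x y : T ⟶ A), ∃ z : T ⟶ A, z ≫ a = (x ≫ a) * (y ≫ a))
    (hinv : ∀ {T : 𝒞} (x : T ⟶ A), ∃ z : T ⟶ A, z ≫ a = (x ≫ a)⁻¹)
    (hone : ∃ e : 𝟙_ 𝒞 ⟶ A, e ≫ a = η) :
    ∃ str : GrpObj A, @IsMonHom 𝒞 _ _ A G str.toMonObj _ a := by
  obtain ⟨mulA, hm⟩ := hmul (fst A A) (snd A A)
  obtain ⟨invA, hi⟩ := hinv (𝟙 A)
  obtain ⟨oneA, ho⟩ := hone
  have key : ∀ {T : 𝒞} (s t : T ⟶ A), lift s t ≫ mulA ≫ a = (s ≫ a) * (t ≫ a) := by
    intro T s t
    rw [hm, MonObj.comp_mul, lift_fst_assoc, lift_snd_assoc]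
  have keyi : ∀ {T : 𝒞} (s : T ⟶ A), s ≫ invA ≫ a = (s ≫ a)⁻¹ := by
    intro T s
    rw [hi, Category.id_comp, GrpObj.comp_inv]
  have hi' : invA ≫ a = a⁻¹ := by rw [hi, Category.id_comp]
  refine ⟨{ one := oneA, mul := mulA, one_mul := ?_, mul_one := ?_, mul_assoc := ?_,
            inv := invA, left_inv := ?_, right_inv := ?_ }, ?_⟩
  · rw [← cancel_mono a]
    apply ext_elem₂
    intro T x y
    simp only [Category.assoc, lift_whiskerRight_assoc, lift_leftUnitor_hom_assoc, key, ho,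
      comp_one_eq, _root_.one_mul]
  · rw [← cancel_mono a]
    apply ext_elem₂
    intro T x y
    simp only [Category.assoc, lift_whiskerLeft_assoc, lift_rightUnitor_hom_assoc, key, ho,
      comp_one_eq, _root_.mul_one]
  · rw [← cancel_mono a]
    apply ext_elem₃
    intro T x y z
    simp only [Category.assoc, lift_whiskerRight_assoc, lift_whiskerLeft_assoc,
      lift_lift_associator_hom_assoc, key, _root_.mul_assoc]
  · rw [← cancel_mono a]
    simp only [Category.assoc, key, hi', Category.id_comp, inv_mul_cancel, ho, comp_one_eq]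
  · rw [← cancel_mono a]
    simp only [Category.assoc, key, hi', Category.id_comp, mul_inv_cancel, ho, comp_one_eq]
  · refine @IsMonHom.mk 𝒞 _ _ A G ?_ _ a ?_ ?_
    · exact ho
    · show mulA ≫ a = (a ⊗ₘ a) ≫ μ
      rw [hm, Hom.mul_def, lift_fst_comp_snd_comp]

theorem isSubgrp_iff (P : Subobject G) :
    (∃ str : GrpObj (P : 𝒞), @IsMonHom 𝒞 _ _ _ _ str.toMonObj _ P.arrow) ↔ IsSubgrp P := by
  constructor
  · rintro ⟨str, h⟩
    exact @isSubgrp_of_str 𝒞 _ _ G _ P str h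
  · intro h
    apply exists_grpObj_of_closed P.arrow
    · intro T x y
      obtain ⟨z, hz⟩ := (factors_iff' _ _).1
        (h.mul _ _ (Subobject.factors_comp_arrow x) (Subobject.factors_comp_arrow y))
      exact ⟨z, hz⟩
    · intro T x
      obtain ⟨z, hz⟩ := (factors_iff' _ _).1 (h.inv _ (Subobject.factors_comp_arrow x))
      exact ⟨z, hz⟩
    · obtain ⟨e, he⟩ := (factors_iff' _ _).1 (h.one (𝟙_ 𝒞))
      refine ⟨e, ?_⟩
      rw [he, Hom.one_def, toUnit_unique (toUnit (𝟙_ 𝒞)) (𝟙 _), Category.id_comp]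

lemma normal_form (P : Subobject G) :
    (∀ (Y : 𝒞) (g : Y ⟶ G) (k : Y ⟶ (P : 𝒞)),
      ∃ k' : Y ⟶ (P : 𝒞), g * (k ≫ P.arrow) * g⁻¹ = k' ≫ P.arrow) ↔
    (∀ (Y : 𝒞) (g x : Y ⟶ G), P.Factors x → P.Factors (g * x * g⁻¹)) := by
  constructor
  · intro h Y g x hx
    obtain ⟨k, rfl⟩ := (factors_iff' _ _).1 hx
    obtain ⟨k', hk'⟩ := h Y g k
    rw [hk']
    exact Subobject.factors_comp_arrow k'
  · intro h Y g k
    obtain ⟨k', hk'⟩ := (factors_iff' _ _).1 (h Y g _ (Subobject.factors_comp_arrow k))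
    exact ⟨k', hk'.symm⟩

end subgroup

/-! ### The correspondence between subgroups of `G/H` and subgroups of `G` containing `H` -/

section corr
variable {𝒞 : Type u} [Category.{v} 𝒞] [CartesianMonoidalCategory 𝒞]
variable {H G Q : 𝒞} [GrpObj H] [GrpObj G] [GrpObj Q] [HasPullbacks 𝒞]

lemma u_comp_π {u : H ⟶ G} {π : G ⟶ Q} [IsMonHom π]
    (hK : IsKernelPair π (fst G H) ((G ◁ u) ≫ μ)) : u ≫ π = 1 := by
  have := eq_of_mul hK (1 : H ⟶ G) (𝟙 H)
  rwa [Category.id_comp, _root_.one_mul, MonObj.one_comp π] at this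

lemma isSubgrp_pullback (π : G ⟶ Q) [IsMonHom π] {K' : Subobject Q} (h : IsSubgrp K') :
    IsSubgrp ((Subobject.pullback π).obj K') := by
  refine ⟨?_, ?_, ?_⟩
  · intro T x y hx hy
    rw [factors_pullback_iff] at hx hy ⊢
    rw [MonObj.mul_comp x y π]
    exact h.mul _ _ hx hy
  · intro T x hx
    rw [factors_pullback_iff] at hx ⊢
    rw [GrpObj.inv_comp x π]
    exact h.inv _ hx
  · intro T
    rw [factors_pullback_iff, MonObj.one_comp π]
    exact h.one T

lemma isSubgrp_of_pullback (hE : Exact 𝒞) (π : G ⟶ Q) [Epi π] [IsMonHom π] {K' : Subobject Q}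
    (h : IsSubgrp ((Subobject.pullback π).obj K')) : IsSubgrp K' := by
  refine ⟨?_, ?_, ?_⟩
  · intro T x y hx hy
    obtain ⟨T', p, x', y', hp, ex, ey⟩ := hE.lift₂ π x y
    have hx' : ((Subobject.pullback π).obj K').Factors x' := by
      rw [factors_pullback_iff, ex]
      exact Subobject.factors_of_factors_right _ hx
    have hy' : ((Subobject.pullback π).obj K').Factors y' := by
      rw [factors_pullback_iff, ey]
      exact Subobject.factors_of_factors_right _ hy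
    have hm := h.mul _ _ hx' hy'
    rw [factors_pullback_iff, MonObj.mul_comp x' y' π, ex, ey, ← MonObj.comp_mul] at hm
    obtain ⟨k, hk⟩ := (factors_iff' _ _).1 hm
    obtain ⟨k', hk'⟩ := hE.factor_of_epi p K'.arrow (x * y) k hk
    exact (factors_iff' _ _).2 ⟨k', hk'⟩
  · intro T x hx
    obtain ⟨T', p, x', hp, ex⟩ := hE.local_lift π x
    have hx' : ((Subobject.pullback π).obj K').Factors x' := by
      rw [factors_pullback_iff, ex]
      exact Subobject.factors_of_factors_right _ hx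
    have hm := h.inv _ hx'
    rw [factors_pullback_iff, GrpObj.inv_comp x' π, ex, ← GrpObj.comp_inv] at hm
    obtain ⟨k, hk⟩ := (factors_iff' _ _).1 hm
    obtain ⟨k', hk'⟩ := hE.factor_of_epi p K'.arrow x⁻¹ k hk
    exact (factors_iff' _ _).2 ⟨k', hk'⟩
  · intro T
    have := h.one T
    rwa [factors_pullback_iff, MonObj.one_comp π] at this

lemma normal_pullback_iff (hE : Exact 𝒞) (π : G ⟶ Q) [Epi π] [IsMonHom π] (K' : Subobject Q) :
    (∀ (Y : 𝒞) (g x : Y ⟶ Q), K'.Factors x → K'.Factors (g * x * g⁻¹)) ↔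
    (∀ (Y : 𝒞) (g x : Y ⟶ G), ((Subobject.pullback π).obj K').Factors x →
      ((Subobject.pullback π).obj K').Factors (g * x * g⁻¹)) := by
  constructor
  · intro hN Y g x hx
    rw [factors_pullback_iff] at hx ⊢
    rw [MonObj.mul_comp (g * x) g⁻¹ π, MonObj.mul_comp g x π, GrpObj.inv_comp g π]
    exact hN _ _ _ hx
  · intro hN Y g x hx
    obtain ⟨T', p, g', x', hp, eg, ex⟩ := hE.lift₂ π g x
    have hx' : ((Subobject.pullback π).obj K').Factors x' := by
      rw [factors_pullback_iff, ex]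
      exact Subobject.factors_of_factors_right _ hx
    have hm := hN _ g' x' hx'
    rw [factors_pullback_iff, MonObj.mul_comp (g' * x') g'⁻¹ π, MonObj.mul_comp g' x' π,
      GrpObj.inv_comp g' π, eg, ex, ← GrpObj.comp_inv, ← MonObj.comp_mul, ← MonObj.comp_mul] at hm
    obtain ⟨k, hk⟩ := (factors_iff' _ _).1 hm
    obtain ⟨k', hk'⟩ := hE.factor_of_epi p K'.arrow (g * x * g⁻¹) k hk
    exact (factors_iff' _ _).2 ⟨k', hk'⟩

theorem correspondence (hE : Exact 𝒞) [HasCoequalizers 𝒞] {u : H ⟶ G} [Mono u] [IsMonHom u]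
    {π : G ⟶ Q} [Epi π] [hπ : IsMonHom π]
    (hK : IsKernelPair π (fst G H) ((G ◁ u) ≫ μ)) :
    Set.BijOn (Subobject.pullback π).obj
      {K' : Subobject Q | ∃ str : GrpObj (K' : 𝒞),
        @IsMonHom 𝒞 _ _ _ _ str.toMonObj _ K'.arrow}
      {K : Subobject G | Subobject.mk u ≤ K ∧ ∃ str : GrpObj (K : 𝒞),
        @IsMonHom 𝒞 _ _ _ _ str.toMonObj _ K.arrow} ∧
    ∀ (K' : Subobject Q) (str' : GrpObj (K' : 𝒞))
      (str : GrpObj ((Subobject.pullback π).obj K' : 𝒞)),
      @IsMonHom 𝒞 _ _ _ _ str'.toMonObj _ K'.arrow →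
      @IsMonHom 𝒞 _ _ _ _ str.toMonObj _ ((Subobject.pullback π).obj K').arrow →
      ((∀ (Y : 𝒞) (g : Y ⟶ Q) (k : Y ⟶ (K' : 𝒞)),
          ∃ k' : Y ⟶ (K' : 𝒞), g * (k ≫ K'.arrow) * g⁻¹ = k' ≫ K'.arrow) ↔
        (∀ (Y : 𝒞) (g : Y ⟶ G) (k : Y ⟶ ((Subobject.pullback π).obj K' : 𝒞)),
          ∃ k' : Y ⟶ ((Subobject.pullback π).obj K' : 𝒞),
            g * (k ≫ ((Subobject.pullback π).obj K').arrow) * g⁻¹ =
              k' ≫ ((Subobject.pullback π).obj K').arrow)) := by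
  refine ⟨⟨?_, ?_, ?_⟩, ?_⟩
  · -- MapsTo
    intro K' hK'
    have h' : IsSubgrp K' := (isSubgrp_iff K').1 hK'
    refine ⟨?_, (isSubgrp_iff _).2 (isSubgrp_pullback π h')⟩
    have hf : ((Subobject.pullback π).obj K').Factors u := by
      rw [factors_pullback_iff, u_comp_π hK]
      exact h'.one H
    obtain ⟨g, hg⟩ := (factors_iff' _ _).1 hf
    exact Subobject.mk_le_of_comm g hg
  · -- InjOn
    exact (pullback_injective hE π).injOn
  · -- SurjOn
    rintro K ⟨hHK, hKs⟩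
    have hK_sub : IsSubgrp K := (isSubgrp_iff K).1 hKs
    have hHu : ∀ {T : 𝒞} (h : T ⟶ H), K.Factors (h ≫ u) := fun h =>
      Subobject.factors_of_le (h ≫ u) hHK ((mk_factors_iff' u _).2 ⟨h, rfl⟩)
    have hst : (Subobject.pullback (fst G H)).obj K =
        (Subobject.pullback ((G ◁ u) ≫ μ)).obj K := by
      apply subobject_ext
      intro T r
      rw [factors_pullback_iff, factors_pullback_iff, comp_p₂ u r]
      constructor
      · intro hx
        exact hK_sub.mul _ _ hx (hHu _)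
      · intro hxy
        have := hK_sub.mul _ _ hxy (hK_sub.inv _ (hHu (r ≫ snd G H)))
        rwa [mul_inv_cancel_right] at this
    have hmem : K ∈ Set.range (Subobject.pullback π).obj := by
      rw [range_pullback hE hK]
      exact hst
    obtain ⟨K', rfl⟩ := hmem
    exact ⟨K', (isSubgrp_iff K').2 (isSubgrp_of_pullback hE π hK_sub), rfl⟩
  · intro K' _ _ _ _
    rw [normal_form K', normal_form ((Subobject.pullback π).obj K')]
    exact normal_pullback_iff hE π K'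

end corr

end Groth.Agent.H30.ShQuot
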