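import Groth.Agent.H30.ShQuot2

/-!
# Points of a quotient `X/R` with values in `Y` as stable subobjects of `X × Y`
-/

set_option autoImplicit false
universe v u

namespace Groth.Agent.H30.ShQuot

open CategoryTheory Limits MonoidalCategory CartesianMonoidalCategory

lemma Exact.epi_snd_of_isPullback {𝒞 : Type u} [Category.{v} 𝒞] (hE : Exact 𝒞) {P X' Y' Z : 𝒞}
    {a : P ⟶ X'} {b : P ⟶ Y'} {f : X' ⟶ Z} {g : Y' ⟶ Z} (h : IsPullback a b f g) [Epi f] :
    Epi b := by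
  constructor
  intro W s t hst
  obtain ⟨T', p, c, hp, hc⟩ := hE.local_lift f g
  have e : h.lift c p hc ≫ b = p := h.lift_snd _ _ _
  rw [← cancel_epi p, ← e, Category.assoc, Category.assoc, hst]

variable {𝒞 : Type u} [Category.{v} 𝒞] [CartesianMonoidalCategory 𝒞]

theorem points_quotient (hE : Exact 𝒞) [HasPullbacks 𝒞] {R X B : 𝒞} {p₁ p₂ : R ⟶ X}
    {π : X ⟶ B} [Epi π] (hK : IsKernelPair π p₁ p₂) (Y : 𝒞) :
    (∀ (Z : 𝒞) (j : Z ⟶ X ⊗ Y), Mono j →
      (∀ (W : 𝒞) (r : W ⟶ R) (y : W ⟶ Y),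
        (∃ z : W ⟶ Z, z ≫ j = lift (r ≫ p₁) y) ↔ (∃ z : W ⟶ Z, z ≫ j = lift (r ≫ p₂) y)) →
      Epi (j ≫ snd X Y) →
      (∀ (W : 𝒞) (z₁ z₂ : W ⟶ Z), z₁ ≫ j ≫ snd X Y = z₂ ≫ j ≫ snd X Y →
        ∃ r : W ⟶ R, r ≫ p₁ = z₁ ≫ j ≫ fst X Y ∧ r ≫ p₂ = z₂ ≫ j ≫ fst X Y) →
      ∃! f : Y ⟶ B, IsPullback (j ≫ fst X Y) (j ≫ snd X Y) π f) ∧
    (∀ f : Y ⟶ B, ∃ (Z : 𝒞) (j : Z ⟶ X ⊗ Y), Mono j ∧
      (∀ (W : 𝒞) (r : W ⟶ R) (y : W ⟶ Y),
        (∃ z : W ⟶ Z, z ≫ j = lift (r ≫ p₁) y) ↔ (∃ z : W ⟶ Z, z ≫ j = lift (r ≫ p₂) y)) ∧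
      Epi (j ≫ snd X Y) ∧
      (∀ (W : 𝒞) (z₁ z₂ : W ⟶ Z), z₁ ≫ j ≫ snd X Y = z₂ ≫ j ≫ snd X Y →
        ∃ r : W ⟶ R, r ≫ p₁ = z₁ ≫ j ≫ fst X Y ∧ r ≫ p₂ = z₂ ≫ j ≫ fst X Y) ∧
      IsPullback (j ≫ fst X Y) (j ≫ snd X Y) π f) := by
  constructor
  · intro Z j hj hstab hcov hrel
    haveI := hj
    haveI := hcov
    haveI := hE.effective (j ≫ snd X Y)
    have hwd : ∀ {W : 𝒞} (g₁ g₂ : W ⟶ Z), g₁ ≫ (j ≫ snd X Y) = g₂ ≫ (j ≫ snd X Y) →
        g₁ ≫ (j ≫ fst X Y) ≫ π = g₂ ≫ (j ≫ fst X Y) ≫ π := by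
      intro W g₁ g₂ hg
      obtain ⟨r, hr1, hr2⟩ := hrel W g₁ g₂ hg
      calc g₁ ≫ (j ≫ fst X Y) ≫ π = (r ≫ p₁) ≫ π := by rw [hr1]; simp only [Category.assoc]
        _ = (r ≫ p₂) ≫ π := by rw [Category.assoc, hK.w, Category.assoc]
        _ = g₂ ≫ (j ≫ fst X Y) ≫ π := by rw [hr2]; simp only [Category.assoc]
    obtain ⟨f, hf⟩ : ∃ f : Y ⟶ B, (j ≫ snd X Y) ≫ f = (j ≫ fst X Y) ≫ π :=
      ⟨EffectiveEpi.desc (j ≫ snd X Y) ((j ≫ fst X Y) ≫ π) (fun g₁ g₂ hg => hwd g₁ g₂ hg),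
        EffectiveEpi.fac _ _ _⟩
    refine ⟨f, ?_, ?_⟩
    · refine IsPullback.mk' hf.symm ?_ ?_
      · intro T φ φ' h1 h2
        rw [← cancel_mono j]
        apply CartesianMonoidalCategory.hom_ext
        · simpa only [Category.assoc] using h1
        · simpa only [Category.assoc] using h2
      · intro T x y hxy
        obtain ⟨T', p, z, hp, hz⟩ := hE.local_lift (j ≫ snd X Y) y
        have e1 : (z ≫ j ≫ fst X Y) ≫ π = (p ≫ x) ≫ π := by
          calc (z ≫ j ≫ fst X Y) ≫ π = z ≫ (j ≫ snd X Y) ≫ f := by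
                rw [hf]; simp only [Category.assoc]
            _ = (p ≫ x) ≫ π := by
                rw [← Category.assoc, hz, Category.assoc, ← hxy, Category.assoc]
        obtain ⟨r, hr1, hr2⟩ := IsPullback.exists_lift hK _ _ e1
        have hzj : z ≫ j = lift (r ≫ p₁) (p ≫ y) := by
          apply CartesianMonoidalCategory.hom_ext
          · rw [lift_fst, hr1, Category.assoc]
          · rw [lift_snd, ← hz, Category.assoc]
        obtain ⟨z', hz'⟩ := (hstab T' r (p ≫ y)).1 ⟨z, hzj⟩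
        have hz'' : z' ≫ j = p ≫ lift x y := by
          rw [hz', hr2, comp_lift]
        obtain ⟨l, hl⟩ := hE.factor_of_epi p j (lift x y) z' hz''
        refine ⟨l, ?_, ?_⟩
        · rw [← Category.assoc, hl, lift_fst]
        · rw [← Category.assoc, hl, lift_snd]
    · intro f' hf'
      rw [← cancel_epi (j ≫ snd X Y), hf, hf'.w]
  · intro f
    refine ⟨pullback π f, lift (pullback.fst π f) (pullback.snd π f), ?_, ?_, ?_, ?_, ?_⟩
    · constructor
      intro W g₁ g₂ hg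
      apply pullback.hom_ext
      · have := congrArg (· ≫ fst X Y) hg
        simpa only [Category.assoc, lift_fst] using this
      · have := congrArg (· ≫ snd X Y) hg
        simpa only [Category.assoc, lift_snd] using this
    · intro W r y
      have key : ∀ (x : W ⟶ X), (∃ z : W ⟶ pullback π f,
          z ≫ lift (pullback.fst π f) (pullback.snd π f) = lift x y) ↔ x ≫ π = y ≫ f := by
        intro x
        constructor
        · rintro ⟨z, hz⟩
          have h1 : z ≫ pullback.fst π f = x := by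
            have := congrArg (· ≫ fst X Y) hz
            simpa only [Category.assoc, lift_fst] using this
          have h2 : z ≫ pullback.snd π f = y := by
            have := congrArg (· ≫ snd X Y) hz
            simpa only [Category.assoc, lift_snd] using this
          rw [← h1, ← h2, Category.assoc, Category.assoc, pullback.condition]
        · intro h
          refine ⟨pullback.lift x y h, ?_⟩
          rw [comp_lift, pullback.lift_fst, pullback.lift_snd]
      rw [key, key, Category.assoc, Category.assoc, hK.w]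
    · rw [lift_snd]
      exact hE.epi_snd_of_isPullback (IsPullback.of_hasPullback π f)
    · intro W z₁ z₂ hz
      simp only [lift_snd, lift_fst] at hz ⊢
      apply IsPullback.exists_lift hK
      rw [Category.assoc, Category.assoc, pullback.condition, ← Category.assoc, hz,
        Category.assoc]
    · rw [lift_fst, lift_snd]
      exact IsPullback.of_hasPullback π f

end Groth.Agent.H30.ShQuot
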