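import Groth.Agent.H30.ShQuot

/-!
# Quotient group structure, with the needed (effective) epimorphisms as explicit hypotheses

Same proofs as in `ShQuot.lean`, but the facts about epimorphisms that were derived there from
`Exact 𝒞` are taken as instance hypotheses, so the results apply e.g. to fppf quotients of group
schemes.
-/

set_option autoImplicit false
universe v u

namespace Groth.Agent.H30.ShQuot

open CategoryTheory Limits MonoidalCategory CartesianMonoidalCategory MonObj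

variable {𝒞 : Type u} [Category.{v} 𝒞] [CartesianMonoidalCategory 𝒞]

/-- `X ◁ f` is a base change of `f`. -/
theorem isPullback_whiskerLeft (X : 𝒞) {A B : 𝒞} (f : A ⟶ B) :
    IsPullback (X ◁ f) (snd X A) (snd X B) f := by
  refine IsPullback.mk' (whiskerLeft_snd X f) ?_ ?_
  · intro T φ φ' h1 h2
    apply CartesianMonoidalCategory.hom_ext _ _ ?_ h2
    have := congrArg (· ≫ fst X B) h1
    simpa only [Category.assoc, whiskerLeft_fst] using this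
  · intro T a b hab
    refine ⟨lift (a ≫ fst X B) b, ?_, lift_snd _ _⟩
    rw [lift_whiskerLeft, ← hab, lift_comp_fst_snd]

/-- `f ▷ X` is a base change of `f`. -/
theorem isPullback_whiskerRight {A B : 𝒞} (f : A ⟶ B) (X : 𝒞) :
    IsPullback (f ▷ X) (fst A X) (fst B X) f := by
  refine IsPullback.mk' (whiskerRight_fst f X) ?_ ?_
  · intro T φ φ' h1 h2
    apply CartesianMonoidalCategory.hom_ext _ _ h2
    have := congrArg (· ≫ snd B X) h1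
    simpa only [Category.assoc, whiskerRight_snd] using this
  · intro T a b hab
    refine ⟨lift b (a ≫ snd B X), ?_, lift_fst _ _⟩
    rw [lift_whiskerRight, ← hab, lift_comp_fst_snd]

section quot
variable {H G Q : 𝒞} [GrpObj H] [GrpObj G]

theorem exists_grpObj' {u : H ⟶ G} [IsMonHom u] {π : G ⟶ Q}
    [e2 : EffectiveEpi (π ⊗ₘ π)] [e3 : EffectiveEpi π] [e4 : Epi (𝟙_ 𝒞 ◁ π)]
    [e5 : Epi (π ▷ 𝟙_ 𝒞)] [e6 : Epi ((π ⊗ₘ π) ⊗ₘ π)]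
    (hK : IsKernelPair π (fst G H) ((G ◁ u) ≫ μ))
    (hn : ∀ (Y : 𝒞) (g : Y ⟶ G) (h : Y ⟶ H), ∃ h' : Y ⟶ H, g * (h ≫ u) * g⁻¹ = h' ≫ u) :
    ∃ str : GrpObj Q, @IsMonHom 𝒞 _ _ G Q _ str.toMonObj π := by
  obtain ⟨mulQ, hmul⟩ : ∃ m : Q ⊗ Q ⟶ Q, (π ⊗ₘ π) ≫ m = μ ≫ π :=
    ⟨EffectiveEpi.desc (π ⊗ₘ π) (μ ≫ π) (fun g₁ g₂ hg => mul_wd hK hn g₁ g₂ hg),
      EffectiveEpi.fac _ _ _⟩
  obtain ⟨invQ, hinv⟩ : ∃ i : Q ⟶ Q, π ≫ i = ι ≫ π :=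
    ⟨EffectiveEpi.desc π (ι ≫ π) (fun g₁ g₂ hg => inv_wd hK hn g₁ g₂ hg),
      EffectiveEpi.fac _ _ _⟩
  have key : ∀ {T : 𝒞} (a b : T ⟶ G), lift (a ≫ π) (b ≫ π) ≫ mulQ = (a * b) ≫ π := by
    intro T a b
    rw [← lift_map, Category.assoc, hmul, ← Category.assoc, lift_mul]
  refine ⟨{ one := η ≫ π, mul := mulQ, one_mul := ?_, mul_one := ?_, mul_assoc := ?_,
            inv := invQ, left_inv := ?_, right_inv := ?_ }, ?_⟩
  · rw [← cancel_epi (𝟙_ 𝒞 ◁ π)]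
    apply ext_elem₂
    intro T x y
    have L : lift x y ≫ (𝟙_ 𝒞 ◁ π) ≫ ((η ≫ π) ▷ Q) ≫ mulQ = y ≫ π := by
      rw [lift_whiskerLeft_assoc, lift_whiskerRight_assoc, ← Category.assoc x, key, comp_one_eq,
        _root_.one_mul]
    have R : lift x y ≫ (𝟙_ 𝒞 ◁ π) ≫ (λ_ Q).hom = y ≫ π := by
      rw [lift_whiskerLeft_assoc, lift_leftUnitor_hom]
    rw [L, R]
  · rw [← cancel_epi (π ▷ 𝟙_ 𝒞)]
    apply ext_elem₂
    intro T x y
    have L : lift x y ≫ (π ▷ 𝟙_ 𝒞) ≫ (Q ◁ (η ≫ π)) ≫ mulQ = x ≫ π := by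
      rw [lift_whiskerRight_assoc, lift_whiskerLeft_assoc, ← Category.assoc y, key, comp_one_eq,
        _root_.mul_one]
    have R : lift x y ≫ (π ▷ 𝟙_ 𝒞) ≫ (ρ_ Q).hom = x ≫ π := by
      rw [lift_whiskerRight_assoc, lift_rightUnitor_hom]
    rw [L, R]
  · rw [← cancel_epi ((π ⊗ₘ π) ⊗ₘ π)]
    apply ext_elem₃
    intro T x y z
    have L : lift (lift x y) z ≫ ((π ⊗ₘ π) ⊗ₘ π) ≫ (mulQ ▷ Q) ≫ mulQ = ((x * y) * z) ≫ π := by
      simp only [lift_map_assoc, lift_map, lift_whiskerRight_assoc, key]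
    have R : lift (lift x y) z ≫ ((π ⊗ₘ π) ⊗ₘ π) ≫ (α_ Q Q Q).hom ≫ (Q ◁ mulQ) ≫ mulQ =
        (x * (y * z)) ≫ π := by
      simp only [lift_map_assoc, lift_map, lift_lift_associator_hom_assoc,
        lift_whiskerLeft_assoc, key]
    rw [L, R, _root_.mul_assoc]
  · rw [← cancel_epi π, comp_lift_assoc, hinv, Category.comp_id, comp_toUnit_assoc]
    have h1 : lift (ι ≫ π) π ≫ mulQ = ((ι : G ⟶ G) * 𝟙 G) ≫ π := by
      rw [← key, Category.id_comp]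
    rw [h1, GrpObj.inv_eq_inv, inv_mul_cancel, Hom.one_def, Category.assoc]
  · rw [← cancel_epi π, comp_lift_assoc, hinv, Category.comp_id, comp_toUnit_assoc]
    have h1 : lift π (ι ≫ π) ≫ mulQ = (𝟙 G * (ι : G ⟶ G)) ≫ π := by
      rw [← key, Category.id_comp]
    rw [h1, GrpObj.inv_eq_inv, mul_inv_cancel, Hom.one_def, Category.assoc]
  · refine @IsMonHom.mk 𝒞 _ _ G Q _ ?_ π ?_ ?_
    · rfl
    · exact hmul.symm

theorem grpObj_unique' {π : G ⟶ Q} [Epi (π ⊗ₘ π)] (s₁ s₂ : GrpObj Q)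
    (h₁ : @IsMonHom 𝒞 _ _ G Q _ s₁.toMonObj π) (h₂ : @IsMonHom 𝒞 _ _ G Q _ s₂.toMonObj π) :
    s₁ = s₂ := by
  apply GrpObj.ext
  apply MonObj.ext
  rw [← cancel_epi (π ⊗ₘ π)]
  have e₁ := @IsMonHom.mul_hom 𝒞 _ _ G Q _ s₁.toMonObj π h₁
  have e₂ := @IsMonHom.mul_hom 𝒞 _ _ G Q _ s₂.toMonObj π h₂
  rw [← e₁, ← e₂]

theorem grpObj_existsUnique' {u : H ⟶ G} [IsMonHom u] {π : G ⟶ Q}
    [EffectiveEpi (π ⊗ₘ π)] [EffectiveEpi π] [Epi (𝟙_ 𝒞 ◁ π)]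
    [Epi (π ▷ 𝟙_ 𝒞)] [Epi ((π ⊗ₘ π) ⊗ₘ π)]
    (hK : IsKernelPair π (fst G H) ((G ◁ u) ≫ μ))
    (hn : ∀ (Y : 𝒞) (g : Y ⟶ G) (h : Y ⟶ H), ∃ h' : Y ⟶ H, g * (h ≫ u) * g⁻¹ = h' ≫ u) :
    ∃! str : GrpObj Q, @IsMonHom 𝒞 _ _ G Q _ str.toMonObj π := by
  obtain ⟨str, hstr⟩ := exists_grpObj' hK hn
  exact ⟨str, hstr, fun s hs => grpObj_unique' s str hs hstr⟩

/-- Universal property of the quotient group: a homomorphism killing `H` factors uniquely. -/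
theorem hom_desc' {K : 𝒞} [GrpObj Q] [GrpObj K] {u : H ⟶ G} {π : G ⟶ Q} [IsMonHom π]
    [EffectiveEpi π] [Epi (π ⊗ₘ π)]
    (hK : IsKernelPair π (fst G H) ((G ◁ u) ≫ μ))
    (f : G ⟶ K) [IsMonHom f] (hf : u ≫ f = 1) :
    ∃! g : Q ⟶ K, π ≫ g = f ∧ IsMonHom g := by
  have hwd : ∀ {Z : 𝒞} (g₁ g₂ : Z ⟶ G), g₁ ≫ π = g₂ ≫ π → g₁ ≫ f = g₂ ≫ f := by
    intro Z g₁ g₂ hg
    obtain ⟨h, hh⟩ := exists_of_eq hK _ _ hg
    rw [hh, MonObj.mul_comp g₁ (h ≫ u) f, Category.assoc, hf, MonObj.comp_one, _root_.mul_one]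
  obtain ⟨g, hg⟩ : ∃ g : Q ⟶ K, π ≫ g = f :=
    ⟨EffectiveEpi.desc π f (fun g₁ g₂ h => hwd g₁ g₂ h), EffectiveEpi.fac _ _ _⟩
  refine ⟨g, ⟨hg, ?_⟩, ?_⟩
  · constructor
    · rw [← IsMonHom.one_hom π, Category.assoc, hg, IsMonHom.one_hom f]
    · rw [← cancel_epi (π ⊗ₘ π), ← IsMonHom.mul_hom_assoc π, hg, IsMonHom.mul_hom f,
        ← Category.assoc, tensorHom_comp_tensorHom, hg]
  · rintro g' ⟨hg', -⟩
    rw [← cancel_epi π, hg, hg']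

end quot

end Groth.Agent.H30.ShQuot
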