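import Groth.Agent.H30.ShQuotCov
import Mathlib.AlgebraicGeometry.Sites.Fpqc
import Mathlib.AlgebraicGeometry.Pullbacks
import Mathlib.AlgebraicGeometry.Morphisms.Flat
import Mathlib.AlgebraicGeometry.Morphisms.FinitePresentation
import Mathlib.CategoryTheory.Limits.Constructions.Over.Connected

/-!
# fppf covers in `Over S` are effective epimorphisms, stable under base change
-/

set_option autoImplicit false
universe v u

namespace Groth.Agent.H30.ShQuot

open CategoryTheory Limits MonoidalCategory CartesianMonoidalCategory AlgebraicGeometry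

theorem effectiveEpi_over {C : Type u} [Category.{v} C] {S : C} {X Y : Over S} (f : X ⟶ Y)
    [EffectiveEpi f.left] : EffectiveEpi f := by
  have h' : ∀ {W : Over S} (e : X ⟶ W)
      (_ : ∀ {Z : Over S} (g₁ g₂ : Z ⟶ X), g₁ ≫ f = g₂ ≫ f → g₁ ≫ e = g₂ ≫ e)
      {Z : C} (g₁ g₂ : Z ⟶ X.left), g₁ ≫ f.left = g₂ ≫ f.left → g₁ ≫ e.left = g₂ ≫ e.left := by
    intro W e h Z g₁ g₂ hg
    have hw : g₂ ≫ X.hom = g₁ ≫ X.hom := by
      rw [← Over.w f, ← Category.assoc, ← Category.assoc, hg]
    have := h (Z := Over.mk (g₁ ≫ X.hom)) (Over.homMk g₁ rfl) (Over.homMk g₂ hw)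
      (Over.OverMorphism.ext hg)
    exact congrArg (fun k => k.left) this
  refine ⟨⟨{ desc := fun {W} e h => Over.homMk (EffectiveEpi.desc f.left e.left (h' e h)) ?_
             fac := ?_
             uniq := ?_ }⟩⟩
  · rw [← cancel_epi f.left, EffectiveEpi.fac_assoc, Over.w e, Over.w f]
  · intro W e h
    apply Over.OverMorphism.ext
    exact EffectiveEpi.fac f.left e.left (h' e h)
  · intro W e h m hm
    apply Over.OverMorphism.ext
    apply EffectiveEpi.uniq f.left e.left (h' e h) m.left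
    rw [← hm]
    rfl

variable {S : Scheme.{u}}

/-- fppf covers in `Over S`. -/
def IsFppf {X Y : Over S} (f : X ⟶ Y) : Prop :=
  Surjective f.left ∧ Flat f.left ∧ LocallyOfFinitePresentation f.left

namespace IsFppf

lemma effectiveEpi {X Y : Over S} {f : X ⟶ Y} (h : IsFppf f) : EffectiveEpi f := by
  obtain ⟨h1, h2, h3⟩ := h
  exact effectiveEpi_over f

lemma epi {X Y : Over S} {f : X ⟶ Y} (h : IsFppf f) : Epi f := by
  haveI := h.effectiveEpi
  infer_instance

lemma comp {X Y Z : Over S} {f : X ⟶ Y} {g : Y ⟶ Z} (hf : IsFppf f) (hg : IsFppf g) :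
    IsFppf (f ≫ g) := by
  obtain ⟨_, _, _⟩ := hf
  obtain ⟨_, _, _⟩ := hg
  refine ⟨?_, ?_, ?_⟩ <;> · rw [Over.comp_left]; infer_instance

lemma of_isPullback {P X' Y' Z : Over S} {a : P ⟶ X'} {b : P ⟶ Y'} {f : X' ⟶ Z} {g : Y' ⟶ Z}
    (h : IsPullback a b f g) (hg : IsFppf g) : IsFppf a := by
  have h' : IsPullback b.left a.left g.left f.left := (h.map (Over.forget S)).flip
  obtain ⟨h1, h2, h3⟩ := hg
  exact ⟨MorphismProperty.IsStableUnderBaseChange.of_isPullback (P := @Surjective) h' h1,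
    MorphismProperty.IsStableUnderBaseChange.of_isPullback (P := @Flat) h' h2,
    MorphismProperty.IsStableUnderBaseChange.of_isPullback
      (P := @LocallyOfFinitePresentation) h' h3⟩

lemma whiskerLeft (X : Over S) {A B : Over S} {f : A ⟶ B} (hf : IsFppf f) : IsFppf (X ◁ f) :=
  of_isPullback (isPullback_whiskerLeft X f) hf

lemma whiskerRight {A B : Over S} {f : A ⟶ B} (hf : IsFppf f) (X : Over S) : IsFppf (f ▷ X) :=
  of_isPullback (isPullback_whiskerRight f X) hf

lemma tensorHom {A B A' B' : Over S} {f : A ⟶ B} {g : A' ⟶ B'} (hf : IsFppf f) (hg : IsFppf g) :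
    IsFppf (f ⊗ₘ g) := by
  rw [tensorHom_def]
  exact (hf.whiskerRight A').comp (hg.whiskerLeft B)

end IsFppf

end Groth.Agent.H30.ShQuot
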