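import Groth.Agent.H30.ShQuot
import Groth.Agent.S5217
import Groth.Agent.S5218
import Mathlib.CategoryTheory.Sites.CartesianMonoidal
import Mathlib.CategoryTheory.Sites.Limits
import Mathlib.CategoryTheory.Sites.RegularEpi

/-!
# Sheaves of sets satisfy the exactness properties `ShQuot.Exact`
(using helper26's S5217 / S5218).
-/

set_option autoImplicit false
universe w v₁ u₁

namespace Groth.Agent.H30.ShQuot

open CategoryTheory Limits

theorem exact_sheaf {C : Type u₁} [Category.{v₁} C] (J : GrothendieckTopology C)
    [HasSheafify J (Type w)] : Exact (Sheaf J (Type w)) where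
  local_lift := by
    intro A B T f _ b
    have h := Groth.Agent.S5218.result J f
    have h' : EffectiveEpi (pullback.fst b f) :=
      h (pullback.snd b f) b (pullback.fst b f) (IsPullback.of_hasPullback b f)
    exact ⟨pullback b f, pullback.fst b f, pullback.snd b f, inferInstance,
      pullback.condition.symm⟩
  effective := by
    intro A B f _
    exact (isRegularEpi_iff_effectiveEpi f).1 (IsRegularEpiCategory.regularEpiOfEpi f)
  kernelPair := by
    intro R X p₁ p₂ h
    obtain ⟨⟨e⟩⟩ := Groth.Agent.S5217.result J p₁ p₂
    exact ⟨e.B, e.π, e.isKernelPair⟩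

end Groth.Agent.H30.ShQuot
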