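import Groth.Agent.H30.ShQuot2
import Groth.Agent.H30.ShQuotSheaf
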