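import Groth.Agent.H30.SuppPts
import Groth.Agent.H8.SuppClosed

/-!
# Coherent modules with zero-dimensional support have no higher cohomology (helper30)
-/

set_option autoImplicit false
universe u
open CategoryTheory CategoryTheory.Limits AlgebraicGeometry TopologicalSpace Opposite

namespace Groth.Agent.H30.SuppDim0

/-- In a `T0` space of Krull dimension `≤ 0` every point is closed. -/
lemma isClosed_singleton_of_dim_le_zero {T : Type*} [TopologicalSpace T] [T0Space T]
    (h : topologicalKrullDim T ≤ 0) (x : T) : IsClosed ({x} : Set T) := by
  have hmin := Order.krullDim_nonpos_iff_forall_isMin.1 h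
  have hcl : closure ({x} : Set T) = {x} := by
    apply Set.Subset.antisymm _ subset_closure
    intro y hy
    let A : IrreducibleCloseds T := ⟨closure {x}, isIrreducible_singleton.closure, isClosed_closure⟩
    let B : IrreducibleCloseds T := ⟨closure {y}, isIrreducible_singleton.closure, isClosed_closure⟩
    have hBA : B ≤ A := by
      change closure {y} ⊆ closure {x}
      exact closure_minimal (Set.singleton_subset_iff.2 hy) isClosed_closure
    have hAB : A ≤ B := hmin A hBA
    have hx : x ∈ closure ({y} : Set T) := hAB (subset_closure (Set.mem_singleton x))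
    have hins : Inseparable x y := by
      rw [inseparable_iff_closure_eq]
      exact Set.Subset.antisymm (closure_minimal (Set.singleton_subset_iff.2 hx) isClosed_closure)
        (closure_minimal (Set.singleton_subset_iff.2 hy) isClosed_closure)
    rw [Set.mem_singleton_iff]
    exact hins.eq.symm
  rw [← hcl]
  exact isClosed_closure

theorem main (X : Scheme.{u}) [IsLocallyNoetherian X]
    (F : X.Modules) (hF : Coh.IsCoh F) (hsupp : topologicalKrullDim (CohB1.support F) ≤ 0)
    (i : ℕ) (hi : 1 ≤ i) : Subsingleton (Coh.HH X F i) := by
  haveI : SheafOfModules.IsFiniteType (R := X.ringCatSheaf) F := hF.2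
  have hcl : IsClosed (CohB1.support F) := Groth.Agent.H8.isClosed_support_of_isFiniteType F
  apply Groth.Agent.H30.SuppPts.main X F _ i hi
  intro x hx
  have h1 : IsClosed ({⟨x, hx⟩} : Set (CohB1.support F)) :=
    isClosed_singleton_of_dim_le_zero hsupp _
  have h2 := hcl.isClosedEmbedding_subtypeVal.isClosedMap _ h1
  simpa using h2

end Groth.Agent.H30.SuppDim0
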