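import Groth.Agent.H30.SectCmp
import Groth.Prelude.Def_CohB1
import Groth.Agent.H45.LocCohZLib
import Mathlib

/-!
# Modules whose support consists of closed points on a locally Noetherian scheme are flasque
(helper30)
-/

set_option autoImplicit false
universe u
open CategoryTheory CategoryTheory.Limits AlgebraicGeometry TopologicalSpace Opposite

namespace Groth.Agent.H30.SuppPts

/-- In the spectrum of a Noetherian ring, a locally closed set of closed points is closed. -/
lemma isClosed_of_isLocallyClosed_spec {R : Type u} [CommRing R] [IsNoetherianRing R]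
    (s : Set (PrimeSpectrum R)) (hs : IsLocallyClosed s)
    (hpt : ∀ x ∈ s, IsClosed ({x} : Set (PrimeSpectrum R))) : IsClosed s := by
  apply PrimeSpectrum.isClosed_of_stableUnderSpecialization_of_isConstructible
  · intro x y hxy hx
    have hy : y ∈ ({x} : Set (PrimeSpectrum R)) :=
      hxy.mem_closed (hpt x hx) (Set.mem_singleton x)
    rw [Set.mem_singleton_iff] at hy
    rwa [hy]
  · obtain ⟨U, Z, hU, hZ, rfl⟩ := hs
    refine (IsCompact.isConstructible (NoetherianSpace.isCompact U) hU).inter ?_
    rw [← Topology.isConstructible_compl]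
    exact IsCompact.isConstructible (NoetherianSpace.isCompact Zᶜ) hZ.isOpen_compl

/-- In a locally Noetherian scheme, a locally closed set of closed points is closed. -/
lemma isClosed_of_isLocallyClosed (X : Scheme.{u}) [IsLocallyNoetherian X]
    (s : Set X) (hs : IsLocallyClosed s) (hpt : ∀ x ∈ s, IsClosed ({x} : Set X)) : IsClosed s := by
  rw [TopologicalSpace.IsOpenCover.isClosed_iff_coe_preimage (iSup_affineOpens_eq_top X)]
  intro U
  haveI : IsNoetherianRing Γ(X, U.1) := IsLocallyNoetherian.component_noetherian U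
  let φ := U.2.fromSpec
  have hφ : Topology.IsOpenEmbedding φ.base := φ.isOpenEmbedding
  have h1 : IsClosed (φ.base ⁻¹' s) := by
    apply isClosed_of_isLocallyClosed_spec
    · exact hs.preimage φ.base.hom.continuous
    · intro y hy
      have : ({y} : Set _) = φ.base ⁻¹' {φ.base y} := by
        ext z
        constructor
        · intro h
          rw [Set.mem_singleton_iff] at h
          rw [h]; rfl
        · intro h
          exact hφ.injective h
      rw [this]
      exact (hpt _ hy).preimage φ.base.hom.continuous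
  obtain ⟨C, hC, hCs⟩ := hφ.isInducing.isClosed_iff.1 h1
  have : (Subtype.val ⁻¹' s : Set ((U : X.Opens) : Set X)) = Subtype.val ⁻¹' C := by
    ext ⟨x, hx⟩
    have hx' : x ∈ Set.range φ.base := by
      rw [U.2.range_fromSpec]; exact hx
    obtain ⟨y, rfl⟩ := hx'
    simp only [Set.mem_preimage]
    have := Set.ext_iff.1 hCs y
    simp only [Set.mem_preimage] at this
    exact this.symm
  have h2 : IsClosed (Subtype.val ⁻¹' C : Set ((U : X.Opens) : Set X)) :=
    hC.preimage continuous_subtype_val
  rw [← this] at h2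
  exact h2

section Sheaf

variable {X : TopCat.{u}} (F : CohTop.Ab X)

/-- The locus where the germ of a section vanishes is open. -/
lemma isOpen_germ_eq_zero {V : Opens X} (s : F.obj.obj (op V)) :
    IsOpen {x : X | ∃ h : x ∈ V, TopCat.Presheaf.germ (C := AddCommGrpCat.{u}) F.obj V x h s = 0} := by
  rw [isOpen_iff_forall_mem_open]
  rintro x ⟨hx, h0⟩
  have h1 : TopCat.Presheaf.germ (C := AddCommGrpCat.{u}) F.obj V x hx s = TopCat.Presheaf.germ (C := AddCommGrpCat.{u}) F.obj V x hx 0 := by rw [h0, map_zero]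
  obtain ⟨W, hxW, iU, iV, e⟩ := TopCat.Presheaf.germ_eq F.obj x hx hx s 0 h1
  refine ⟨W.1, ?_, W.2, hxW⟩
  intro y hy
  refine ⟨iU.le hy, ?_⟩
  rw [← TopCat.Presheaf.germ_res_apply F.obj iU y hy s, e, map_zero, map_zero]

/-- If the nonvanishing locus of every section is closed in the whole space, the sheaf is
flasque. -/
theorem isFlasque_of_isClosed
    (h : ∀ (V : Opens X) (s : F.obj.obj (op V)),
      IsClosed ({x : X | ∃ h : x ∈ V, TopCat.Presheaf.germ (C := AddCommGrpCat.{u}) F.obj V x h s = 0}ᶜ ∩ V.1)) :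
    TopCat.Sheaf.IsFlasque F := by
  have key : ∀ (V : Opens X) (s : F.obj.obj (op V)),
      ∃ t : F.obj.obj (op ⊤), F.obj.map (homOfLE (le_top : V ≤ ⊤)).op t = s := by
    intro V s
    let W : Opens X := ⟨_, (h V s).isOpen_compl⟩
    have hVW : V ⊔ W = ⊤ := by
      apply le_antisymm le_top
      intro x _
      by_cases hx : x ∈ V
      · by_cases h0 : TopCat.Presheaf.germ (C := AddCommGrpCat.{u}) F.obj V x hx s = 0
        · right
          intro hx'
          exact hx'.1 ⟨hx, h0⟩
        · left; exact hx
      · right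
        intro hx'
        exact hx hx'.2
    have hzero : F.obj.map (homOfLE (inf_le_left : V ⊓ W ≤ V)).op s = 0 := by
      apply TopCat.Presheaf.section_ext (C := AddCommGrpCat.{u}) F
      intro x hx
      have hxV : x ∈ V := hx.1
      have hxW : x ∈ W := hx.2
      rw [map_zero]
      erw [TopCat.Presheaf.germ_res_apply (C := AddCommGrpCat.{u}) F.obj
        (homOfLE (inf_le_left : V ⊓ W ≤ V)) x hx s]
      by_contra hne
      apply hxW
      refine ⟨?_, hxV⟩
      rintro ⟨_, h0⟩
      exact hne h0
    obtain ⟨b, hb, -⟩ := Groth.Agent.H45.LocCohZLib.exists_glue₂ F (U₁ := V) (U₂ := W) s 0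
      (by rw [hzero, map_zero])
    refine ⟨F.obj.map (eqToHom hVW.symm).op b, ?_⟩
    rw [← hb, ← ConcreteCategory.comp_apply, ← F.obj.map_comp]
    rfl
  refine ⟨fun {U V} i => ?_⟩
  rw [AddCommGrpCat.epi_iff_surjective]
  intro s
  obtain ⟨t, ht⟩ := key V.unop s
  refine ⟨F.obj.map (homOfLE (le_top : U.unop ≤ ⊤)).op t, ?_⟩
  rw [← ht, ← ConcreteCategory.comp_apply, ← F.obj.map_comp]
  rfl

end Sheaf

/-- On a locally Noetherian scheme, a module whose support consists of closed points is flasque. -/
theorem isFlasque_toAb (X : Scheme.{u}) [IsLocallyNoetherian X] (M : X.Modules)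
    (h0 : ∀ x ∈ CohB1.support M, IsClosed ({x} : Set X)) :
    TopCat.Sheaf.IsFlasque (X := X.carrier) (Coh.toAb M) := by
  apply isFlasque_of_isClosed
  intro V s
  apply isClosed_of_isLocallyClosed X
  · exact ⟨V.1, _, V.2, (isOpen_germ_eq_zero (X := X.carrier) _ s).isClosed_compl,
      Set.inter_comm _ _⟩
  · rintro x ⟨hx1, hxV⟩
    apply h0
    intro hsub
    apply hx1
    exact ⟨hxV, @Subsingleton.elim _ hsub _ _⟩

theorem main (X : Scheme.{u}) [IsLocallyNoetherian X]
    (M : X.Modules) (h0 : ∀ x ∈ CohB1.support M, IsClosed ({x} : Set X))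
    (i : ℕ) (hi : 0 < i) : Subsingleton (Coh.HH X M i) := by
  haveI := isFlasque_toAb X M h0
  obtain ⟨j, rfl⟩ : ∃ j, i = j + 1 := ⟨i - 1, by omega⟩
  exact Groth.Agent.H30.SectCmp.acyc_of_isFlasque (X := X.carrier) (Coh.toAb M) j

end Groth.Agent.H30.SuppPts
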