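import Groth.Prelude.Def_BigSite
import Groth.Agent.H45.LanExact
import Mathlib.Algebra.Category.Grp.AB

/-!
# The inclusion of the small Zariski site into the big site (helper30 library)

`BigSite.zarIncl S : S.Opens ⥤ Over S` is representably flat, and cocontinuous for the Zariski
topology; hence `piZarPull` is left exact and `resZar` is exact.
-/

set_option autoImplicit false
universe u
open CategoryTheory CategoryTheory.Limits AlgebraicGeometry Opposite TopologicalSpace

namespace Groth.Agent.H30.ZarBig

variable (S : Scheme.{u})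

/-- A morphism `T ⟶ S` whose range lies in the open `W` factors through `W`. -/
noncomputable def liftOpen (T : Over S) (W : S.Opens) (h : Set.range T.hom ⊆ (W : Set S)) :
    T.left ⟶ W.toScheme :=
  IsOpenImmersion.lift W.ι T.hom (by rw [Scheme.Opens.range_ι]; exact h)

lemma liftOpen_fac (T : Over S) (W : S.Opens) (h : Set.range T.hom ⊆ (W : Set S)) :
    liftOpen S T W h ≫ W.ι = T.hom :=
  IsOpenImmersion.lift_fac _ _ _

lemma zarIncl_obj_left (W : S.Opens) : ((BigSite.zarIncl S).obj W).left = W.toScheme := rfl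

lemma zarIncl_obj_hom (W : S.Opens) : ((BigSite.zarIncl S).obj W).hom = W.ι := rfl

/-- A morphism `T ⟶ S` whose range lies in the open `W` factors through `W`. -/
noncomputable def toIncl (T : Over S) (W : S.Opens) (h : Set.range T.hom ⊆ (W : Set S)) :
    T ⟶ (BigSite.zarIncl S).obj W :=
  Over.homMk (U := T) (V := (BigSite.zarIncl S).obj W) (liftOpen S T W h) (liftOpen_fac S T W h)

lemma range_subset_of_hom (T : Over S) (W : S.Opens) (a : T ⟶ (BigSite.zarIncl S).obj W) :
    Set.range T.hom ⊆ (W : Set S) := by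
  have h : (show T.left ⟶ W.toScheme from a.left) ≫ W.ι = T.hom := Over.w a
  rw [← h]
  rintro _ ⟨x, rfl⟩
  exact ((show T.left ⟶ W.toScheme from a.left) x).2

lemma hom_ext_incl (T : Over S) (W : S.Opens) (a b : T ⟶ (BigSite.zarIncl S).obj W) : a = b := by
  apply Over.OverMorphism.ext
  have ha : (show T.left ⟶ W.toScheme from a.left) ≫ W.ι = T.hom := Over.w a
  have hb : (show T.left ⟶ W.toScheme from b.left) ≫ W.ι = T.hom := Over.w b
  exact (cancel_mono W.ι).1 (ha.trans hb.symm)

instance (T : Over S) (W : S.Opens) : Subsingleton (T ⟶ (BigSite.zarIncl S).obj W) :=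
  ⟨hom_ext_incl S T W⟩

theorem representablyFlat_zarIncl : RepresentablyFlat (BigSite.zarIncl S) := by
  constructor
  intro T
  refine @IsCofiltered.mk _ _ ?_ ?_
  · constructor
    · intro X Y
      have hX := range_subset_of_hom S T X.right X.hom
      have hY := range_subset_of_hom S T Y.right Y.hom
      refine ⟨StructuredArrow.mk (toIncl S T (X.right ⊓ Y.right) (fun x hx => ⟨hX hx, hY hx⟩)),
        StructuredArrow.homMk (homOfLE inf_le_left) (Subsingleton.elim _ _),
        StructuredArrow.homMk (homOfLE inf_le_right) (Subsingleton.elim _ _), trivial⟩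
    · intro X Y f g
      refine ⟨X, 𝟙 X, ?_⟩
      congr 1
      apply StructuredArrow.ext
      exact Subsingleton.elim _ _
  · exact ⟨StructuredArrow.mk (toIncl S T ⊤ (fun x _ => trivial))⟩

theorem isCocontinuous_zarIncl :
    (BigSite.zarIncl S).IsCocontinuous (Opens.grothendieckTopology S)
      (QuotSh.J Scheme.zariskiPrecoverage S) := by
  constructor
  intro U R hR
  rw [GrothendieckTopology.mem_over_iff] at hR
  obtain ⟨𝒰, hle⟩ := Scheme.mem_grothendieckTopology_iff.1 hR
  intro x hx
  obtain ⟨i, y, hy⟩ := 𝒰.exists_eq (show U.toScheme from ⟨x, hx⟩)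
  let V : S.Opens := U.ι ''ᵁ (𝒰.f i).opensRange
  have hVU : V ≤ U := by
    rintro _ ⟨u, _, rfl⟩
    exact u.2
  have hrange : Set.range (S.homOfLE hVU) ⊆ Set.range (𝒰.f i) := by
    rintro _ ⟨v, rfl⟩
    obtain ⟨u, hu, huv⟩ := v.2
    have : u = S.homOfLE hVU v := by
      apply Subtype.ext
      have h3 : (S.homOfLE hVU v).1 = v.1 := Scheme.homOfLE_apply _ _
      rw [h3]
      exact huv
    rw [← this]
    exact hu
  let g : V.toScheme ⟶ 𝒰.X i := IsOpenImmersion.lift (𝒰.f i) (S.homOfLE hVU) hrange
  have hg : g ≫ 𝒰.f i = S.homOfLE hVU := IsOpenImmersion.lift_fac _ _ _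
  have h1 : (Sieve.overEquiv _ R).arrows (𝒰.f i) := hle _ _ (Presieve.ofArrows.mk i)
  have h2 : (Sieve.overEquiv _ R).arrows (S.homOfLE hVU) := by
    rw [← hg]
    exact (Sieve.overEquiv _ R).downward_closed h1 g
  rw [Sieve.overEquiv_iff] at h2
  refine ⟨V, homOfLE hVU, ?_, ?_⟩
  · let e : (BigSite.zarIncl S).obj V ≅
        Over.mk (S.homOfLE hVU ≫ ((BigSite.zarIncl S).obj U).hom) :=
      Over.isoMk (Iso.refl _) (by
        show 𝟙 _ ≫ S.homOfLE hVU ≫ U.ι = V.ι
        simp)
    have : (BigSite.zarIncl S).map (homOfLE hVU) = e.hom ≫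
        (Over.homMk (show (Over.mk (S.homOfLE hVU ≫ ((BigSite.zarIncl S).obj U).hom)).left ⟶
          ((BigSite.zarIncl S).obj U).left from S.homOfLE hVU) rfl :
          Over.mk (S.homOfLE hVU ≫ ((BigSite.zarIncl S).obj U).hom) ⟶
            (BigSite.zarIncl S).obj U) := by
      apply Over.OverMorphism.ext
      show S.homOfLE hVU = 𝟙 _ ≫ S.homOfLE hVU
      simp
    show R.arrows ((BigSite.zarIncl S).map (homOfLE hVU))
    rw [this]
    exact R.downward_closed h2 e.hom
  · exact ⟨⟨x, hx⟩, ⟨y, hy⟩, rfl⟩

theorem hasExactColimitsOfShape_costructuredArrow_zarIncl (V : (Over S)ᵒᵖ) :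
    HasExactColimitsOfShape (CostructuredArrow (BigSite.zarIncl S).op V) AddCommGrpCat.{u + 1} := by
  have := representablyFlat_zarIncl S
  have : HasFilteredColimitsOfSize.{u, u} AddCommGrpCat.{u + 1} :=
    hasFilteredColimitsOfSize_of_univLE.{u, u, u + 1, u + 1}
  have : AB5OfSize.{u, u} AddCommGrpCat.{u + 1} :=
    AB5OfSize_of_univLE.{u, u, u + 1, u + 1} AddCommGrpCat.{u + 1}
  have : IsFiltered (CostructuredArrow (BigSite.zarIncl S).op V) :=
    IsFiltered.of_equivalence (structuredArrowOpEquivalence (BigSite.zarIncl S) (unop V))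
  exact AB5OfSize.ofShape _

/-- `π_{Zar}⁻¹` (small Zariski site to big site) is left exact. -/
theorem preservesFiniteLimits_piZarPull (K : Precoverage Scheme.{u}) [BigSite.ZarCont K S] :
    PreservesFiniteLimits (BigSite.piZarPull K S) := by
  have := representablyFlat_zarIncl S
  have : ∀ V : (Over S)ᵒᵖ,
      HasExactColimitsOfShape (CostructuredArrow (BigSite.zarIncl S).op V)
        AddCommGrpCat.{u + 1} :=
    fun V => hasExactColimitsOfShape_costructuredArrow_zarIncl S V
  exact Groth.Agent.H45.sheafPullback_preservesFiniteLimits' (BigSite.zarIncl S)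
    AddCommGrpCat.{u + 1} _ _

/-- Restriction to the small Zariski site is right exact for the Zariski topology. -/
theorem preservesFiniteColimits_resZar [BigSite.ZarCont Scheme.zariskiPrecoverage S] :
    PreservesFiniteColimits (BigSite.resZar Scheme.zariskiPrecoverage S) := by
  have := isCocontinuous_zarIncl S
  haveI := ((BigSite.zarIncl S).sheafAdjunctionCocontinuous AddCommGrpCat.{u + 1}
    (Opens.grothendieckTopology S)
    (QuotSh.J Scheme.zariskiPrecoverage S)).leftAdjoint_preservesColimits
  infer_instance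

noncomputable def isTerminal_zarIncl_top : IsTerminal ((BigSite.zarIncl S).obj ⊤) := by
  refine IsTerminal.ofUniqueHom (fun T => toIncl S T ⊤ (fun x _ => trivial)) ?_
  intro T m
  exact Subsingleton.elim _ _

end Groth.Agent.H30.ZarBig
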